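import Cfsg.Agent.ON.FinD

/-! Checks for the automorphism of the group of order 256 induced by an element that swaps the involutions. -/

set_option autoImplicit false
set_option maxRecDepth 100000
set_option Elab.async false

namespace Cfsg.ON

open Cfsg.H6 Subgroup

noncomputable def mt (i j : ℕ) : ℕ := Nat.land (Nat.shiftRight tMT
  (Nat.mul (nat_lit 8) (Nat.add (Nat.mul (nat_lit 256) i) j))) (nat_lit 255)
noncomputable def ivx (i : ℕ) : ℕ :=
  Nat.land (Nat.shiftRight tIV (Nat.mul (nat_lit 8) i)) (nat_lit 255)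
noncomputable def pwx (i : ℕ) : ℕ :=
  Nat.land (Nat.shiftRight tPW (Nat.mul (nat_lit 20) i)) (nat_lit 1048575)

theorem land_lt (x : ℕ) : Nat.land x (nat_lit 255) < 256 := by
  rw [land_mask _ 8 _ (by rfl)]; exact Nat.mod_lt _ (by norm_num)

theorem mt_lt (i j : ℕ) : mt i j < 256 := land_lt _
theorem ivx_lt (i : ℕ) : ivx i < 256 := land_lt _

noncomputable def g3 (a b c l : ℕ) : ℕ := sel (nat_lit 2) l a (sel (nat_lit 3) l b c)

noncomputable def fold (a b c f : ℕ) : ℕ → ℕ → ℕ :=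
  @Nat.rec (fun _ => ℕ → ℕ → ℕ) (fun _ acc => acc)
    (fun _ ih W acc => @Bool.rec (fun _ => ℕ)
      (frc (fun W' => frc (ih W') (mt acc (g3 a b c (Nat.mod W (nat_lit 4))))) (Nat.div W (nat_lit 4)))
      acc (Nat.beq W (nat_lit 0))) f

noncomputable def aut (a b c j : ℕ) : ℕ := frc (fun W => fold a b c 10 W 0) (pwx j)

noncomputable def cjx (z x : ℕ) : ℕ := mt (mt (ivx x) z) x

def pk (a b c : ℕ) : ℕ := Nat.add a (Nat.add (Nat.mul 256 b) (Nat.mul 65536 c))

noncomputable def innB (a b c : ℕ) : Bool := frcB (fun k => InnL.any (Nat.beq k)) (pk a b c)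

noncomputable def nb (a b : ℕ) : Bool := !Nat.beq a b

noncomputable def cub (a b c j : ℕ) : ℕ :=
  aut a b c (aut 205 76 182 (aut a b c (aut 205 76 182 (aut a b c (aut 205 76 182 j)))))

noncomputable def leaf (a b c : ℕ) : Bool :=
  nb (mt c c) 10 || nb (fold a b c 14 250019581 0) 0 || nb (fold a b c 14 232390142 0) 0 ||
  nb (aut a b c 230) 243 || !innB (aut a b c a) (aut a b c b) (aut a b c c) ||
  !innB (cub a b c 1) (cub a b c 2) (cub a b c 3) ||
  (List.range 256).any fun x => Nat.beq (cjx a x) 2 && Nat.beq (cjx b x) 1 &&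
    [3, 25, 63, 170].any (Nat.beq (cjx c x))

noncomputable def alphaChk : Bool :=
  allR (frcB fun a => nb (mt a a) 0 || allR (frcB fun b => nb (mt b b) 0 ||
    nb (mt (mt (mt b a) (mt b a)) (mt (mt b a) (mt b a))) 10 || allR (frcB (leaf a b)) 0 256) 0 256) 0 256

theorem alpha_chk : alphaChk = true := by decide +kernel

theorem m3 : allR (frcB fun j => frcB (fun W => allR (frcB fun i =>
    Nat.beq (mt i j) (fold 1 2 3 10 W i)) 0 256) (pwx j)) 0 256 = true := by decide +kernel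

theorem m5 : allR (fun x => Nat.beq (mt 0 x) x && Nat.beq (mt (ivx x) x) 0 &&
    innB (cjx 1 x) (cjx 2 x) (cjx 3 x)) 0 256 = true := by decide +kernel

theorem m4 : LD6 = IX.map (nthW SW) ∧ IX.all (fun j => Nat.blt j 256) = true := by decide +kernel

theorem m1 : allR (fun i => eqB (iB th6) 36 (nthW SW i ++ kd6.y) (kd6.y ++ nthW SW i) &&
    [1, 2, 3].all fun l => eqB (iB th6) 36 (nthW SW i ++ nthW SW l) (nthW SW (mt i l))) 0 256 = true := by
  decide +kernel

theorem m6 : (eqB (iB th6) 36 (nthW SW 230) kd6.y && eqB (iB th6) 36 (nthW SW 243) [7, 7] &&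
    eqB (iB th6) 36 (kd6.s ++ nthW SW 1) (nthW SW 205 ++ kd6.s) &&
    eqB (iB th6) 36 (kd6.s ++ nthW SW 2) (nthW SW 76 ++ kd6.s) &&
    eqB (iB th6) 36 (kd6.s ++ nthW SW 3) (nthW SW 182 ++ kd6.s)) = true := by decide +kernel

theorem m7 : mt 230 243 = 10 ∧ mt 1 1 = 0 ∧ mt 2 2 = 0 ∧ mt 3 3 = 10 ∧
    mt (mt (mt 2 1) (mt 2 1)) (mt (mt 2 1) (mt 2 1)) = 10 ∧ fold 1 2 3 14 250019581 0 = 0 ∧
    fold 1 2 3 14 232390142 0 = 0 := by decide +kernel

end Cfsg.ON
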