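import Cfsg.Agent.ON.Fin1

/-! Checks for the construction of the missing generator. -/

set_option autoImplicit false
set_option maxRecDepth 100000
set_option Elab.async false

namespace Cfsg.ON

open Cfsg.H6 Subgroup

def L6 : List (List ℕ) := [[], [7, 7], [8], [8, 7], [8, 7, 7], [8, 7, 7, 7]]

def V48 : List (List ℕ) := V3 ++ V3.map (· ++ [8])

theorem f1 : fixChk (iB th6) 7680 [3] V48 = true := by decide +kernel

theorem f2 : (prods V48).all (fun w => !eqB (iB th6) 36 (w ++ [3]) ([3] ++ w) ||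
    !eqB (iB th6) 36 (w ++ [5]) ([5] ++ w) || !eqB (iB th6) 36 (w ++ w) [] ||
    L6.any (eqB (iB th6) 36 w)) = true := by decide +kernel

theorem f3 : L6.all (fun v => eqB (iB th6) 36 v [] || eqB (iB th6) 36 v [7, 7] ||
    (eqB (iB th6) 36 (v ++ [7] ++ (v ++ [7])) [] &&
      eqB (iB th6) 36 (v ++ [7] ++ v ++ (v ++ [7])) (v ++ [7, 7]) &&
      L6.all fun w => !eqB (iB th6) 36 (w ++ v ++ w) (v ++ [7, 7]) ||
        eqB (iB th6) 36 w (v ++ [7]) || eqB (iB th6) 36 w (v ++ [7] ++ [7, 7]))) = true := by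
  decide +kernel

theorem f4 : (eqB (iB th6) 36 (rp 3 [3]) [] && eqB (iB th6) 36 (rp 3 [5]) [] &&
    eqB (iB th6) 36 [3, 5] [5, 3] && eqB (iB th6) 36 [8, 3] [3, 8] &&
    eqB (iB th6) 36 [8, 5] [5, 8] && eqB (iB th6) 36 [8, 8] [] &&
    eqB (iB th6) 36 [7, 3] [3, 7] && eqB (iB th6) 36 [7, 5] [5, 7] &&
    !eqB (iB th6) 36 [3] [] && !eqB (iB th6) 36 [5] [] && !eqB (iB th6) 36 [3] [5] &&
    !eqB (iB th6) 36 [3, 5] [] && !eqB (iB th6) 36 [8] [7, 7] &&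
    eqB (iB th6) 36 ([3] ++ kd6.y ++ [3]) kd6.y && eqB (iB th6) 36 ([5] ++ kd6.y ++ [5]) kd6.y &&
    eqB (iB th6) 36 ([8] ++ kd6.y) (kd6.y ++ [8])) = true := by decide +kernel

def n0 : List ℕ := [1, 1, 6, 1, 4]

theorem f5 : (eqB (iB th6) 36 (nthW SW 1 ++ nthW SW 1) [] && !eqB (iB th6) 36 (nthW SW 1) [] &&
    !eqB (iB th6) 36 (nthW SW 1) [7, 7] && Nat.blt (trF (iB th6) (nthW SW 1) 0) 3840 &&
    eqB (iB th6) 36 (nthW SW 2) [8] && eqB (iB th6) 36 (rp 4 (nthW SW 3)) [] &&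
    eqB (iB th6) 36 (nthW SW 3 ++ [3]) ([3, 3, 5, 5] ++ nthW SW 3) &&
    eqB (iB th6) 36 (kd6.y ++ n0) (n0 ++ kd6.y ++ nthW SW 1)) = true := by decide +kernel

def Om : List (List ℕ) := [[0, 1, 0], [0, 1, 3, 0, 3, 0, 3], [1, 0, 1], [1, 0, 2, 1, 2, 1, 2]]

noncomputable def rho (N : List ℕ) (c : ℕ) : List (List ℕ) :=
  [N, rp 3 (nthW SW c) ++ N ++ nthW SW c, nthW SW 1, rp 3 (nthW SW c) ++ nthW SW 1 ++ nthW SW c]

noncomputable def tau (c jd jg : ℕ) (e : List ℕ) : List (List ℕ) :=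
  [[], [], [], nthW SW (aut 2 1 c 1), nthW SW (aut 2 1 c jd), e, kd6.y, nthW SW (aut 2 1 c jg)]

noncomputable def mainChk (c jd jg : ℕ) : Bool :=
  Nat.beq (aut 2 1 c 2) 1 && Nat.beq (aut 2 1 c 3) c &&
  Nat.ble 3840 (trF (iB th6) (kd6.y ++ nthW SW (aut 2 1 c 76)) 0) &&
  allR (frcB fun j => !eqB (iB th6) 36 (nthW SW j ++ n0 ++ (nthW SW j ++ n0)) [] ||
    !eqB (iB th6) 36 (nthW SW j ++ n0 ++ nthW SW 1) (nthW SW 1 ++ (nthW SW j ++ n0)) ||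
    Om.any fun o => RE.all fun w =>
      eqB (iB th6) 36 (subst (tau c jd jg (subst (rho (nthW SW j ++ n0) c) o)) w) []) 0 256

def CW (l : List ℕ) : List (List ℕ) := [[], [2, 4, 3, 4, 7, 2, 3, 4, 3, 4, 7, 2, 7, 3, 7],
  [3, 4, 3, 7, 2, 7, 3, 4, 3, 2, 7, 3, 4, 3], [1, 2], [2, 1], [2, 1, 6, 7, 2, 7], [1, 6, 7, 2, 7, 2],
  [1, 7, 4, 7, 4], l]

theorem ch0 : chartChk (nthW SW 1) (nthW SW 2) (nthW SW 3) [] (CW [4]) = true := by decide +kernel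

theorem ch1 : chartChk (nthW SW 1) (nthW SW 102) (nthW SW 214) [1, 5, 2, 3, 6, 1, 3, 5, 2]
    (CW [1, 7, 4, 7]) = true := by decide +kernel

theorem mc3 : mainChk 3 2 3 = true := by decide +kernel
theorem mc25 : mainChk 25 102 214 = true := by decide +kernel
theorem mc63 : mainChk 63 102 214 = true := by decide +kernel
theorem mc170 : mainChk 170 2 3 = true := by decide +kernel

end Cfsg.ON
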