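import Cfsg.Agent.ON.Kill2

/-! Data and checks for one of the candidates. -/

set_option autoImplicit false
set_option maxRecDepth 100000
set_option Elab.async false

namespace Cfsg.ON

open Cfsg.H6

def LC0 : List (List ℕ) := [[nat_lit 5,nat_lit 1,nat_lit 4,nat_lit 6,nat_lit 2],
  [nat_lit 1,nat_lit 3,nat_lit 6,nat_lit 2,nat_lit 2,nat_lit 5],
  [nat_lit 6,nat_lit 2,nat_lit 6],
  [nat_lit 2,nat_lit 5,nat_lit 1,nat_lit 5,nat_lit 2],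
  [nat_lit 1,nat_lit 1,nat_lit 5,nat_lit 2,nat_lit 3,nat_lit 5],
  [nat_lit 5,nat_lit 1,nat_lit 5,nat_lit 2,nat_lit 3],
  [nat_lit 6,nat_lit 1,nat_lit 1,nat_lit 5],
  [nat_lit 5,nat_lit 1,nat_lit 3,nat_lit 5,nat_lit 1,nat_lit 3],
  [nat_lit 5,nat_lit 1,nat_lit 4,nat_lit 5],
  [nat_lit 1,nat_lit 6,nat_lit 1,nat_lit 6,nat_lit 2,nat_lit 4],
  [nat_lit 3,nat_lit 5,nat_lit 1,nat_lit 3],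
  [nat_lit 2,nat_lit 2,nat_lit 5,nat_lit 2,nat_lit 6],
  [nat_lit 1,nat_lit 1,nat_lit 1,nat_lit 6],
  [nat_lit 2,nat_lit 4,nat_lit 5,nat_lit 1,nat_lit 6,nat_lit 2],
  [nat_lit 1,nat_lit 1,nat_lit 5,nat_lit 2],
  [nat_lit 3,nat_lit 5,nat_lit 1,nat_lit 3,nat_lit 5,nat_lit 1],
  [nat_lit 1,nat_lit 1,nat_lit 4,nat_lit 6],
  [nat_lit 2,nat_lit 6,nat_lit 2,nat_lit 5,nat_lit 1],
  [nat_lit 2,nat_lit 2,nat_lit 5],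
  [nat_lit 6,nat_lit 2,nat_lit 2,nat_lit 6,nat_lit 2],
  [nat_lit 4,nat_lit 2,nat_lit 5,nat_lit 2,nat_lit 5],
  [nat_lit 2,nat_lit 2,nat_lit 2,nat_lit 6,nat_lit 2,nat_lit 6],
  [nat_lit 6,nat_lit 1,nat_lit 4,nat_lit 5],
  [nat_lit 2,nat_lit 5,nat_lit 1,nat_lit 6,nat_lit 1,nat_lit 5],
  [nat_lit 5,nat_lit 1,nat_lit 4],
  [nat_lit 2,nat_lit 5,nat_lit 1,nat_lit 5,nat_lit 1,nat_lit 3],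
  [nat_lit 1,nat_lit 6,nat_lit 1,nat_lit 6,nat_lit 2,nat_lit 5],
  [nat_lit 5,nat_lit 1,nat_lit 6],
  [nat_lit 2,nat_lit 3],
  [nat_lit 3,nat_lit 2,nat_lit 5,nat_lit 2,nat_lit 6,nat_lit 2,nat_lit 5],
  [nat_lit 5,nat_lit 1,nat_lit 6,nat_lit 2],
  [nat_lit 1,nat_lit 1,nat_lit 6,nat_lit 2,nat_lit 5,nat_lit 1],
  [nat_lit 1,nat_lit 1,nat_lit 4,nat_lit 5,nat_lit 2,nat_lit 5],
  [nat_lit 3,nat_lit 2,nat_lit 6,nat_lit 2,nat_lit 3],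
  [nat_lit 5,nat_lit 2],
  [nat_lit 2,nat_lit 5,nat_lit 1,nat_lit 4,nat_lit 5],
  [nat_lit 3,nat_lit 2,nat_lit 5,nat_lit 1,nat_lit 5],
  [nat_lit 1,nat_lit 3,nat_lit 6,nat_lit 1,nat_lit 1],
  [nat_lit 4,nat_lit 5],
  [nat_lit 1,nat_lit 5,nat_lit 1,nat_lit 4,nat_lit 6,nat_lit 1],
  [nat_lit 4,nat_lit 2,nat_lit 6,nat_lit 1,nat_lit 4],
  [nat_lit 1,nat_lit 1,nat_lit 6,nat_lit 2,nat_lit 3,nat_lit 5],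
  [nat_lit 5,nat_lit 2,nat_lit 6,nat_lit 1,nat_lit 5,nat_lit 1],
  [nat_lit 1,nat_lit 4],
  [nat_lit 2,nat_lit 2,nat_lit 5,nat_lit 2,nat_lit 2],
  [nat_lit 2,nat_lit 6,nat_lit 1,nat_lit 1,nat_lit 5],
  [nat_lit 2,nat_lit 3,nat_lit 2,nat_lit 5,nat_lit 2],
  [nat_lit 3,nat_lit 2,nat_lit 6,nat_lit 1,nat_lit 5],
  [nat_lit 2,nat_lit 6,nat_lit 2,nat_lit 6,nat_lit 2,nat_lit 2],
  [nat_lit 1,nat_lit 6],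
  [nat_lit 1,nat_lit 5,nat_lit 2,nat_lit 3],
  [nat_lit 1,nat_lit 1,nat_lit 5,nat_lit 1,nat_lit 1,nat_lit 6],
  [nat_lit 5,nat_lit 2,nat_lit 6,nat_lit 1,nat_lit 4,nat_lit 5],
  [nat_lit 2,nat_lit 3,nat_lit 2],
  [nat_lit 1,nat_lit 1,nat_lit 6,nat_lit 2,nat_lit 3],
  [nat_lit 1,nat_lit 6,nat_lit 2,nat_lit 2,nat_lit 5,nat_lit 2],
  [nat_lit 2,nat_lit 4,nat_lit 5,nat_lit 2],
  [nat_lit 1,nat_lit 4,nat_lit 6,nat_lit 2],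
  [nat_lit 1,nat_lit 1,nat_lit 6,nat_lit 1,nat_lit 3,nat_lit 5,nat_lit 1],
  [nat_lit 1,nat_lit 4,nat_lit 6,nat_lit 1,nat_lit 5],
  [nat_lit 2,nat_lit 6,nat_lit 2,nat_lit 6,nat_lit 1,nat_lit 4],
  [nat_lit 1,nat_lit 4,nat_lit 1,nat_lit 6],
  [nat_lit 3,nat_lit 2,nat_lit 6,nat_lit 2,nat_lit 2],
  [nat_lit 1,nat_lit 1,nat_lit 6,nat_lit 1,nat_lit 5],
  [nat_lit 2,nat_lit 2,nat_lit 5,nat_lit 2,nat_lit 2,nat_lit 6],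
  [nat_lit 2,nat_lit 6,nat_lit 1,nat_lit 1],
  [nat_lit 1,nat_lit 4,nat_lit 5,nat_lit 2],
  [nat_lit 2,nat_lit 5,nat_lit 2,nat_lit 5,nat_lit 1,nat_lit 4],
  [nat_lit 1,nat_lit 1,nat_lit 6,nat_lit 1,nat_lit 1],
  [nat_lit 3,nat_lit 6,nat_lit 2,nat_lit 6,nat_lit 2,nat_lit 2],
  [nat_lit 1,nat_lit 6,nat_lit 1,nat_lit 1],
  [nat_lit 2,nat_lit 6,nat_lit 2,nat_lit 6],
  [nat_lit 5,nat_lit 2,nat_lit 2,nat_lit 6],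
  [nat_lit 1,nat_lit 1,nat_lit 4,nat_lit 5,nat_lit 1,nat_lit 5],
  [nat_lit 1,nat_lit 5,nat_lit 2,nat_lit 3,nat_lit 6,nat_lit 2],
  [nat_lit 1,nat_lit 4,nat_lit 1,nat_lit 5],
  [nat_lit 3,nat_lit 2],
  [nat_lit 1,nat_lit 5,nat_lit 2,nat_lit 6,nat_lit 2,nat_lit 2,nat_lit 6],
  [nat_lit 4,nat_lit 6,nat_lit 2],
  [nat_lit 2,nat_lit 5,nat_lit 1,nat_lit 6,nat_lit 2,nat_lit 2],
  [nat_lit 6,nat_lit 1,nat_lit 5],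
  [nat_lit 1,nat_lit 5,nat_lit 1,nat_lit 5,nat_lit 2,nat_lit 6],
  [nat_lit 3,nat_lit 1,nat_lit 5,nat_lit 1,nat_lit 1],
  [nat_lit 3,nat_lit 5,nat_lit 2,nat_lit 3,nat_lit 5],
  [nat_lit 6,nat_lit 1,nat_lit 3],
  [nat_lit 2,nat_lit 5,nat_lit 1,nat_lit 6,nat_lit 1,nat_lit 4],
  [nat_lit 1,nat_lit 4,nat_lit 5,nat_lit 2,nat_lit 3,nat_lit 6],
  [nat_lit 1,nat_lit 3,nat_lit 1,nat_lit 5,nat_lit 1],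
  [nat_lit 1,nat_lit 1,nat_lit 1,nat_lit 6,nat_lit 1],
  [nat_lit 2,nat_lit 4,nat_lit 5,nat_lit 1,nat_lit 6],
  [nat_lit 2,nat_lit 6,nat_lit 2,nat_lit 6,nat_lit 2],
  [nat_lit 1,nat_lit 6,nat_lit 1],
  [nat_lit 3,nat_lit 6,nat_lit 2,nat_lit 3,nat_lit 5,nat_lit 2],
  [nat_lit 3,nat_lit 6,nat_lit 1,nat_lit 5,nat_lit 1],
  [nat_lit 1,nat_lit 3,nat_lit 1,nat_lit 5,nat_lit 2],
  [nat_lit 2,nat_lit 4,nat_lit 5,nat_lit 1,nat_lit 5,nat_lit 1],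
  [nat_lit 1,nat_lit 1,nat_lit 4,nat_lit 5],
  [nat_lit 5,nat_lit 2,nat_lit 2,nat_lit 5,nat_lit 2],
  [nat_lit 3,nat_lit 6,nat_lit 2,nat_lit 5,nat_lit 1,nat_lit 1],
  [nat_lit 4,nat_lit 6,nat_lit 2,nat_lit 5,nat_lit 1],
  [nat_lit 1,nat_lit 3,nat_lit 6,nat_lit 1,nat_lit 3],
  [nat_lit 2,nat_lit 6,nat_lit 2,nat_lit 4,nat_lit 6],
  [nat_lit 1,nat_lit 3,nat_lit 6,nat_lit 1,nat_lit 5,nat_lit 2,nat_lit 4],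
  [nat_lit 2,nat_lit 2,nat_lit 2,nat_lit 5,nat_lit 2],
  [nat_lit 2,nat_lit 2,nat_lit 6,nat_lit 1,nat_lit 4,nat_lit 5],
  [nat_lit 1,nat_lit 3,nat_lit 1,nat_lit 6,nat_lit 2],
  [nat_lit 5,nat_lit 1,nat_lit 3,nat_lit 5,nat_lit 1,nat_lit 5],
  [nat_lit 2,nat_lit 2,nat_lit 6,nat_lit 2],
  [nat_lit 2,nat_lit 5,nat_lit 1,nat_lit 6,nat_lit 2],
  [nat_lit 4,nat_lit 6],
  [nat_lit 3,nat_lit 6,nat_lit 2,nat_lit 6],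
  [nat_lit 1,nat_lit 1,nat_lit 4,nat_lit 6,nat_lit 1,nat_lit 3],
  [nat_lit 5,nat_lit 1,nat_lit 1,nat_lit 6,nat_lit 2,nat_lit 4],
  [nat_lit 2,nat_lit 2,nat_lit 6,nat_lit 1,nat_lit 6],
  [nat_lit 5,nat_lit 1,nat_lit 1,nat_lit 5],
  [nat_lit 2,nat_lit 2,nat_lit 5,nat_lit 2,nat_lit 3],
  [nat_lit 2,nat_lit 6,nat_lit 2,nat_lit 5],
  [nat_lit 1,nat_lit 1,nat_lit 5,nat_lit 2,nat_lit 2],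
  [nat_lit 1,nat_lit 3,nat_lit 6,nat_lit 1,nat_lit 5],
  [nat_lit 3,nat_lit 5,nat_lit 1],
  [nat_lit 3,nat_lit 2,nat_lit 5,nat_lit 2,nat_lit 5],
  [nat_lit 2,nat_lit 6,nat_lit 2,nat_lit 3],
  [nat_lit 1,nat_lit 5,nat_lit 1,nat_lit 6,nat_lit 2,nat_lit 3],
  [nat_lit 2,nat_lit 3,nat_lit 6,nat_lit 1,nat_lit 6],
  [nat_lit 5,nat_lit 2,nat_lit 6,nat_lit 2,nat_lit 2,nat_lit 5],
  [nat_lit 2,nat_lit 4,nat_lit 6],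
  [nat_lit 1,nat_lit 5,nat_lit 2,nat_lit 4,nat_lit 5,nat_lit 2,nat_lit 6],
  [nat_lit 1,nat_lit 1,nat_lit 6,nat_lit 1,nat_lit 3,nat_lit 6,nat_lit 1],
  [nat_lit 4,nat_lit 2,nat_lit 6,nat_lit 1,nat_lit 3],
  [nat_lit 3,nat_lit 1],
  [nat_lit 1,nat_lit 6,nat_lit 2],
  [nat_lit 1,nat_lit 1,nat_lit 6,nat_lit 2,nat_lit 5],
  [nat_lit 2,nat_lit 5,nat_lit 2,nat_lit 5],
  [nat_lit 1,nat_lit 5,nat_lit 1,nat_lit 1],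
  [nat_lit 1,nat_lit 1,nat_lit 6,nat_lit 1,nat_lit 6],
  [nat_lit 1,nat_lit 3,nat_lit 6,nat_lit 2,nat_lit 3],
  [nat_lit 4,nat_lit 1,nat_lit 5],
  [nat_lit 5,nat_lit 2,nat_lit 6,nat_lit 1,nat_lit 6],
  [nat_lit 2,nat_lit 6,nat_lit 1],
  [nat_lit 1,nat_lit 3,nat_lit 6,nat_lit 1,nat_lit 5,nat_lit 1,nat_lit 4],
  [nat_lit 1,nat_lit 5],
  [nat_lit 2,nat_lit 5,nat_lit 2,nat_lit 5,nat_lit 2,nat_lit 2],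
  [nat_lit 3,nat_lit 1,nat_lit 5],
  [nat_lit 1,nat_lit 5,nat_lit 2,nat_lit 4,nat_lit 5,nat_lit 2],
  [nat_lit 3,nat_lit 2,nat_lit 5,nat_lit 2,nat_lit 3,nat_lit 5],
  [nat_lit 1,nat_lit 1,nat_lit 4,nat_lit 6,nat_lit 2],
  [nat_lit 1,nat_lit 1,nat_lit 5],
  [nat_lit 2,nat_lit 6,nat_lit 2,nat_lit 5,nat_lit 1,nat_lit 1],
  [nat_lit 2,nat_lit 5,nat_lit 1,nat_lit 5,nat_lit 2,nat_lit 6],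
  [nat_lit 1,nat_lit 5,nat_lit 2,nat_lit 3,nat_lit 6,nat_lit 2,nat_lit 6],
  [nat_lit 1,nat_lit 4,nat_lit 5,nat_lit 1,nat_lit 3],
  [nat_lit 6,nat_lit 2,nat_lit 5],
  [nat_lit 1,nat_lit 4,nat_lit 1],
  [nat_lit 2,nat_lit 2,nat_lit 6,nat_lit 1,nat_lit 1,nat_lit 6],
  [nat_lit 3,nat_lit 5,nat_lit 1,nat_lit 5,nat_lit 1],
  [nat_lit 1,nat_lit 4,nat_lit 1,nat_lit 5,nat_lit 2],
  [nat_lit 2,nat_lit 5,nat_lit 1,nat_lit 3],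
  [nat_lit 5,nat_lit 2,nat_lit 4,nat_lit 6],
  [nat_lit 3,nat_lit 6,nat_lit 2,nat_lit 3,nat_lit 5],
  [nat_lit 3,nat_lit 1,nat_lit 6,nat_lit 1,nat_lit 1,nat_lit 6],
  [nat_lit 2,nat_lit 6,nat_lit 2],
  [nat_lit 1,nat_lit 6,nat_lit 1,nat_lit 1,nat_lit 5],
  [nat_lit 5,nat_lit 1,nat_lit 6,nat_lit 2,nat_lit 4,nat_lit 6],
  [nat_lit 2,nat_lit 2,nat_lit 6,nat_lit 1],
  [nat_lit 3,nat_lit 1,nat_lit 5,nat_lit 2,nat_lit 2],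
  [nat_lit 2,nat_lit 3,nat_lit 5,nat_lit 1,nat_lit 5],
  [nat_lit 2,nat_lit 5],
  [nat_lit 4,nat_lit 6,nat_lit 1,nat_lit 5,nat_lit 2],
  [nat_lit 1,nat_lit 5,nat_lit 1,nat_lit 6],
  [nat_lit 4,nat_lit 5,nat_lit 2,nat_lit 3],
  [nat_lit 2,nat_lit 6,nat_lit 2,nat_lit 3,nat_lit 5],
  [nat_lit 3,nat_lit 1,nat_lit 5,nat_lit 2],
  [nat_lit 2,nat_lit 2,nat_lit 5,nat_lit 2],
  [nat_lit 3,nat_lit 5,nat_lit 1,nat_lit 3,nat_lit 5],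
  [nat_lit 1,nat_lit 6,nat_lit 1,nat_lit 3,nat_lit 6],
  [nat_lit 5,nat_lit 1,nat_lit 5,nat_lit 1,nat_lit 3],
  [nat_lit 1,nat_lit 3,nat_lit 6,nat_lit 2,nat_lit 2,nat_lit 5,nat_lit 1],
  [nat_lit 3,nat_lit 5,nat_lit 2,nat_lit 3,nat_lit 6],
  [nat_lit 2,nat_lit 5,nat_lit 2,nat_lit 4,nat_lit 6,nat_lit 1],
  [nat_lit 5,nat_lit 1,nat_lit 4,nat_lit 6],
  [nat_lit 3,nat_lit 1,nat_lit 5,nat_lit 1,nat_lit 1,nat_lit 5],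
  [nat_lit 1,nat_lit 6,nat_lit 2,nat_lit 6],
  [nat_lit 5,nat_lit 1,nat_lit 6,nat_lit 2,nat_lit 6],
  [nat_lit 1,nat_lit 6,nat_lit 1,nat_lit 5],
  [nat_lit 3,nat_lit 1,nat_lit 5,nat_lit 1,nat_lit 6],
  [nat_lit 2,nat_lit 2,nat_lit 6,nat_lit 1,nat_lit 3],
  [nat_lit 5,nat_lit 1,nat_lit 5,nat_lit 1,nat_lit 6],
  [nat_lit 1,nat_lit 5,nat_lit 2,nat_lit 4],
  [nat_lit 1,nat_lit 1,nat_lit 6,nat_lit 1],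
  [nat_lit 1,nat_lit 3,nat_lit 6,nat_lit 2,nat_lit 3,nat_lit 5],
  [nat_lit 3,nat_lit 6,nat_lit 1,nat_lit 6],
  [nat_lit 1,nat_lit 4,nat_lit 5,nat_lit 1,nat_lit 5,nat_lit 1],
  [nat_lit 5,nat_lit 1,nat_lit 1,nat_lit 5,nat_lit 1],
  [nat_lit 2,nat_lit 2,nat_lit 5,nat_lit 1,nat_lit 3],
  [nat_lit 5,nat_lit 1,nat_lit 5,nat_lit 2],
  [nat_lit 1,nat_lit 1,nat_lit 5,nat_lit 2,nat_lit 5],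
  [nat_lit 3,nat_lit 2,nat_lit 6],
  [nat_lit 1,nat_lit 1,nat_lit 6,nat_lit 1,nat_lit 5,nat_lit 1,nat_lit 1],
  [nat_lit 2,nat_lit 5,nat_lit 1,nat_lit 6,nat_lit 1,nat_lit 1],
  [nat_lit 3,nat_lit 6,nat_lit 2,nat_lit 3],
  [nat_lit 3,nat_lit 5,nat_lit 2,nat_lit 6,nat_lit 2],
  [nat_lit 6,nat_lit 1,nat_lit 4,nat_lit 6],
  [nat_lit 2,nat_lit 2,nat_lit 6],
  [nat_lit 3,nat_lit 5,nat_lit 1,nat_lit 3,nat_lit 5,nat_lit 1,nat_lit 5],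
  [nat_lit 2,nat_lit 4,nat_lit 5,nat_lit 1,nat_lit 5,nat_lit 2],
  [nat_lit 4,nat_lit 2,nat_lit 6,nat_lit 2,nat_lit 6],
  [nat_lit 1,nat_lit 3,nat_lit 5,nat_lit 2,nat_lit 5],
  [nat_lit 1,nat_lit 5,nat_lit 2,nat_lit 4,nat_lit 6,nat_lit 2],
  [nat_lit 1,nat_lit 5,nat_lit 1,nat_lit 5,nat_lit 2,nat_lit 5],
  [nat_lit 6,nat_lit 1],
  [nat_lit 2,nat_lit 4,nat_lit 6,nat_lit 1,nat_lit 6],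
  [nat_lit 1,nat_lit 1,nat_lit 6,nat_lit 2,nat_lit 5,nat_lit 2,nat_lit 3],
  [nat_lit 1,nat_lit 5,nat_lit 1,nat_lit 6,nat_lit 1],
  [nat_lit 4,nat_lit 5,nat_lit 1,nat_lit 3],
  [nat_lit 1,nat_lit 3,nat_lit 1,nat_lit 6,nat_lit 1],
  [nat_lit 1,nat_lit 4,nat_lit 6,nat_lit 2,nat_lit 3,nat_lit 5],
  [nat_lit 5,nat_lit 1,nat_lit 5,nat_lit 1],
  [nat_lit 1,nat_lit 6,nat_lit 1,nat_lit 6],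
  [nat_lit 1,nat_lit 5,nat_lit 2,nat_lit 6,nat_lit 2,nat_lit 2],
  [nat_lit 3,nat_lit 2,nat_lit 5],
  [nat_lit 2,nat_lit 5,nat_lit 1,nat_lit 4],
  [nat_lit 5,nat_lit 2,nat_lit 6],
  [nat_lit 1,nat_lit 5,nat_lit 1,nat_lit 3,nat_lit 5],
  [nat_lit 3,nat_lit 5,nat_lit 2,nat_lit 2,nat_lit 6],
  [nat_lit 1,nat_lit 3,nat_lit 6,nat_lit 1,nat_lit 5,nat_lit 1],
  [nat_lit 2,nat_lit 6,nat_lit 1,nat_lit 3],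
  [nat_lit 2,nat_lit 4,nat_lit 5,nat_lit 1,nat_lit 5],
  [nat_lit 4,nat_lit 2,nat_lit 5,nat_lit 2,nat_lit 4],
  [nat_lit 4,nat_lit 2,nat_lit 6,nat_lit 1,nat_lit 6],
  [nat_lit 1,nat_lit 1,nat_lit 6,nat_lit 2,nat_lit 4],
  [nat_lit 4,nat_lit 1],
  [nat_lit 5,nat_lit 2,nat_lit 6,nat_lit 1,nat_lit 5],
  [nat_lit 2,nat_lit 5,nat_lit 1,nat_lit 6,nat_lit 2,nat_lit 4,nat_lit 5],
  [nat_lit 4,nat_lit 2,nat_lit 5,nat_lit 1,nat_lit 1],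
  [nat_lit 3,nat_lit 6,nat_lit 2,nat_lit 3,nat_lit 6,nat_lit 2],
  [nat_lit 3],
  [nat_lit 1,nat_lit 1,nat_lit 6,nat_lit 2,nat_lit 5,nat_lit 2,nat_lit 6],
  [nat_lit 3,nat_lit 1,nat_lit 6,nat_lit 1],
  [nat_lit 6,nat_lit 2,nat_lit 4],
  [nat_lit 1,nat_lit 5,nat_lit 1,nat_lit 6,nat_lit 1,nat_lit 5],
  [nat_lit 5,nat_lit 2,nat_lit 2,nat_lit 5,nat_lit 2,nat_lit 6],
  [nat_lit 1,nat_lit 1,nat_lit 4],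
  [nat_lit 1,nat_lit 5,nat_lit 1,nat_lit 5,nat_lit 2],
  [nat_lit 6,nat_lit 1,nat_lit 6],
  [nat_lit 4,nat_lit 6,nat_lit 1],
  [nat_lit 2,nat_lit 5,nat_lit 1,nat_lit 6],
  [nat_lit 1,nat_lit 4,nat_lit 1,nat_lit 5,nat_lit 1],
  [nat_lit 1,nat_lit 5,nat_lit 2,nat_lit 3,nat_lit 6],
  [nat_lit 5,nat_lit 1,nat_lit 1,nat_lit 6,nat_lit 2],
  [nat_lit 2,nat_lit 5,nat_lit 2,nat_lit 5,nat_lit 2,nat_lit 2,nat_lit 6],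
  [nat_lit 3,nat_lit 2,nat_lit 6,nat_lit 1,nat_lit 5,nat_lit 1],
  [nat_lit 4,nat_lit 5,nat_lit 2,nat_lit 6,nat_lit 1],
  [nat_lit 1],
  [nat_lit 2,nat_lit 3,nat_lit 2,nat_lit 5],
  [nat_lit 6,nat_lit 1,nat_lit 6,nat_lit 2,nat_lit 3],
  [nat_lit 5,nat_lit 2,nat_lit 2,nat_lit 6,nat_lit 1],
  [nat_lit 1,nat_lit 3,nat_lit 5,nat_lit 1,nat_lit 1,nat_lit 5,nat_lit 1],
  [nat_lit 1,nat_lit 6,nat_lit 2,nat_lit 5],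
  [nat_lit 1,nat_lit 4,nat_lit 5,nat_lit 1,nat_lit 5],
  [nat_lit 3,nat_lit 2,nat_lit 6,nat_lit 1,nat_lit 3],
  [nat_lit 5,nat_lit 2,nat_lit 2,nat_lit 5],
  [nat_lit 1,nat_lit 1,nat_lit 4,nat_lit 5,nat_lit 1],
  [nat_lit 1,nat_lit 4,nat_lit 6,nat_lit 1,nat_lit 3,nat_lit 6],
  [nat_lit 2,nat_lit 2,nat_lit 5,nat_lit 1,nat_lit 1],
  [nat_lit 5,nat_lit 1,nat_lit 3,nat_lit 5,nat_lit 2,nat_lit 5],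
  [nat_lit 1,nat_lit 3,nat_lit 6,nat_lit 2],
  [nat_lit 4,nat_lit 6,nat_lit 1,nat_lit 5,nat_lit 1,nat_lit 6],
  [nat_lit 2,nat_lit 2,nat_lit 5,nat_lit 1,nat_lit 6],
  [nat_lit 1,nat_lit 1,nat_lit 6,nat_lit 1,nat_lit 4,nat_lit 6],
  [nat_lit 2,nat_lit 2,nat_lit 6,nat_lit 2,nat_lit 2],
  [nat_lit 1,nat_lit 6,nat_lit 2,nat_lit 6,nat_lit 2],
  [nat_lit 2,nat_lit 5,nat_lit 2,nat_lit 4,nat_lit 6],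
  [nat_lit 1,nat_lit 1,nat_lit 4,nat_lit 6,nat_lit 1,nat_lit 5],
  [nat_lit 6,nat_lit 2,nat_lit 2],
  [nat_lit 2,nat_lit 2,nat_lit 2,nat_lit 5],
  [nat_lit 1,nat_lit 6,nat_lit 1,nat_lit 1,nat_lit 5,nat_lit 2],
  [nat_lit 3,nat_lit 5,nat_lit 2,nat_lit 2,nat_lit 5],
  [nat_lit 1,nat_lit 5,nat_lit 1,nat_lit 3],
  [nat_lit 2,nat_lit 6,nat_lit 2,nat_lit 4],
  [nat_lit 1,nat_lit 3,nat_lit 6,nat_lit 1,nat_lit 3,nat_lit 5],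
  [nat_lit 2,nat_lit 4,nat_lit 5,nat_lit 1,nat_lit 6,nat_lit 2,nat_lit 5],
  [nat_lit 1,nat_lit 1,nat_lit 1],
  [nat_lit 6,nat_lit 1,nat_lit 4,nat_lit 5,nat_lit 2],
  [nat_lit 1,nat_lit 3,nat_lit 5,nat_lit 2,nat_lit 2,nat_lit 6],
  [nat_lit 2,nat_lit 6,nat_lit 2,nat_lit 6,nat_lit 2,nat_lit 3],
  [nat_lit 1,nat_lit 6,nat_lit 1,nat_lit 3],
  [nat_lit 1,nat_lit 1,nat_lit 5,nat_lit 1],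
  [nat_lit 1,nat_lit 5,nat_lit 2,nat_lit 3,nat_lit 5,nat_lit 2],
  [nat_lit 1,nat_lit 5,nat_lit 1,nat_lit 4,nat_lit 6],
  [nat_lit 4,nat_lit 5,nat_lit 2],
  [nat_lit 2,nat_lit 4,nat_lit 6,nat_lit 1],
  [nat_lit 1,nat_lit 3,nat_lit 6,nat_lit 1,nat_lit 5,nat_lit 2,nat_lit 3],
  [nat_lit 2,nat_lit 2,nat_lit 5,nat_lit 1,nat_lit 1,nat_lit 5],
  [nat_lit 1,nat_lit 4,nat_lit 6,nat_lit 1,nat_lit 3],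
  [nat_lit 5,nat_lit 2,nat_lit 6,nat_lit 1,nat_lit 1],
  [nat_lit 4,nat_lit 1,nat_lit 6,nat_lit 1],
  [nat_lit 2,nat_lit 2,nat_lit 2,nat_lit 6,nat_lit 2],
  [nat_lit 4,nat_lit 2,nat_lit 5,nat_lit 2,nat_lit 6],
  [nat_lit 4,nat_lit 6,nat_lit 1,nat_lit 5,nat_lit 2,nat_lit 6],
  [nat_lit 2],
  [nat_lit 2,nat_lit 2,nat_lit 5,nat_lit 2,nat_lit 4],
  [nat_lit 3,nat_lit 5,nat_lit 1,nat_lit 5],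
  [nat_lit 1,nat_lit 1,nat_lit 6,nat_lit 2,nat_lit 5,nat_lit 2],
  [nat_lit 4,nat_lit 2,nat_lit 6,nat_lit 2,nat_lit 3],
  [nat_lit 2,nat_lit 4,nat_lit 6,nat_lit 2,nat_lit 3],
  [nat_lit 2,nat_lit 2,nat_lit 6,nat_lit 1,nat_lit 1,nat_lit 5],
  [nat_lit 6,nat_lit 1,nat_lit 6,nat_lit 1,nat_lit 1],
  [nat_lit 4,nat_lit 5,nat_lit 1],
  [nat_lit 1,nat_lit 5,nat_lit 1,nat_lit 4],
  [nat_lit 3,nat_lit 5,nat_lit 1,nat_lit 6],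
  [nat_lit 1,nat_lit 5,nat_lit 1,nat_lit 6,nat_lit 1,nat_lit 4],
  [nat_lit 4,nat_lit 5,nat_lit 2,nat_lit 5],
  [nat_lit 2,nat_lit 5,nat_lit 1,nat_lit 1,nat_lit 5],
  [nat_lit 1,nat_lit 1,nat_lit 4,nat_lit 5,nat_lit 2,nat_lit 3],
  [nat_lit 5,nat_lit 1,nat_lit 5,nat_lit 2,nat_lit 5],
  [nat_lit 1,nat_lit 1,nat_lit 5,nat_lit 2,nat_lit 6],
  [nat_lit 2,nat_lit 3,nat_lit 6,nat_lit 1],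
  [nat_lit 3,nat_lit 2,nat_lit 5,nat_lit 2,nat_lit 6],
  [nat_lit 4,nat_lit 1,nat_lit 6],
  [nat_lit 5,nat_lit 2,nat_lit 6,nat_lit 1],
  [nat_lit 3,nat_lit 1,nat_lit 6,nat_lit 2],
  [nat_lit 2,nat_lit 5,nat_lit 2,nat_lit 3,nat_lit 6],
  [nat_lit 1,nat_lit 5,nat_lit 1,nat_lit 5,nat_lit 2,nat_lit 3],
  [nat_lit 6,nat_lit 1,nat_lit 3,nat_lit 6],
  [nat_lit 3,nat_lit 2,nat_lit 5,nat_lit 1],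
  [nat_lit 1,nat_lit 5,nat_lit 2,nat_lit 6,nat_lit 2],
  [nat_lit 1,nat_lit 3,nat_lit 1,nat_lit 6,nat_lit 2,nat_lit 6],
  [nat_lit 2,nat_lit 2,nat_lit 6,nat_lit 1,nat_lit 4],
  [nat_lit 2,nat_lit 5,nat_lit 2,nat_lit 4,nat_lit 5],
  [nat_lit 1,nat_lit 3,nat_lit 5,nat_lit 1,nat_lit 3],
  [nat_lit 2,nat_lit 5,nat_lit 2,nat_lit 3,nat_lit 5],
  [nat_lit 1,nat_lit 3,nat_lit 5,nat_lit 1],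
  [nat_lit 2,nat_lit 5,nat_lit 2],
  [nat_lit 1,nat_lit 5,nat_lit 1,nat_lit 1,nat_lit 6],
  [nat_lit 2,nat_lit 5,nat_lit 2,nat_lit 6],
  [nat_lit 1,nat_lit 1,nat_lit 6,nat_lit 2,nat_lit 2],
  [nat_lit 5,nat_lit 1,nat_lit 5,nat_lit 1,nat_lit 6,nat_lit 2],
  [nat_lit 6,nat_lit 1,nat_lit 1],
  [nat_lit 5,nat_lit 1,nat_lit 6,nat_lit 2,nat_lit 6,nat_lit 2],
  [nat_lit 6,nat_lit 1,nat_lit 1,nat_lit 6],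
  [nat_lit 4,nat_lit 2,nat_lit 5],
  [nat_lit 1,nat_lit 5,nat_lit 2,nat_lit 5,nat_lit 1,nat_lit 6,nat_lit 2],
  [nat_lit 1,nat_lit 4,nat_lit 5,nat_lit 2,nat_lit 6,nat_lit 1],
  [nat_lit 4,nat_lit 2,nat_lit 5,nat_lit 2,nat_lit 3],
  [nat_lit 1,nat_lit 4,nat_lit 5,nat_lit 2,nat_lit 5],
  [nat_lit 5,nat_lit 1,nat_lit 3,nat_lit 5,nat_lit 2,nat_lit 2],
  [nat_lit 3,nat_lit 2,nat_lit 6,nat_lit 2],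
  [nat_lit 1,nat_lit 1,nat_lit 6,nat_lit 1,nat_lit 5,nat_lit 1],
  [nat_lit 1,nat_lit 4,nat_lit 5,nat_lit 2,nat_lit 3,nat_lit 6,nat_lit 2],
  [nat_lit 1,nat_lit 3,nat_lit 1,nat_lit 5],
  [nat_lit 1,nat_lit 1,nat_lit 4,nat_lit 6,nat_lit 1,nat_lit 6],
  [nat_lit 6,nat_lit 2,nat_lit 2,nat_lit 5],
  [nat_lit 1,nat_lit 5,nat_lit 1,nat_lit 4,nat_lit 5],
  [nat_lit 4,nat_lit 5,nat_lit 2,nat_lit 6],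
  [nat_lit 4,nat_lit 2,nat_lit 5,nat_lit 1,nat_lit 6],
  [nat_lit 3,nat_lit 6,nat_lit 1],
  [nat_lit 3,nat_lit 6,nat_lit 2,nat_lit 3,nat_lit 6],
  [nat_lit 5,nat_lit 1,nat_lit 5,nat_lit 2,nat_lit 4],
  [nat_lit 2,nat_lit 5,nat_lit 1,nat_lit 4,nat_lit 6,nat_lit 2],
  [nat_lit 3,nat_lit 1,nat_lit 6,nat_lit 1,nat_lit 1],
  [nat_lit 3,nat_lit 5,nat_lit 2],
  [nat_lit 1,nat_lit 5,nat_lit 1,nat_lit 3,nat_lit 6,nat_lit 1],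
  [nat_lit 1,nat_lit 5,nat_lit 2,nat_lit 5,nat_lit 1],
  [nat_lit 1,nat_lit 1,nat_lit 5,nat_lit 2,nat_lit 4],
  [nat_lit 2,nat_lit 2,nat_lit 2,nat_lit 6],
  [nat_lit 5,nat_lit 2,nat_lit 6,nat_lit 1,nat_lit 3],
  [nat_lit 2,nat_lit 3,nat_lit 5,nat_lit 1,nat_lit 1],
  [nat_lit 1,nat_lit 4,nat_lit 6,nat_lit 2,nat_lit 5],
  [nat_lit 1,nat_lit 1,nat_lit 1,nat_lit 5],
  [nat_lit 5,nat_lit 2,nat_lit 6,nat_lit 2,nat_lit 4],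
  [nat_lit 1,nat_lit 1,nat_lit 1,nat_lit 6,nat_lit 1,nat_lit 1],
  [nat_lit 1,nat_lit 4,nat_lit 5,nat_lit 2,nat_lit 6,nat_lit 2,nat_lit 2],
  [nat_lit 2,nat_lit 4],
  [nat_lit 5,nat_lit 2,nat_lit 6,nat_lit 2,nat_lit 2,nat_lit 6],
  [nat_lit 2,nat_lit 5,nat_lit 1,nat_lit 6,nat_lit 2,nat_lit 5,nat_lit 2],
  [nat_lit 4,nat_lit 2],
  [nat_lit 1,nat_lit 6,nat_lit 2,nat_lit 2],
  [nat_lit 1,nat_lit 1,nat_lit 6,nat_lit 1,nat_lit 3,nat_lit 6],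
  [nat_lit 4,nat_lit 2,nat_lit 6,nat_lit 2],
  [nat_lit 1,nat_lit 1,nat_lit 6,nat_lit 2,nat_lit 5,nat_lit 2,nat_lit 4],
  [nat_lit 1,nat_lit 3,nat_lit 1,nat_lit 6],
  [nat_lit 1,nat_lit 4,nat_lit 6,nat_lit 2,nat_lit 3,nat_lit 5,nat_lit 2],
  [nat_lit 1,nat_lit 3,nat_lit 5,nat_lit 2],
  [nat_lit 4,nat_lit 5,nat_lit 2,nat_lit 5,nat_lit 1,nat_lit 4],
  [nat_lit 3,nat_lit 2,nat_lit 6,nat_lit 1,nat_lit 3,nat_lit 5],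
  [nat_lit 2,nat_lit 4,nat_lit 6,nat_lit 2],
  [nat_lit 2,nat_lit 5,nat_lit 2,nat_lit 3,nat_lit 5,nat_lit 2,nat_lit 6],
  [nat_lit 1,nat_lit 3],
  [nat_lit 3,nat_lit 2,nat_lit 5,nat_lit 2,nat_lit 6,nat_lit 2],
  [nat_lit 2,nat_lit 3,nat_lit 6],
  [nat_lit 2,nat_lit 5,nat_lit 1,nat_lit 4,nat_lit 5,nat_lit 1,nat_lit 6],
  [],
  [nat_lit 2,nat_lit 2,nat_lit 6,nat_lit 1,nat_lit 5],
  [nat_lit 5,nat_lit 1,nat_lit 6,nat_lit 2,nat_lit 4],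
  [nat_lit 5,nat_lit 1,nat_lit 5],
  [nat_lit 1,nat_lit 6,nat_lit 1,nat_lit 6,nat_lit 2],
  [nat_lit 2,nat_lit 5,nat_lit 2,nat_lit 3,nat_lit 6,nat_lit 1],
  [nat_lit 3,nat_lit 1,nat_lit 6],
  [nat_lit 3,nat_lit 2,nat_lit 6,nat_lit 1,nat_lit 6],
  [nat_lit 1,nat_lit 3,nat_lit 5,nat_lit 1,nat_lit 1],
  [nat_lit 1,nat_lit 5,nat_lit 2,nat_lit 5,nat_lit 1,nat_lit 6],
  [nat_lit 4,nat_lit 2,nat_lit 5,nat_lit 1],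
  [nat_lit 2,nat_lit 5,nat_lit 2,nat_lit 6,nat_lit 1],
  [nat_lit 1,nat_lit 1,nat_lit 6,nat_lit 2],
  [nat_lit 2,nat_lit 5,nat_lit 2,nat_lit 5,nat_lit 1],
  [nat_lit 1,nat_lit 4,nat_lit 5,nat_lit 2,nat_lit 3],
  [nat_lit 3,nat_lit 6],
  [nat_lit 2,nat_lit 5,nat_lit 1,nat_lit 6,nat_lit 2,nat_lit 4],
  [nat_lit 1,nat_lit 1,nat_lit 4,nat_lit 5,nat_lit 2],
  [nat_lit 4,nat_lit 1,nat_lit 6,nat_lit 1,nat_lit 5],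
  [nat_lit 2,nat_lit 2,nat_lit 5,nat_lit 1],
  [nat_lit 5,nat_lit 1,nat_lit 1,nat_lit 5,nat_lit 1,nat_lit 4],
  [nat_lit 1,nat_lit 1,nat_lit 6,nat_lit 1,nat_lit 6,nat_lit 2],
  [nat_lit 1,nat_lit 6,nat_lit 1,nat_lit 4],
  [nat_lit 2,nat_lit 5,nat_lit 1,nat_lit 5],
  [nat_lit 5,nat_lit 2,nat_lit 3],
  [nat_lit 5,nat_lit 2,nat_lit 6,nat_lit 1,nat_lit 3,nat_lit 5],
  [nat_lit 2,nat_lit 2,nat_lit 2],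
  [nat_lit 5,nat_lit 1,nat_lit 5,nat_lit 2,nat_lit 3,nat_lit 5],
  [nat_lit 4,nat_lit 2,nat_lit 5,nat_lit 1,nat_lit 4],
  [nat_lit 6,nat_lit 2,nat_lit 3],
  [nat_lit 2,nat_lit 5,nat_lit 1,nat_lit 4,nat_lit 6,nat_lit 1],
  [nat_lit 1,nat_lit 5,nat_lit 1,nat_lit 3,nat_lit 6,nat_lit 1,nat_lit 1],
  [nat_lit 3,nat_lit 5],
  [nat_lit 6,nat_lit 1,nat_lit 5,nat_lit 2],
  [nat_lit 5,nat_lit 1,nat_lit 1,nat_lit 5,nat_lit 1,nat_lit 6],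
  [nat_lit 2,nat_lit 2],
  [nat_lit 3,nat_lit 5,nat_lit 1,nat_lit 3,nat_lit 5,nat_lit 1,nat_lit 6],
  [nat_lit 1,nat_lit 1,nat_lit 4,nat_lit 5,nat_lit 1,nat_lit 6],
  [nat_lit 5,nat_lit 2,nat_lit 2],
  [nat_lit 1,nat_lit 3,nat_lit 6,nat_lit 2,nat_lit 2],
  [nat_lit 2,nat_lit 6,nat_lit 2,nat_lit 6,nat_lit 1,nat_lit 3],
  [nat_lit 1,nat_lit 1,nat_lit 6,nat_lit 1,nat_lit 3,nat_lit 5],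
  [nat_lit 1,nat_lit 4,nat_lit 1,nat_lit 6,nat_lit 2],
  [nat_lit 1,nat_lit 1,nat_lit 1,nat_lit 5,nat_lit 1,nat_lit 1],
  [nat_lit 1,nat_lit 4,nat_lit 5,nat_lit 2,nat_lit 6],
  [nat_lit 4,nat_lit 6,nat_lit 2,nat_lit 5],
  [nat_lit 3,nat_lit 6,nat_lit 2,nat_lit 5,nat_lit 1],
  [nat_lit 1,nat_lit 3,nat_lit 6,nat_lit 2,nat_lit 2,nat_lit 6],
  [nat_lit 3,nat_lit 5,nat_lit 1,nat_lit 6,nat_lit 1],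
  [nat_lit 2,nat_lit 5,nat_lit 1,nat_lit 6,nat_lit 2,nat_lit 5],
  [nat_lit 4],
  [nat_lit 5,nat_lit 2,nat_lit 6,nat_lit 2],
  [nat_lit 2,nat_lit 4,nat_lit 5,nat_lit 1],
  [nat_lit 1,nat_lit 3,nat_lit 1,nat_lit 6,nat_lit 2,nat_lit 6,nat_lit 2],
  [nat_lit 1,nat_lit 4,nat_lit 1,nat_lit 6,nat_lit 1],
  [nat_lit 1,nat_lit 1,nat_lit 5,nat_lit 1,nat_lit 3],
  [nat_lit 2,nat_lit 3,nat_lit 5,nat_lit 1,nat_lit 5,nat_lit 2],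
  [nat_lit 1,nat_lit 1,nat_lit 6,nat_lit 1,nat_lit 4,nat_lit 5,nat_lit 1],
  [nat_lit 1,nat_lit 6,nat_lit 2,nat_lit 4,nat_lit 5],
  [nat_lit 5,nat_lit 1,nat_lit 3,nat_lit 5],
  [nat_lit 1,nat_lit 5,nat_lit 2],
  [nat_lit 1,nat_lit 4,nat_lit 5,nat_lit 2,nat_lit 6,nat_lit 2],
  [nat_lit 1,nat_lit 6,nat_lit 1,nat_lit 6,nat_lit 2,nat_lit 3],
  [nat_lit 3,nat_lit 1,nat_lit 5,nat_lit 1,nat_lit 3,nat_lit 6],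
  [nat_lit 1,nat_lit 1,nat_lit 1,nat_lit 5,nat_lit 1],
  [nat_lit 1,nat_lit 5,nat_lit 1,nat_lit 6,nat_lit 2],
  [nat_lit 5,nat_lit 1,nat_lit 1],
  [nat_lit 1,nat_lit 1,nat_lit 6,nat_lit 2,nat_lit 6,nat_lit 2],
  [nat_lit 6,nat_lit 1,nat_lit 6,nat_lit 2,nat_lit 2],
  [nat_lit 1,nat_lit 3,nat_lit 1,nat_lit 6,nat_lit 1,nat_lit 5],
  [nat_lit 6,nat_lit 1,nat_lit 4,nat_lit 6,nat_lit 2],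
  [nat_lit 3,nat_lit 6,nat_lit 2,nat_lit 6,nat_lit 2],
  [nat_lit 2,nat_lit 6,nat_lit 1,nat_lit 1,nat_lit 6],
  [nat_lit 3,nat_lit 5,nat_lit 2,nat_lit 6],
  [nat_lit 1,nat_lit 5,nat_lit 2,nat_lit 3,nat_lit 6,nat_lit 1],
  [nat_lit 2,nat_lit 3,nat_lit 5],
  [nat_lit 4,nat_lit 5,nat_lit 2,nat_lit 6,nat_lit 2],
  [nat_lit 2,nat_lit 2,nat_lit 5,nat_lit 1,nat_lit 4],
  [nat_lit 4,nat_lit 6,nat_lit 1,nat_lit 5,nat_lit 2,nat_lit 3],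
  [nat_lit 3,nat_lit 6,nat_lit 1,nat_lit 3],
  [nat_lit 5,nat_lit 1,nat_lit 3,nat_lit 5,nat_lit 1,nat_lit 6],
  [nat_lit 1,nat_lit 5,nat_lit 2,nat_lit 5],
  [nat_lit 3,nat_lit 1,nat_lit 5,nat_lit 1,nat_lit 3],
  [nat_lit 1,nat_lit 6,nat_lit 2,nat_lit 3],
  [nat_lit 3,nat_lit 2,nat_lit 5,nat_lit 1,nat_lit 5,nat_lit 1],
  [nat_lit 5,nat_lit 1],
  [nat_lit 1,nat_lit 5,nat_lit 1,nat_lit 6,nat_lit 2,nat_lit 2],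
  [nat_lit 2,nat_lit 3,nat_lit 6,nat_lit 1,nat_lit 1],
  [nat_lit 1,nat_lit 3,nat_lit 6,nat_lit 1,nat_lit 5,nat_lit 2],
  [nat_lit 6],
  [nat_lit 5,nat_lit 2,nat_lit 2,nat_lit 5,nat_lit 1],
  [nat_lit 3,nat_lit 2,nat_lit 5,nat_lit 2],
  [nat_lit 2,nat_lit 5,nat_lit 1,nat_lit 6,nat_lit 2,nat_lit 3],
  [nat_lit 1,nat_lit 1,nat_lit 5,nat_lit 1,nat_lit 4],
  [nat_lit 2,nat_lit 3,nat_lit 6,nat_lit 1,nat_lit 5],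
  [nat_lit 3,nat_lit 6,nat_lit 2,nat_lit 5],
  [nat_lit 4,nat_lit 6,nat_lit 2,nat_lit 5,nat_lit 2],
  [nat_lit 5,nat_lit 1,nat_lit 4,nat_lit 5,nat_lit 2],
  [nat_lit 3,nat_lit 1,nat_lit 5,nat_lit 1],
  [nat_lit 3,nat_lit 2,nat_lit 6,nat_lit 1],
  [nat_lit 1,nat_lit 4,nat_lit 5,nat_lit 2,nat_lit 3,nat_lit 5],
  [nat_lit 1,nat_lit 5,nat_lit 2,nat_lit 4,nat_lit 5],
  [nat_lit 1,nat_lit 3,nat_lit 5,nat_lit 1,nat_lit 1,nat_lit 5],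
  [nat_lit 1,nat_lit 1],
  [nat_lit 2,nat_lit 5,nat_lit 2,nat_lit 6,nat_lit 1,nat_lit 1,nat_lit 5],
  [nat_lit 2,nat_lit 5,nat_lit 1,nat_lit 1],
  [nat_lit 4,nat_lit 6,nat_lit 1,nat_lit 5,nat_lit 1],
  [nat_lit 4,nat_lit 6,nat_lit 1,nat_lit 3],
  [nat_lit 2,nat_lit 5,nat_lit 1,nat_lit 3,nat_lit 6],
  [nat_lit 1,nat_lit 1,nat_lit 6,nat_lit 2,nat_lit 6],
  [nat_lit 6,nat_lit 1,nat_lit 6,nat_lit 2],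
  [nat_lit 1,nat_lit 1,nat_lit 4,nat_lit 6,nat_lit 1],
  [nat_lit 6,nat_lit 2,nat_lit 2,nat_lit 6],
  [nat_lit 1,nat_lit 3,nat_lit 5,nat_lit 1,nat_lit 3,nat_lit 6],
  [nat_lit 2,nat_lit 5,nat_lit 2,nat_lit 4],
  [nat_lit 3,nat_lit 5,nat_lit 2,nat_lit 3],
  [nat_lit 2,nat_lit 2,nat_lit 5,nat_lit 2,nat_lit 6,nat_lit 2],
  [nat_lit 1,nat_lit 6,nat_lit 2,nat_lit 4],
  [nat_lit 2,nat_lit 6,nat_lit 2,nat_lit 4,nat_lit 6,nat_lit 1],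
  [nat_lit 2,nat_lit 5,nat_lit 2,nat_lit 5,nat_lit 2],
  [nat_lit 1,nat_lit 5,nat_lit 1],
  [nat_lit 2,nat_lit 4,nat_lit 5,nat_lit 2,nat_lit 6,nat_lit 2],
  [nat_lit 1,nat_lit 4,nat_lit 6],
  [nat_lit 4,nat_lit 2,nat_lit 6,nat_lit 1,nat_lit 1],
  [nat_lit 2,nat_lit 2,nat_lit 6,nat_lit 1,nat_lit 5,nat_lit 2],
  [nat_lit 4,nat_lit 1,nat_lit 5,nat_lit 1],
  [nat_lit 3,nat_lit 2,nat_lit 5,nat_lit 2,nat_lit 3,nat_lit 6],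
  [nat_lit 1,nat_lit 3,nat_lit 6,nat_lit 2,nat_lit 5],
  [nat_lit 1,nat_lit 1,nat_lit 6,nat_lit 1,nat_lit 4],
  [nat_lit 3,nat_lit 5,nat_lit 1,nat_lit 5,nat_lit 1,nat_lit 6],
  [nat_lit 1,nat_lit 5,nat_lit 2,nat_lit 2],
  [nat_lit 1,nat_lit 1,nat_lit 5,nat_lit 2,nat_lit 3],
  [nat_lit 1,nat_lit 5,nat_lit 2,nat_lit 5,nat_lit 1,nat_lit 4],
  [nat_lit 2,nat_lit 5,nat_lit 2,nat_lit 3],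
  [nat_lit 1,nat_lit 3,nat_lit 5,nat_lit 1,nat_lit 6],
  [nat_lit 1,nat_lit 1,nat_lit 5,nat_lit 1,nat_lit 6],
  [nat_lit 2,nat_lit 3,nat_lit 6,nat_lit 1,nat_lit 5,nat_lit 2],
  [nat_lit 2,nat_lit 4,nat_lit 5,nat_lit 2,nat_lit 6],
  [nat_lit 1,nat_lit 4,nat_lit 6,nat_lit 1],
  [nat_lit 1,nat_lit 4,nat_lit 5,nat_lit 1,nat_lit 3,nat_lit 5],
  [nat_lit 2,nat_lit 2,nat_lit 6,nat_lit 1,nat_lit 1],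
  [nat_lit 2,nat_lit 2,nat_lit 6,nat_lit 2,nat_lit 6],
  [nat_lit 3,nat_lit 1,nat_lit 5,nat_lit 2,nat_lit 3],
  [nat_lit 2,nat_lit 3,nat_lit 5,nat_lit 1],
  [nat_lit 5,nat_lit 1,nat_lit 3,nat_lit 5,nat_lit 1],
  [nat_lit 1,nat_lit 5,nat_lit 2,nat_lit 5,nat_lit 2],
  [nat_lit 3,nat_lit 1,nat_lit 5,nat_lit 2,nat_lit 2,nat_lit 6],
  [nat_lit 1,nat_lit 5,nat_lit 2,nat_lit 3,nat_lit 5],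
  [nat_lit 1,nat_lit 1,nat_lit 5,nat_lit 1,nat_lit 1],
  [nat_lit 6,nat_lit 1,nat_lit 4],
  [nat_lit 2,nat_lit 5,nat_lit 1,nat_lit 6,nat_lit 1],
  [nat_lit 5],
  [nat_lit 2,nat_lit 5,nat_lit 1,nat_lit 4,nat_lit 5,nat_lit 1],
  [nat_lit 4,nat_lit 2,nat_lit 6,nat_lit 1],
  [nat_lit 1,nat_lit 1,nat_lit 6,nat_lit 2,nat_lit 4,nat_lit 5],
  [nat_lit 1,nat_lit 1,nat_lit 6,nat_lit 1,nat_lit 4,nat_lit 5],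
  [nat_lit 1,nat_lit 3,nat_lit 6,nat_lit 2,nat_lit 6],
  [nat_lit 2,nat_lit 2,nat_lit 2,nat_lit 6,nat_lit 2,nat_lit 5],
  [nat_lit 4,nat_lit 2,nat_lit 5,nat_lit 2],
  [nat_lit 5,nat_lit 2,nat_lit 4,nat_lit 6,nat_lit 1],
  [nat_lit 2,nat_lit 3,nat_lit 2,nat_lit 6,nat_lit 2],
  [nat_lit 1,nat_lit 6,nat_lit 1,nat_lit 1,nat_lit 5,nat_lit 1],
  [nat_lit 1,nat_lit 4,nat_lit 6,nat_lit 1,nat_lit 6],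
  [nat_lit 5,nat_lit 2,nat_lit 4],
  [nat_lit 2,nat_lit 6],
  [nat_lit 2,nat_lit 4,nat_lit 5,nat_lit 2,nat_lit 5],
  [nat_lit 2,nat_lit 5,nat_lit 1,nat_lit 3,nat_lit 5],
  [nat_lit 3,nat_lit 5,nat_lit 1,nat_lit 3,nat_lit 6],
  [nat_lit 2,nat_lit 2,nat_lit 5,nat_lit 2,nat_lit 5],
  [nat_lit 4,nat_lit 1,nat_lit 5,nat_lit 1,nat_lit 5],
  [nat_lit 3,nat_lit 2,nat_lit 5,nat_lit 2,nat_lit 3],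
  [nat_lit 4,nat_lit 2,nat_lit 6,nat_lit 1,nat_lit 5],
  [nat_lit 5,nat_lit 1,nat_lit 1,nat_lit 6,nat_lit 1],
  [nat_lit 1,nat_lit 1,nat_lit 6],
  [nat_lit 2,nat_lit 5,nat_lit 2,nat_lit 6,nat_lit 1,nat_lit 1],
  [nat_lit 1,nat_lit 5,nat_lit 2,nat_lit 6],
  [nat_lit 3,nat_lit 2,nat_lit 5,nat_lit 1,nat_lit 1],
  [nat_lit 2,nat_lit 6,nat_lit 2,nat_lit 6,nat_lit 1],
  [nat_lit 1,nat_lit 4,nat_lit 6,nat_lit 2,nat_lit 3],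
  [nat_lit 3,nat_lit 5,nat_lit 2,nat_lit 5],
  [nat_lit 1,nat_lit 1,nat_lit 4,nat_lit 5,nat_lit 1,nat_lit 3],
  [nat_lit 2,nat_lit 2,nat_lit 5,nat_lit 1,nat_lit 5],
  [nat_lit 5,nat_lit 1,nat_lit 3,nat_lit 5,nat_lit 2],
  [nat_lit 1,nat_lit 5,nat_lit 2,nat_lit 4,nat_lit 6],
  [nat_lit 3,nat_lit 1,nat_lit 5,nat_lit 1,nat_lit 5],
  [nat_lit 6,nat_lit 2],
  [nat_lit 2,nat_lit 5,nat_lit 1,nat_lit 5,nat_lit 2,nat_lit 5],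
  [nat_lit 1,nat_lit 5,nat_lit 1,nat_lit 3,nat_lit 6],
  [nat_lit 3,nat_lit 5,nat_lit 2,nat_lit 2],
  [nat_lit 2,nat_lit 5,nat_lit 2,nat_lit 5,nat_lit 1,nat_lit 3],
  [nat_lit 1,nat_lit 3,nat_lit 5,nat_lit 2,nat_lit 2],
  [nat_lit 4,nat_lit 5,nat_lit 2,nat_lit 5,nat_lit 2],
  [nat_lit 1,nat_lit 4,nat_lit 5,nat_lit 1],
  [nat_lit 6,nat_lit 1,nat_lit 3,nat_lit 5],
  [nat_lit 1,nat_lit 5,nat_lit 1,nat_lit 5,nat_lit 2,nat_lit 3,nat_lit 6],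
  [nat_lit 3,nat_lit 6,nat_lit 2],
  [nat_lit 4,nat_lit 6,nat_lit 2,nat_lit 5,nat_lit 2,nat_lit 6],
  [nat_lit 2,nat_lit 5,nat_lit 1,nat_lit 5,nat_lit 1,nat_lit 6],
  [nat_lit 5,nat_lit 1,nat_lit 3,nat_lit 6],
  [nat_lit 1,nat_lit 3,nat_lit 6],
  [nat_lit 2,nat_lit 6,nat_lit 2,nat_lit 3,nat_lit 6,nat_lit 2],
  [nat_lit 5,nat_lit 1,nat_lit 3],
  [nat_lit 5,nat_lit 1,nat_lit 5,nat_lit 1,nat_lit 3,nat_lit 6],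
  [nat_lit 5,nat_lit 2,nat_lit 6,nat_lit 2,nat_lit 2],
  [nat_lit 2,nat_lit 5,nat_lit 1,nat_lit 5,nat_lit 1],
  [nat_lit 3,nat_lit 6,nat_lit 2,nat_lit 2],
  [nat_lit 2,nat_lit 4,nat_lit 5],
  [nat_lit 4,nat_lit 6,nat_lit 1,nat_lit 5],
  [nat_lit 2,nat_lit 5,nat_lit 1],
  [nat_lit 3,nat_lit 6,nat_lit 1,nat_lit 5],
  [nat_lit 5,nat_lit 1,nat_lit 5,nat_lit 1,nat_lit 1],
  [nat_lit 4,nat_lit 2,nat_lit 6],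
  [nat_lit 1,nat_lit 3,nat_lit 6,nat_lit 1],
  [nat_lit 4,nat_lit 5,nat_lit 2,nat_lit 5,nat_lit 2,nat_lit 2],
  [nat_lit 1,nat_lit 1,nat_lit 6,nat_lit 2,nat_lit 4,nat_lit 5,nat_lit 2],
  [nat_lit 2,nat_lit 6,nat_lit 2,nat_lit 3,nat_lit 6],
  [nat_lit 1,nat_lit 4,nat_lit 5],
  [nat_lit 1,nat_lit 3,nat_lit 5],
  [nat_lit 2,nat_lit 5,nat_lit 2,nat_lit 3,nat_lit 5,nat_lit 2],
  [nat_lit 1,nat_lit 4,nat_lit 5,nat_lit 2,nat_lit 3,nat_lit 6,nat_lit 2,nat_lit 6],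
  [nat_lit 1,nat_lit 3,nat_lit 1],
  [nat_lit 5,nat_lit 1,nat_lit 5,nat_lit 2,nat_lit 2],
  [nat_lit 1,nat_lit 1,nat_lit 5,nat_lit 2,nat_lit 5,nat_lit 2],
  [nat_lit 4,nat_lit 5,nat_lit 2,nat_lit 5,nat_lit 1],
  [nat_lit 1,nat_lit 1,nat_lit 5,nat_lit 1,nat_lit 5],
  [nat_lit 6,nat_lit 1,nat_lit 6,nat_lit 1],
  [nat_lit 1,nat_lit 5,nat_lit 1,nat_lit 5],
  [nat_lit 5,nat_lit 2,nat_lit 6,nat_lit 1,nat_lit 4],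
  [nat_lit 2,nat_lit 3,nat_lit 2,nat_lit 6],
  [nat_lit 2,nat_lit 4,nat_lit 5,nat_lit 2,nat_lit 3],
  [nat_lit 1,nat_lit 4,nat_lit 6,nat_lit 1,nat_lit 3,nat_lit 5],
  [nat_lit 1,nat_lit 6,nat_lit 2,nat_lit 2,nat_lit 5],
  [nat_lit 1,nat_lit 1,nat_lit 6,nat_lit 1,nat_lit 3],
  [nat_lit 1,nat_lit 4,nat_lit 6,nat_lit 2,nat_lit 6],
  [nat_lit 1,nat_lit 5,nat_lit 1,nat_lit 3,nat_lit 5,nat_lit 1],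
  [nat_lit 5,nat_lit 2,nat_lit 5],
  [nat_lit 2,nat_lit 5,nat_lit 1,nat_lit 4,nat_lit 6],
  [nat_lit 5,nat_lit 1,nat_lit 1,nat_lit 6],
  [nat_lit 1,nat_lit 5,nat_lit 1,nat_lit 6,nat_lit 2,nat_lit 6]]

def LC2 : List (List ℕ) := [[nat_lit 5,nat_lit 1,nat_lit 4,nat_lit 6,nat_lit 2],
  [nat_lit 1,nat_lit 3,nat_lit 6,nat_lit 2,nat_lit 2,nat_lit 5],
  [nat_lit 6,nat_lit 2,nat_lit 6],
  [nat_lit 2,nat_lit 5,nat_lit 1,nat_lit 5,nat_lit 2],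
  [nat_lit 5,nat_lit 1,nat_lit 5,nat_lit 2,nat_lit 3],
  [nat_lit 1,nat_lit 1,nat_lit 5,nat_lit 2,nat_lit 3,nat_lit 5],
  [nat_lit 6,nat_lit 1,nat_lit 1,nat_lit 5],
  [nat_lit 5,nat_lit 1,nat_lit 3,nat_lit 5,nat_lit 1,nat_lit 3],
  [nat_lit 5,nat_lit 1,nat_lit 4,nat_lit 5],
  [nat_lit 1,nat_lit 6,nat_lit 1,nat_lit 6,nat_lit 2,nat_lit 4],
  [nat_lit 2,nat_lit 2,nat_lit 5,nat_lit 2,nat_lit 6],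
  [nat_lit 3,nat_lit 5,nat_lit 1,nat_lit 3],
  [nat_lit 1,nat_lit 1,nat_lit 1,nat_lit 6],
  [nat_lit 2,nat_lit 4,nat_lit 5,nat_lit 1,nat_lit 6,nat_lit 2],
  [nat_lit 2,nat_lit 6,nat_lit 2,nat_lit 5,nat_lit 1],
  [nat_lit 2,nat_lit 2,nat_lit 5],
  [nat_lit 6,nat_lit 2,nat_lit 2,nat_lit 6,nat_lit 2],
  [nat_lit 1,nat_lit 1,nat_lit 5,nat_lit 2],
  [nat_lit 3,nat_lit 5,nat_lit 1,nat_lit 3,nat_lit 5,nat_lit 1],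
  [nat_lit 1,nat_lit 1,nat_lit 4,nat_lit 6],
  [nat_lit 2,nat_lit 2,nat_lit 2,nat_lit 6,nat_lit 2,nat_lit 6],
  [nat_lit 4,nat_lit 2,nat_lit 5,nat_lit 2,nat_lit 5],
  [nat_lit 2,nat_lit 5,nat_lit 1,nat_lit 6,nat_lit 1,nat_lit 5],
  [nat_lit 6,nat_lit 1,nat_lit 4,nat_lit 5],
  [nat_lit 5,nat_lit 1,nat_lit 4],
  [nat_lit 2,nat_lit 5,nat_lit 1,nat_lit 5,nat_lit 1,nat_lit 3],
  [nat_lit 5,nat_lit 1,nat_lit 6],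
  [nat_lit 1,nat_lit 6,nat_lit 1,nat_lit 6,nat_lit 2,nat_lit 5],
  [nat_lit 2,nat_lit 3],
  [nat_lit 3,nat_lit 2,nat_lit 5,nat_lit 2,nat_lit 6,nat_lit 2,nat_lit 5],
  [nat_lit 1,nat_lit 1,nat_lit 6,nat_lit 2,nat_lit 5,nat_lit 1],
  [nat_lit 5,nat_lit 1,nat_lit 6,nat_lit 2],
  [nat_lit 3,nat_lit 2,nat_lit 6,nat_lit 2,nat_lit 3],
  [nat_lit 1,nat_lit 1,nat_lit 4,nat_lit 5,nat_lit 2,nat_lit 5],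
  [nat_lit 2,nat_lit 5,nat_lit 1,nat_lit 4,nat_lit 5],
  [nat_lit 5,nat_lit 2],
  [nat_lit 3,nat_lit 2,nat_lit 5,nat_lit 1,nat_lit 5],
  [nat_lit 1,nat_lit 3,nat_lit 6,nat_lit 1,nat_lit 1],
  [nat_lit 1,nat_lit 5,nat_lit 1,nat_lit 4,nat_lit 6,nat_lit 1],
  [nat_lit 4,nat_lit 5],
  [nat_lit 1,nat_lit 1,nat_lit 6,nat_lit 2,nat_lit 3,nat_lit 5],
  [nat_lit 4,nat_lit 2,nat_lit 6,nat_lit 1,nat_lit 4],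
  [nat_lit 1,nat_lit 4],
  [nat_lit 5,nat_lit 2,nat_lit 6,nat_lit 1,nat_lit 5,nat_lit 1],
  [nat_lit 2,nat_lit 6,nat_lit 1,nat_lit 1,nat_lit 5],
  [nat_lit 2,nat_lit 2,nat_lit 5,nat_lit 2,nat_lit 2],
  [nat_lit 3,nat_lit 2,nat_lit 6,nat_lit 1,nat_lit 5],
  [nat_lit 2,nat_lit 3,nat_lit 2,nat_lit 5,nat_lit 2],
  [nat_lit 1,nat_lit 6],
  [nat_lit 2,nat_lit 6,nat_lit 2,nat_lit 6,nat_lit 2,nat_lit 2],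
  [nat_lit 1,nat_lit 5,nat_lit 2,nat_lit 3],
  [nat_lit 1,nat_lit 1,nat_lit 5,nat_lit 1,nat_lit 1,nat_lit 6],
  [nat_lit 2,nat_lit 3,nat_lit 2],
  [nat_lit 5,nat_lit 2,nat_lit 6,nat_lit 1,nat_lit 4,nat_lit 5],
  [nat_lit 1,nat_lit 6,nat_lit 2,nat_lit 2,nat_lit 5,nat_lit 2],
  [nat_lit 1,nat_lit 1,nat_lit 6,nat_lit 2,nat_lit 3],
  [nat_lit 2,nat_lit 4,nat_lit 5,nat_lit 2],
  [nat_lit 1,nat_lit 4,nat_lit 6,nat_lit 2],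
  [nat_lit 1,nat_lit 1,nat_lit 6,nat_lit 1,nat_lit 3,nat_lit 5,nat_lit 1],
  [nat_lit 1,nat_lit 4,nat_lit 6,nat_lit 1,nat_lit 5],
  [nat_lit 2,nat_lit 6,nat_lit 2,nat_lit 6,nat_lit 1,nat_lit 4],
  [nat_lit 1,nat_lit 4,nat_lit 1,nat_lit 6],
  [nat_lit 1,nat_lit 1,nat_lit 6,nat_lit 1,nat_lit 5],
  [nat_lit 3,nat_lit 2,nat_lit 6,nat_lit 2,nat_lit 2],
  [nat_lit 2,nat_lit 6,nat_lit 1,nat_lit 1],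
  [nat_lit 2,nat_lit 2,nat_lit 5,nat_lit 2,nat_lit 2,nat_lit 6],
  [nat_lit 1,nat_lit 4,nat_lit 5,nat_lit 2],
  [nat_lit 2,nat_lit 5,nat_lit 2,nat_lit 5,nat_lit 1,nat_lit 4],
  [nat_lit 3,nat_lit 6,nat_lit 2,nat_lit 6,nat_lit 2,nat_lit 2],
  [nat_lit 1,nat_lit 1,nat_lit 6,nat_lit 1,nat_lit 1],
  [nat_lit 2,nat_lit 6,nat_lit 2,nat_lit 6],
  [nat_lit 1,nat_lit 6,nat_lit 1,nat_lit 1],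
  [nat_lit 1,nat_lit 1,nat_lit 4,nat_lit 5,nat_lit 1,nat_lit 5],
  [nat_lit 5,nat_lit 2,nat_lit 2,nat_lit 6],
  [nat_lit 1,nat_lit 4,nat_lit 1,nat_lit 5],
  [nat_lit 1,nat_lit 5,nat_lit 2,nat_lit 3,nat_lit 6,nat_lit 2],
  [nat_lit 3,nat_lit 2],
  [nat_lit 1,nat_lit 5,nat_lit 2,nat_lit 6,nat_lit 2,nat_lit 2,nat_lit 6],
  [nat_lit 2,nat_lit 5,nat_lit 1,nat_lit 6,nat_lit 2,nat_lit 2],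
  [nat_lit 4,nat_lit 6,nat_lit 2],
  [nat_lit 6,nat_lit 1,nat_lit 5],
  [nat_lit 1,nat_lit 5,nat_lit 1,nat_lit 5,nat_lit 2,nat_lit 6],
  [nat_lit 3,nat_lit 5,nat_lit 2,nat_lit 3,nat_lit 5],
  [nat_lit 3,nat_lit 1,nat_lit 5,nat_lit 1,nat_lit 1],
  [nat_lit 6,nat_lit 1,nat_lit 3],
  [nat_lit 2,nat_lit 5,nat_lit 1,nat_lit 6,nat_lit 1,nat_lit 4],
  [nat_lit 1,nat_lit 3,nat_lit 1,nat_lit 5,nat_lit 1],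
  [nat_lit 1,nat_lit 4,nat_lit 5,nat_lit 2,nat_lit 3,nat_lit 6],
  [nat_lit 2,nat_lit 4,nat_lit 5,nat_lit 1,nat_lit 6],
  [nat_lit 1,nat_lit 1,nat_lit 1,nat_lit 6,nat_lit 1],
  [nat_lit 2,nat_lit 6,nat_lit 2,nat_lit 6,nat_lit 2],
  [nat_lit 1,nat_lit 6,nat_lit 1],
  [nat_lit 3,nat_lit 6,nat_lit 1,nat_lit 5,nat_lit 1],
  [nat_lit 3,nat_lit 6,nat_lit 2,nat_lit 3,nat_lit 5,nat_lit 2],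
  [nat_lit 2,nat_lit 4,nat_lit 5,nat_lit 1,nat_lit 5,nat_lit 1],
  [nat_lit 1,nat_lit 3,nat_lit 1,nat_lit 5,nat_lit 2],
  [nat_lit 1,nat_lit 1,nat_lit 4,nat_lit 5],
  [nat_lit 5,nat_lit 2,nat_lit 2,nat_lit 5,nat_lit 2],
  [nat_lit 4,nat_lit 6,nat_lit 2,nat_lit 5,nat_lit 1],
  [nat_lit 3,nat_lit 6,nat_lit 2,nat_lit 5,nat_lit 1,nat_lit 1],
  [nat_lit 2,nat_lit 6,nat_lit 2,nat_lit 4,nat_lit 6],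
  [nat_lit 1,nat_lit 3,nat_lit 6,nat_lit 1,nat_lit 3],
  [nat_lit 1,nat_lit 3,nat_lit 6,nat_lit 1,nat_lit 5,nat_lit 2,nat_lit 4],
  [nat_lit 2,nat_lit 2,nat_lit 2,nat_lit 5,nat_lit 2],
  [nat_lit 1,nat_lit 3,nat_lit 1,nat_lit 6,nat_lit 2],
  [nat_lit 2,nat_lit 2,nat_lit 6,nat_lit 1,nat_lit 4,nat_lit 5],
  [nat_lit 2,nat_lit 2,nat_lit 6,nat_lit 2],
  [nat_lit 5,nat_lit 1,nat_lit 3,nat_lit 5,nat_lit 1,nat_lit 5],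
  [nat_lit 4,nat_lit 6],
  [nat_lit 2,nat_lit 5,nat_lit 1,nat_lit 6,nat_lit 2],
  [nat_lit 1,nat_lit 1,nat_lit 4,nat_lit 6,nat_lit 1,nat_lit 3],
  [nat_lit 3,nat_lit 6,nat_lit 2,nat_lit 6],
  [nat_lit 2,nat_lit 2,nat_lit 6,nat_lit 1,nat_lit 6],
  [nat_lit 5,nat_lit 1,nat_lit 1,nat_lit 6,nat_lit 2,nat_lit 4],
  [nat_lit 5,nat_lit 1,nat_lit 1,nat_lit 5],
  [nat_lit 2,nat_lit 2,nat_lit 5,nat_lit 2,nat_lit 3],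
  [nat_lit 2,nat_lit 6,nat_lit 2,nat_lit 5],
  [nat_lit 1,nat_lit 1,nat_lit 5,nat_lit 2,nat_lit 2],
  [nat_lit 2,nat_lit 6,nat_lit 2,nat_lit 3],
  [nat_lit 1,nat_lit 5,nat_lit 1,nat_lit 6,nat_lit 2,nat_lit 3],
  [nat_lit 2,nat_lit 3,nat_lit 6,nat_lit 1,nat_lit 6],
  [nat_lit 1,nat_lit 3,nat_lit 6,nat_lit 1,nat_lit 5],
  [nat_lit 3,nat_lit 5,nat_lit 1],
  [nat_lit 3,nat_lit 2,nat_lit 5,nat_lit 2,nat_lit 5],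
  [nat_lit 2,nat_lit 4,nat_lit 6],
  [nat_lit 5,nat_lit 2,nat_lit 6,nat_lit 2,nat_lit 2,nat_lit 5],
  [nat_lit 3,nat_lit 1],
  [nat_lit 1,nat_lit 6,nat_lit 2],
  [nat_lit 1,nat_lit 1,nat_lit 6,nat_lit 2,nat_lit 5],
  [nat_lit 1,nat_lit 5,nat_lit 2,nat_lit 4,nat_lit 5,nat_lit 2,nat_lit 6],
  [nat_lit 1,nat_lit 1,nat_lit 6,nat_lit 1,nat_lit 3,nat_lit 6,nat_lit 1],
  [nat_lit 4,nat_lit 2,nat_lit 6,nat_lit 1,nat_lit 3],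
  [nat_lit 1,nat_lit 5,nat_lit 1,nat_lit 1],
  [nat_lit 2,nat_lit 5,nat_lit 2,nat_lit 5],
  [nat_lit 1,nat_lit 1,nat_lit 6,nat_lit 1,nat_lit 6],
  [nat_lit 1,nat_lit 3,nat_lit 6,nat_lit 2,nat_lit 3],
  [nat_lit 4,nat_lit 1,nat_lit 5],
  [nat_lit 5,nat_lit 2,nat_lit 6,nat_lit 1,nat_lit 6],
  [nat_lit 1,nat_lit 3,nat_lit 6,nat_lit 1,nat_lit 5,nat_lit 1,nat_lit 4],
  [nat_lit 2,nat_lit 6,nat_lit 1],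
  [nat_lit 1,nat_lit 5],
  [nat_lit 2,nat_lit 5,nat_lit 2,nat_lit 5,nat_lit 2,nat_lit 2],
  [nat_lit 3,nat_lit 1,nat_lit 5],
  [nat_lit 1,nat_lit 5,nat_lit 2,nat_lit 4,nat_lit 5,nat_lit 2],
  [nat_lit 1,nat_lit 1,nat_lit 4,nat_lit 6,nat_lit 2],
  [nat_lit 3,nat_lit 2,nat_lit 5,nat_lit 2,nat_lit 3,nat_lit 5],
  [nat_lit 1,nat_lit 1,nat_lit 5],
  [nat_lit 2,nat_lit 6,nat_lit 2,nat_lit 5,nat_lit 1,nat_lit 1],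
  [nat_lit 2,nat_lit 5,nat_lit 1,nat_lit 5,nat_lit 2,nat_lit 6],
  [nat_lit 1,nat_lit 5,nat_lit 2,nat_lit 3,nat_lit 6,nat_lit 2,nat_lit 6],
  [nat_lit 1,nat_lit 4,nat_lit 5,nat_lit 1,nat_lit 3],
  [nat_lit 6,nat_lit 2,nat_lit 5],
  [nat_lit 1,nat_lit 4,nat_lit 1],
  [nat_lit 2,nat_lit 2,nat_lit 6,nat_lit 1,nat_lit 1,nat_lit 6],
  [nat_lit 1,nat_lit 4,nat_lit 1,nat_lit 5,nat_lit 2],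
  [nat_lit 3,nat_lit 5,nat_lit 1,nat_lit 5,nat_lit 1],
  [nat_lit 2,nat_lit 5,nat_lit 1,nat_lit 3],
  [nat_lit 5,nat_lit 2,nat_lit 4,nat_lit 6],
  [nat_lit 3,nat_lit 6,nat_lit 2,nat_lit 3,nat_lit 5],
  [nat_lit 3,nat_lit 1,nat_lit 6,nat_lit 1,nat_lit 1,nat_lit 6],
  [nat_lit 2,nat_lit 6,nat_lit 2],
  [nat_lit 1,nat_lit 6,nat_lit 1,nat_lit 1,nat_lit 5],
  [nat_lit 5,nat_lit 1,nat_lit 6,nat_lit 2,nat_lit 4,nat_lit 6],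
  [nat_lit 2,nat_lit 2,nat_lit 6,nat_lit 1],
  [nat_lit 2,nat_lit 3,nat_lit 5,nat_lit 1,nat_lit 5],
  [nat_lit 3,nat_lit 1,nat_lit 5,nat_lit 2,nat_lit 2],
  [nat_lit 2,nat_lit 5],
  [nat_lit 4,nat_lit 6,nat_lit 1,nat_lit 5,nat_lit 2],
  [nat_lit 4,nat_lit 5,nat_lit 2,nat_lit 3],
  [nat_lit 1,nat_lit 5,nat_lit 1,nat_lit 6],
  [nat_lit 2,nat_lit 6,nat_lit 2,nat_lit 3,nat_lit 5],
  [nat_lit 3,nat_lit 1,nat_lit 5,nat_lit 2],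
  [nat_lit 3,nat_lit 5,nat_lit 1,nat_lit 3,nat_lit 5],
  [nat_lit 2,nat_lit 2,nat_lit 5,nat_lit 2],
  [nat_lit 1,nat_lit 6,nat_lit 1,nat_lit 3,nat_lit 6],
  [nat_lit 5,nat_lit 1,nat_lit 5,nat_lit 1,nat_lit 3],
  [nat_lit 1,nat_lit 3,nat_lit 6,nat_lit 2,nat_lit 2,nat_lit 5,nat_lit 1],
  [nat_lit 3,nat_lit 5,nat_lit 2,nat_lit 3,nat_lit 6],
  [nat_lit 2,nat_lit 5,nat_lit 2,nat_lit 4,nat_lit 6,nat_lit 1],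
  [nat_lit 5,nat_lit 1,nat_lit 4,nat_lit 6],
  [nat_lit 3,nat_lit 1,nat_lit 5,nat_lit 1,nat_lit 1,nat_lit 5],
  [nat_lit 1,nat_lit 6,nat_lit 2,nat_lit 6],
  [nat_lit 5,nat_lit 1,nat_lit 6,nat_lit 2,nat_lit 6],
  [nat_lit 1,nat_lit 6,nat_lit 1,nat_lit 5],
  [nat_lit 3,nat_lit 1,nat_lit 5,nat_lit 1,nat_lit 6],
  [nat_lit 2,nat_lit 2,nat_lit 6,nat_lit 1,nat_lit 3],
  [nat_lit 5,nat_lit 1,nat_lit 5,nat_lit 1,nat_lit 6],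
  [nat_lit 1,nat_lit 5,nat_lit 2,nat_lit 4],
  [nat_lit 1,nat_lit 1,nat_lit 6,nat_lit 1],
  [nat_lit 1,nat_lit 3,nat_lit 6,nat_lit 2,nat_lit 3,nat_lit 5],
  [nat_lit 3,nat_lit 6,nat_lit 1,nat_lit 6],
  [nat_lit 1,nat_lit 4,nat_lit 5,nat_lit 1,nat_lit 5,nat_lit 1],
  [nat_lit 2,nat_lit 2,nat_lit 5,nat_lit 1,nat_lit 3],
  [nat_lit 5,nat_lit 1,nat_lit 1,nat_lit 5,nat_lit 1],
  [nat_lit 1,nat_lit 1,nat_lit 5,nat_lit 2,nat_lit 5],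
  [nat_lit 5,nat_lit 1,nat_lit 5,nat_lit 2],
  [nat_lit 3,nat_lit 2,nat_lit 6],
  [nat_lit 1,nat_lit 1,nat_lit 6,nat_lit 1,nat_lit 5,nat_lit 1,nat_lit 1],
  [nat_lit 3,nat_lit 6,nat_lit 2,nat_lit 3],
  [nat_lit 2,nat_lit 5,nat_lit 1,nat_lit 6,nat_lit 1,nat_lit 1],
  [nat_lit 6,nat_lit 1,nat_lit 4,nat_lit 6],
  [nat_lit 3,nat_lit 5,nat_lit 2,nat_lit 6,nat_lit 2],
  [nat_lit 3,nat_lit 5,nat_lit 1,nat_lit 3,nat_lit 5,nat_lit 1,nat_lit 5],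
  [nat_lit 2,nat_lit 2,nat_lit 6],
  [nat_lit 4,nat_lit 2,nat_lit 6,nat_lit 2,nat_lit 6],
  [nat_lit 2,nat_lit 4,nat_lit 5,nat_lit 1,nat_lit 5,nat_lit 2],
  [nat_lit 1,nat_lit 3,nat_lit 5,nat_lit 2,nat_lit 5],
  [nat_lit 1,nat_lit 5,nat_lit 2,nat_lit 4,nat_lit 6,nat_lit 2],
  [nat_lit 6,nat_lit 1],
  [nat_lit 1,nat_lit 5,nat_lit 1,nat_lit 5,nat_lit 2,nat_lit 5],
  [nat_lit 2,nat_lit 4,nat_lit 6,nat_lit 1,nat_lit 6],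
  [nat_lit 1,nat_lit 1,nat_lit 6,nat_lit 2,nat_lit 5,nat_lit 2,nat_lit 3],
  [nat_lit 1,nat_lit 5,nat_lit 1,nat_lit 6,nat_lit 1],
  [nat_lit 4,nat_lit 5,nat_lit 1,nat_lit 3],
  [nat_lit 1,nat_lit 3,nat_lit 1,nat_lit 6,nat_lit 1],
  [nat_lit 1,nat_lit 4,nat_lit 6,nat_lit 2,nat_lit 3,nat_lit 5],
  [nat_lit 5,nat_lit 1,nat_lit 5,nat_lit 1],
  [nat_lit 1,nat_lit 6,nat_lit 1,nat_lit 6],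
  [nat_lit 1,nat_lit 5,nat_lit 2,nat_lit 6,nat_lit 2,nat_lit 2],
  [nat_lit 3,nat_lit 2,nat_lit 5],
  [nat_lit 2,nat_lit 5,nat_lit 1,nat_lit 4],
  [nat_lit 5,nat_lit 2,nat_lit 6],
  [nat_lit 1,nat_lit 5,nat_lit 1,nat_lit 3,nat_lit 5],
  [nat_lit 3,nat_lit 5,nat_lit 2,nat_lit 2,nat_lit 6],
  [nat_lit 1,nat_lit 3,nat_lit 6,nat_lit 1,nat_lit 5,nat_lit 1],
  [nat_lit 2,nat_lit 6,nat_lit 1,nat_lit 3],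
  [nat_lit 2,nat_lit 4,nat_lit 5,nat_lit 1,nat_lit 5],
  [nat_lit 4,nat_lit 2,nat_lit 5,nat_lit 2,nat_lit 4],
  [nat_lit 1,nat_lit 1,nat_lit 6,nat_lit 2,nat_lit 4],
  [nat_lit 4,nat_lit 2,nat_lit 6,nat_lit 1,nat_lit 6],
  [nat_lit 4,nat_lit 1],
  [nat_lit 5,nat_lit 2,nat_lit 6,nat_lit 1,nat_lit 5],
  [nat_lit 3],
  [nat_lit 1,nat_lit 1,nat_lit 6,nat_lit 2,nat_lit 5,nat_lit 2,nat_lit 6],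
  [nat_lit 3,nat_lit 1,nat_lit 6,nat_lit 1],
  [nat_lit 2,nat_lit 5,nat_lit 1,nat_lit 6,nat_lit 2,nat_lit 4,nat_lit 5],
  [nat_lit 4,nat_lit 2,nat_lit 5,nat_lit 1,nat_lit 1],
  [nat_lit 3,nat_lit 6,nat_lit 2,nat_lit 3,nat_lit 6,nat_lit 2],
  [nat_lit 6,nat_lit 2,nat_lit 4],
  [nat_lit 1,nat_lit 5,nat_lit 1,nat_lit 6,nat_lit 1,nat_lit 5],
  [nat_lit 1,nat_lit 1,nat_lit 4],
  [nat_lit 5,nat_lit 2,nat_lit 2,nat_lit 5,nat_lit 2,nat_lit 6],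
  [nat_lit 6,nat_lit 1,nat_lit 6],
  [nat_lit 1,nat_lit 5,nat_lit 1,nat_lit 5,nat_lit 2],
  [nat_lit 4,nat_lit 6,nat_lit 1],
  [nat_lit 2,nat_lit 5,nat_lit 1,nat_lit 6],
  [nat_lit 1,nat_lit 5,nat_lit 2,nat_lit 3,nat_lit 6],
  [nat_lit 1,nat_lit 4,nat_lit 1,nat_lit 5,nat_lit 1],
  [nat_lit 4,nat_lit 5,nat_lit 2,nat_lit 6,nat_lit 1],
  [nat_lit 1],
  [nat_lit 2,nat_lit 3,nat_lit 2,nat_lit 5],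
  [nat_lit 5,nat_lit 1,nat_lit 1,nat_lit 6,nat_lit 2],
  [nat_lit 2,nat_lit 5,nat_lit 2,nat_lit 5,nat_lit 2,nat_lit 2,nat_lit 6],
  [nat_lit 3,nat_lit 2,nat_lit 6,nat_lit 1,nat_lit 5,nat_lit 1],
  [nat_lit 6,nat_lit 1,nat_lit 6,nat_lit 2,nat_lit 3],
  [nat_lit 5,nat_lit 2,nat_lit 2,nat_lit 6,nat_lit 1],
  [nat_lit 1,nat_lit 3,nat_lit 5,nat_lit 1,nat_lit 1,nat_lit 5,nat_lit 1],
  [nat_lit 1,nat_lit 6,nat_lit 2,nat_lit 5],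
  [nat_lit 1,nat_lit 4,nat_lit 5,nat_lit 1,nat_lit 5],
  [nat_lit 3,nat_lit 2,nat_lit 6,nat_lit 1,nat_lit 3],
  [nat_lit 5,nat_lit 2,nat_lit 2,nat_lit 5],
  [nat_lit 1,nat_lit 1,nat_lit 4,nat_lit 5,nat_lit 1],
  [nat_lit 1,nat_lit 4,nat_lit 6,nat_lit 1,nat_lit 3,nat_lit 6],
  [nat_lit 2,nat_lit 2,nat_lit 5,nat_lit 1,nat_lit 1],
  [nat_lit 2,nat_lit 2,nat_lit 5,nat_lit 1,nat_lit 6],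
  [nat_lit 1,nat_lit 1,nat_lit 6,nat_lit 1,nat_lit 4,nat_lit 6],
  [nat_lit 2,nat_lit 2,nat_lit 6,nat_lit 2,nat_lit 2],
  [nat_lit 5,nat_lit 1,nat_lit 3,nat_lit 5,nat_lit 2,nat_lit 5],
  [nat_lit 1,nat_lit 3,nat_lit 6,nat_lit 2],
  [nat_lit 4,nat_lit 6,nat_lit 1,nat_lit 5,nat_lit 1,nat_lit 6],
  [nat_lit 1,nat_lit 6,nat_lit 2,nat_lit 6,nat_lit 2],
  [nat_lit 2,nat_lit 5,nat_lit 2,nat_lit 4,nat_lit 6],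
  [nat_lit 1,nat_lit 1,nat_lit 4,nat_lit 6,nat_lit 1,nat_lit 5],
  [nat_lit 6,nat_lit 2,nat_lit 2],
  [nat_lit 2,nat_lit 2,nat_lit 2,nat_lit 5],
  [nat_lit 1,nat_lit 6,nat_lit 1,nat_lit 1,nat_lit 5,nat_lit 2],
  [nat_lit 3,nat_lit 5,nat_lit 2,nat_lit 2,nat_lit 5],
  [nat_lit 1,nat_lit 5,nat_lit 1,nat_lit 3],
  [nat_lit 2,nat_lit 6,nat_lit 2,nat_lit 4],
  [nat_lit 1,nat_lit 3,nat_lit 6,nat_lit 1,nat_lit 3,nat_lit 5],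
  [nat_lit 2,nat_lit 4,nat_lit 5,nat_lit 1,nat_lit 6,nat_lit 2,nat_lit 5],
  [nat_lit 1,nat_lit 1,nat_lit 1],
  [nat_lit 6,nat_lit 1,nat_lit 4,nat_lit 5,nat_lit 2],
  [nat_lit 1,nat_lit 3,nat_lit 5,nat_lit 2,nat_lit 2,nat_lit 6],
  [nat_lit 2,nat_lit 6,nat_lit 2,nat_lit 6,nat_lit 2,nat_lit 3],
  [nat_lit 1,nat_lit 6,nat_lit 1,nat_lit 3],
  [nat_lit 1,nat_lit 5,nat_lit 2,nat_lit 3,nat_lit 5,nat_lit 2],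
  [nat_lit 1,nat_lit 1,nat_lit 5,nat_lit 1],
  [nat_lit 4,nat_lit 5,nat_lit 2],
  [nat_lit 1,nat_lit 5,nat_lit 1,nat_lit 4,nat_lit 6],
  [nat_lit 2,nat_lit 4,nat_lit 6,nat_lit 1],
  [nat_lit 1,nat_lit 3,nat_lit 6,nat_lit 1,nat_lit 5,nat_lit 2,nat_lit 3],
  [nat_lit 1,nat_lit 4,nat_lit 6,nat_lit 1,nat_lit 3],
  [nat_lit 2,nat_lit 2,nat_lit 5,nat_lit 1,nat_lit 1,nat_lit 5],
  [nat_lit 5,nat_lit 2,nat_lit 6,nat_lit 1,nat_lit 1],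
  [nat_lit 4,nat_lit 1,nat_lit 6,nat_lit 1],
  [nat_lit 2,nat_lit 2,nat_lit 2,nat_lit 6,nat_lit 2],
  [nat_lit 4,nat_lit 2,nat_lit 5,nat_lit 2,nat_lit 6],
  [nat_lit 2],
  [nat_lit 4,nat_lit 6,nat_lit 1,nat_lit 5,nat_lit 2,nat_lit 6],
  [nat_lit 3,nat_lit 5,nat_lit 1,nat_lit 5],
  [nat_lit 2,nat_lit 2,nat_lit 5,nat_lit 2,nat_lit 4],
  [nat_lit 4,nat_lit 2,nat_lit 6,nat_lit 2,nat_lit 3],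
  [nat_lit 1,nat_lit 1,nat_lit 6,nat_lit 2,nat_lit 5,nat_lit 2],
  [nat_lit 2,nat_lit 4,nat_lit 6,nat_lit 2,nat_lit 3],
  [nat_lit 2,nat_lit 2,nat_lit 6,nat_lit 1,nat_lit 1,nat_lit 5],
  [nat_lit 6,nat_lit 1,nat_lit 6,nat_lit 1,nat_lit 1],
  [nat_lit 4,nat_lit 5,nat_lit 1],
  [nat_lit 1,nat_lit 5,nat_lit 1,nat_lit 4],
  [nat_lit 3,nat_lit 5,nat_lit 1,nat_lit 6],
  [nat_lit 1,nat_lit 5,nat_lit 1,nat_lit 6,nat_lit 1,nat_lit 4],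
  [nat_lit 4,nat_lit 5,nat_lit 2,nat_lit 5],
  [nat_lit 2,nat_lit 5,nat_lit 1,nat_lit 1,nat_lit 5],
  [nat_lit 1,nat_lit 1,nat_lit 4,nat_lit 5,nat_lit 2,nat_lit 3],
  [nat_lit 5,nat_lit 1,nat_lit 5,nat_lit 2,nat_lit 5],
  [nat_lit 1,nat_lit 1,nat_lit 5,nat_lit 2,nat_lit 6],
  [nat_lit 2,nat_lit 3,nat_lit 6,nat_lit 1],
  [nat_lit 3,nat_lit 2,nat_lit 5,nat_lit 2,nat_lit 6],
  [nat_lit 4,nat_lit 1,nat_lit 6],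
  [nat_lit 5,nat_lit 2,nat_lit 6,nat_lit 1],
  [nat_lit 2,nat_lit 5,nat_lit 2,nat_lit 3,nat_lit 6],
  [nat_lit 3,nat_lit 1,nat_lit 6,nat_lit 2],
  [nat_lit 6,nat_lit 1,nat_lit 3,nat_lit 6],
  [nat_lit 1,nat_lit 5,nat_lit 1,nat_lit 5,nat_lit 2,nat_lit 3],
  [nat_lit 3,nat_lit 2,nat_lit 5,nat_lit 1],
  [nat_lit 1,nat_lit 5,nat_lit 2,nat_lit 6,nat_lit 2],
  [nat_lit 1,nat_lit 3,nat_lit 1,nat_lit 6,nat_lit 2,nat_lit 6],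
  [nat_lit 2,nat_lit 2,nat_lit 6,nat_lit 1,nat_lit 4],
  [nat_lit 1,nat_lit 3,nat_lit 5,nat_lit 1,nat_lit 3],
  [nat_lit 2,nat_lit 5,nat_lit 2,nat_lit 4,nat_lit 5],
  [nat_lit 1,nat_lit 3,nat_lit 5,nat_lit 1],
  [nat_lit 2,nat_lit 5,nat_lit 2,nat_lit 3,nat_lit 5],
  [nat_lit 1,nat_lit 5,nat_lit 1,nat_lit 1,nat_lit 6],
  [nat_lit 2,nat_lit 5,nat_lit 2],
  [nat_lit 1,nat_lit 1,nat_lit 6,nat_lit 2,nat_lit 2],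
  [nat_lit 2,nat_lit 5,nat_lit 2,nat_lit 6],
  [nat_lit 5,nat_lit 1,nat_lit 5,nat_lit 1,nat_lit 6,nat_lit 2],
  [nat_lit 6,nat_lit 1,nat_lit 1],
  [nat_lit 6,nat_lit 1,nat_lit 1,nat_lit 6],
  [nat_lit 5,nat_lit 1,nat_lit 6,nat_lit 2,nat_lit 6,nat_lit 2],
  [nat_lit 4,nat_lit 2,nat_lit 5],
  [nat_lit 1,nat_lit 5,nat_lit 2,nat_lit 5,nat_lit 1,nat_lit 6,nat_lit 2],
  [nat_lit 1,nat_lit 4,nat_lit 5,nat_lit 2,nat_lit 6,nat_lit 1],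
  [nat_lit 4,nat_lit 2,nat_lit 5,nat_lit 2,nat_lit 3],
  [nat_lit 1,nat_lit 4,nat_lit 5,nat_lit 2,nat_lit 5],
  [nat_lit 5,nat_lit 1,nat_lit 3,nat_lit 5,nat_lit 2,nat_lit 2],
  [nat_lit 3,nat_lit 2,nat_lit 6,nat_lit 2],
  [nat_lit 1,nat_lit 1,nat_lit 6,nat_lit 1,nat_lit 5,nat_lit 1],
  [nat_lit 1,nat_lit 3,nat_lit 1,nat_lit 5],
  [nat_lit 1,nat_lit 4,nat_lit 5,nat_lit 2,nat_lit 3,nat_lit 6,nat_lit 2],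
  [nat_lit 1,nat_lit 1,nat_lit 4,nat_lit 6,nat_lit 1,nat_lit 6],
  [nat_lit 6,nat_lit 2,nat_lit 2,nat_lit 5],
  [nat_lit 1,nat_lit 5,nat_lit 1,nat_lit 4,nat_lit 5],
  [nat_lit 4,nat_lit 5,nat_lit 2,nat_lit 6],
  [nat_lit 5,nat_lit 1,nat_lit 5,nat_lit 2,nat_lit 4],
  [nat_lit 2,nat_lit 5,nat_lit 1,nat_lit 4,nat_lit 6,nat_lit 2],
  [nat_lit 3,nat_lit 1,nat_lit 6,nat_lit 1,nat_lit 1],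
  [nat_lit 4,nat_lit 2,nat_lit 5,nat_lit 1,nat_lit 6],
  [nat_lit 3,nat_lit 6,nat_lit 1],
  [nat_lit 3,nat_lit 6,nat_lit 2,nat_lit 3,nat_lit 6],
  [nat_lit 1,nat_lit 5,nat_lit 1,nat_lit 3,nat_lit 6,nat_lit 1],
  [nat_lit 3,nat_lit 5,nat_lit 2],
  [nat_lit 1,nat_lit 1,nat_lit 5,nat_lit 2,nat_lit 4],
  [nat_lit 1,nat_lit 5,nat_lit 2,nat_lit 5,nat_lit 1],
  [nat_lit 2,nat_lit 2,nat_lit 2,nat_lit 6],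
  [nat_lit 5,nat_lit 2,nat_lit 6,nat_lit 1,nat_lit 3],
  [nat_lit 2,nat_lit 3,nat_lit 5,nat_lit 1,nat_lit 1],
  [nat_lit 1,nat_lit 4,nat_lit 6,nat_lit 2,nat_lit 5],
  [nat_lit 1,nat_lit 1,nat_lit 1,nat_lit 5],
  [nat_lit 5,nat_lit 2,nat_lit 6,nat_lit 2,nat_lit 4],
  [nat_lit 1,nat_lit 1,nat_lit 1,nat_lit 6,nat_lit 1,nat_lit 1],
  [nat_lit 1,nat_lit 4,nat_lit 5,nat_lit 2,nat_lit 6,nat_lit 2,nat_lit 2],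
  [nat_lit 2,nat_lit 4],
  [nat_lit 5,nat_lit 2,nat_lit 6,nat_lit 2,nat_lit 2,nat_lit 6],
  [nat_lit 2,nat_lit 5,nat_lit 1,nat_lit 6,nat_lit 2,nat_lit 5,nat_lit 2],
  [nat_lit 4,nat_lit 2],
  [nat_lit 1,nat_lit 1,nat_lit 6,nat_lit 1,nat_lit 3,nat_lit 6],
  [nat_lit 1,nat_lit 6,nat_lit 2,nat_lit 2],
  [nat_lit 4,nat_lit 2,nat_lit 6,nat_lit 2],
  [nat_lit 1,nat_lit 1,nat_lit 6,nat_lit 2,nat_lit 5,nat_lit 2,nat_lit 4],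
  [nat_lit 1,nat_lit 3,nat_lit 1,nat_lit 6],
  [nat_lit 1,nat_lit 4,nat_lit 6,nat_lit 2,nat_lit 3,nat_lit 5,nat_lit 2],
  [nat_lit 4,nat_lit 5,nat_lit 2,nat_lit 5,nat_lit 1,nat_lit 4],
  [nat_lit 1,nat_lit 3,nat_lit 5,nat_lit 2],
  [nat_lit 3,nat_lit 2,nat_lit 6,nat_lit 1,nat_lit 3,nat_lit 5],
  [nat_lit 2,nat_lit 4,nat_lit 6,nat_lit 2],
  [nat_lit 1,nat_lit 3],
  [nat_lit 2,nat_lit 5,nat_lit 2,nat_lit 3,nat_lit 5,nat_lit 2,nat_lit 6],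
  [nat_lit 3,nat_lit 2,nat_lit 5,nat_lit 2,nat_lit 6,nat_lit 2],
  [nat_lit 2,nat_lit 3,nat_lit 6],
  [nat_lit 2,nat_lit 5,nat_lit 1,nat_lit 4,nat_lit 5,nat_lit 1,nat_lit 6],
  [],
  [nat_lit 2,nat_lit 2,nat_lit 6,nat_lit 1,nat_lit 5],
  [nat_lit 5,nat_lit 1,nat_lit 6,nat_lit 2,nat_lit 4],
  [nat_lit 1,nat_lit 6,nat_lit 1,nat_lit 6,nat_lit 2],
  [nat_lit 5,nat_lit 1,nat_lit 5],
  [nat_lit 2,nat_lit 5,nat_lit 2,nat_lit 3,nat_lit 6,nat_lit 1],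
  [nat_lit 3,nat_lit 1,nat_lit 6],
  [nat_lit 3,nat_lit 2,nat_lit 6,nat_lit 1,nat_lit 6],
  [nat_lit 1,nat_lit 3,nat_lit 5,nat_lit 1,nat_lit 1],
  [nat_lit 1,nat_lit 5,nat_lit 2,nat_lit 5,nat_lit 1,nat_lit 6],
  [nat_lit 4,nat_lit 2,nat_lit 5,nat_lit 1],
  [nat_lit 2,nat_lit 5,nat_lit 2,nat_lit 6,nat_lit 1],
  [nat_lit 1,nat_lit 1,nat_lit 6,nat_lit 2],
  [nat_lit 2,nat_lit 5,nat_lit 2,nat_lit 5,nat_lit 1],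
  [nat_lit 1,nat_lit 4,nat_lit 5,nat_lit 2,nat_lit 3],
  [nat_lit 3,nat_lit 6],
  [nat_lit 2,nat_lit 5,nat_lit 1,nat_lit 6,nat_lit 2,nat_lit 4],
  [nat_lit 4,nat_lit 1,nat_lit 6,nat_lit 1,nat_lit 5],
  [nat_lit 1,nat_lit 1,nat_lit 4,nat_lit 5,nat_lit 2],
  [nat_lit 5,nat_lit 1,nat_lit 1,nat_lit 5,nat_lit 1,nat_lit 4],
  [nat_lit 2,nat_lit 2,nat_lit 5,nat_lit 1],
  [nat_lit 1,nat_lit 1,nat_lit 6,nat_lit 1,nat_lit 6,nat_lit 2],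
  [nat_lit 1,nat_lit 6,nat_lit 1,nat_lit 4],
  [nat_lit 2,nat_lit 5,nat_lit 1,nat_lit 5],
  [nat_lit 5,nat_lit 2,nat_lit 3],
  [nat_lit 2,nat_lit 2,nat_lit 2],
  [nat_lit 5,nat_lit 2,nat_lit 6,nat_lit 1,nat_lit 3,nat_lit 5],
  [nat_lit 4,nat_lit 2,nat_lit 5,nat_lit 1,nat_lit 4],
  [nat_lit 5,nat_lit 1,nat_lit 5,nat_lit 2,nat_lit 3,nat_lit 5],
  [nat_lit 2,nat_lit 5,nat_lit 1,nat_lit 4,nat_lit 6,nat_lit 1],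
  [nat_lit 6,nat_lit 2,nat_lit 3],
  [nat_lit 1,nat_lit 5,nat_lit 1,nat_lit 3,nat_lit 6,nat_lit 1,nat_lit 1],
  [nat_lit 3,nat_lit 5],
  [nat_lit 6,nat_lit 1,nat_lit 5,nat_lit 2],
  [nat_lit 5,nat_lit 1,nat_lit 1,nat_lit 5,nat_lit 1,nat_lit 6],
  [nat_lit 2,nat_lit 2],
  [nat_lit 3,nat_lit 5,nat_lit 1,nat_lit 3,nat_lit 5,nat_lit 1,nat_lit 6],
  [nat_lit 5,nat_lit 2,nat_lit 2],
  [nat_lit 1,nat_lit 1,nat_lit 4,nat_lit 5,nat_lit 1,nat_lit 6],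
  [nat_lit 2,nat_lit 6,nat_lit 2,nat_lit 6,nat_lit 1,nat_lit 3],
  [nat_lit 1,nat_lit 3,nat_lit 6,nat_lit 2,nat_lit 2],
  [nat_lit 1,nat_lit 4,nat_lit 1,nat_lit 6,nat_lit 2],
  [nat_lit 1,nat_lit 1,nat_lit 6,nat_lit 1,nat_lit 3,nat_lit 5],
  [nat_lit 1,nat_lit 4,nat_lit 5,nat_lit 2,nat_lit 6],
  [nat_lit 1,nat_lit 1,nat_lit 1,nat_lit 5,nat_lit 1,nat_lit 1],
  [nat_lit 4,nat_lit 6,nat_lit 2,nat_lit 5],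
  [nat_lit 3,nat_lit 6,nat_lit 2,nat_lit 5,nat_lit 1],
  [nat_lit 1,nat_lit 3,nat_lit 6,nat_lit 2,nat_lit 2,nat_lit 6],
  [nat_lit 3,nat_lit 5,nat_lit 1,nat_lit 6,nat_lit 1],
  [nat_lit 4],
  [nat_lit 2,nat_lit 5,nat_lit 1,nat_lit 6,nat_lit 2,nat_lit 5],
  [nat_lit 2,nat_lit 4,nat_lit 5,nat_lit 1],
  [nat_lit 5,nat_lit 2,nat_lit 6,nat_lit 2],
  [nat_lit 1,nat_lit 3,nat_lit 1,nat_lit 6,nat_lit 2,nat_lit 6,nat_lit 2],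
  [nat_lit 1,nat_lit 4,nat_lit 1,nat_lit 6,nat_lit 1],
  [nat_lit 2,nat_lit 3,nat_lit 5,nat_lit 1,nat_lit 5,nat_lit 2],
  [nat_lit 1,nat_lit 1,nat_lit 5,nat_lit 1,nat_lit 3],
  [nat_lit 1,nat_lit 1,nat_lit 6,nat_lit 1,nat_lit 4,nat_lit 5,nat_lit 1],
  [nat_lit 1,nat_lit 6,nat_lit 2,nat_lit 4,nat_lit 5],
  [nat_lit 1,nat_lit 6,nat_lit 1,nat_lit 6,nat_lit 2,nat_lit 3],
  [nat_lit 3,nat_lit 1,nat_lit 5,nat_lit 1,nat_lit 3,nat_lit 6],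
  [nat_lit 1,nat_lit 1,nat_lit 1,nat_lit 5,nat_lit 1],
  [nat_lit 5,nat_lit 1,nat_lit 3,nat_lit 5],
  [nat_lit 1,nat_lit 5,nat_lit 2],
  [nat_lit 1,nat_lit 4,nat_lit 5,nat_lit 2,nat_lit 6,nat_lit 2],
  [nat_lit 1,nat_lit 5,nat_lit 1,nat_lit 6,nat_lit 2],
  [nat_lit 5,nat_lit 1,nat_lit 1],
  [nat_lit 6,nat_lit 1,nat_lit 6,nat_lit 2,nat_lit 2],
  [nat_lit 1,nat_lit 1,nat_lit 6,nat_lit 2,nat_lit 6,nat_lit 2],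
  [nat_lit 1,nat_lit 3,nat_lit 1,nat_lit 6,nat_lit 1,nat_lit 5],
  [nat_lit 6,nat_lit 1,nat_lit 4,nat_lit 6,nat_lit 2],
  [nat_lit 2,nat_lit 6,nat_lit 1,nat_lit 1,nat_lit 6],
  [nat_lit 3,nat_lit 6,nat_lit 2,nat_lit 6,nat_lit 2],
  [nat_lit 3,nat_lit 5,nat_lit 2,nat_lit 6],
  [nat_lit 1,nat_lit 5,nat_lit 2,nat_lit 3,nat_lit 6,nat_lit 1],
  [nat_lit 2,nat_lit 3,nat_lit 5],
  [nat_lit 4,nat_lit 5,nat_lit 2,nat_lit 6,nat_lit 2],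
  [nat_lit 2,nat_lit 2,nat_lit 5,nat_lit 1,nat_lit 4],
  [nat_lit 4,nat_lit 6,nat_lit 1,nat_lit 5,nat_lit 2,nat_lit 3],
  [nat_lit 3,nat_lit 6,nat_lit 1,nat_lit 3],
  [nat_lit 5,nat_lit 1,nat_lit 3,nat_lit 5,nat_lit 1,nat_lit 6],
  [nat_lit 1,nat_lit 5,nat_lit 2,nat_lit 5],
  [nat_lit 3,nat_lit 1,nat_lit 5,nat_lit 1,nat_lit 3],
  [nat_lit 1,nat_lit 6,nat_lit 2,nat_lit 3],
  [nat_lit 3,nat_lit 2,nat_lit 5,nat_lit 1,nat_lit 5,nat_lit 1],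
  [nat_lit 5,nat_lit 1],
  [nat_lit 1,nat_lit 5,nat_lit 1,nat_lit 6,nat_lit 2,nat_lit 2],
  [nat_lit 2,nat_lit 3,nat_lit 6,nat_lit 1,nat_lit 1],
  [nat_lit 1,nat_lit 3,nat_lit 6,nat_lit 1,nat_lit 5,nat_lit 2],
  [nat_lit 2,nat_lit 5,nat_lit 1,nat_lit 6,nat_lit 2,nat_lit 3],
  [nat_lit 1,nat_lit 1,nat_lit 5,nat_lit 1,nat_lit 4],
  [nat_lit 2,nat_lit 3,nat_lit 6,nat_lit 1,nat_lit 5],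
  [nat_lit 6],
  [nat_lit 5,nat_lit 2,nat_lit 2,nat_lit 5,nat_lit 1],
  [nat_lit 3,nat_lit 2,nat_lit 5,nat_lit 2],
  [nat_lit 4,nat_lit 6,nat_lit 2,nat_lit 5,nat_lit 2],
  [nat_lit 3,nat_lit 6,nat_lit 2,nat_lit 5],
  [nat_lit 1,nat_lit 4,nat_lit 5,nat_lit 2,nat_lit 3,nat_lit 5],
  [nat_lit 1,nat_lit 5,nat_lit 2,nat_lit 4,nat_lit 5],
  [nat_lit 1,nat_lit 3,nat_lit 5,nat_lit 1,nat_lit 1,nat_lit 5],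
  [nat_lit 5,nat_lit 1,nat_lit 4,nat_lit 5,nat_lit 2],
  [nat_lit 3,nat_lit 1,nat_lit 5,nat_lit 1],
  [nat_lit 3,nat_lit 2,nat_lit 6,nat_lit 1],
  [nat_lit 1,nat_lit 1],
  [nat_lit 2,nat_lit 5,nat_lit 2,nat_lit 6,nat_lit 1,nat_lit 1,nat_lit 5],
  [nat_lit 4,nat_lit 6,nat_lit 1,nat_lit 5,nat_lit 1],
  [nat_lit 2,nat_lit 5,nat_lit 1,nat_lit 1],
  [nat_lit 2,nat_lit 5,nat_lit 1,nat_lit 3,nat_lit 6],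
  [nat_lit 4,nat_lit 6,nat_lit 1,nat_lit 3],
  [nat_lit 6,nat_lit 1,nat_lit 6,nat_lit 2],
  [nat_lit 1,nat_lit 1,nat_lit 6,nat_lit 2,nat_lit 6],
  [nat_lit 1,nat_lit 1,nat_lit 4,nat_lit 6,nat_lit 1],
  [nat_lit 6,nat_lit 2,nat_lit 2,nat_lit 6],
  [nat_lit 1,nat_lit 3,nat_lit 5,nat_lit 1,nat_lit 3,nat_lit 6],
  [nat_lit 2,nat_lit 5,nat_lit 2,nat_lit 4],
  [nat_lit 2,nat_lit 2,nat_lit 5,nat_lit 2,nat_lit 6,nat_lit 2],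
  [nat_lit 3,nat_lit 5,nat_lit 2,nat_lit 3],
  [nat_lit 2,nat_lit 6,nat_lit 2,nat_lit 4,nat_lit 6,nat_lit 1],
  [nat_lit 1,nat_lit 6,nat_lit 2,nat_lit 4],
  [nat_lit 1,nat_lit 5,nat_lit 1],
  [nat_lit 2,nat_lit 5,nat_lit 2,nat_lit 5,nat_lit 2],
  [nat_lit 2,nat_lit 4,nat_lit 5,nat_lit 2,nat_lit 6,nat_lit 2],
  [nat_lit 1,nat_lit 4,nat_lit 6],
  [nat_lit 2,nat_lit 2,nat_lit 6,nat_lit 1,nat_lit 5,nat_lit 2],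
  [nat_lit 4,nat_lit 2,nat_lit 6,nat_lit 1,nat_lit 1],
  [nat_lit 4,nat_lit 1,nat_lit 5,nat_lit 1],
  [nat_lit 3,nat_lit 2,nat_lit 5,nat_lit 2,nat_lit 3,nat_lit 6],
  [nat_lit 1,nat_lit 1,nat_lit 6,nat_lit 1,nat_lit 4],
  [nat_lit 1,nat_lit 3,nat_lit 6,nat_lit 2,nat_lit 5],
  [nat_lit 3,nat_lit 5,nat_lit 1,nat_lit 5,nat_lit 1,nat_lit 6],
  [nat_lit 1,nat_lit 5,nat_lit 2,nat_lit 2],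
  [nat_lit 1,nat_lit 5,nat_lit 2,nat_lit 5,nat_lit 1,nat_lit 4],
  [nat_lit 1,nat_lit 1,nat_lit 5,nat_lit 2,nat_lit 3],
  [nat_lit 1,nat_lit 3,nat_lit 5,nat_lit 1,nat_lit 6],
  [nat_lit 2,nat_lit 5,nat_lit 2,nat_lit 3],
  [nat_lit 2,nat_lit 3,nat_lit 6,nat_lit 1,nat_lit 5,nat_lit 2],
  [nat_lit 1,nat_lit 1,nat_lit 5,nat_lit 1,nat_lit 6],
  [nat_lit 2,nat_lit 4,nat_lit 5,nat_lit 2,nat_lit 6],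
  [nat_lit 1,nat_lit 4,nat_lit 6,nat_lit 1],
  [nat_lit 2,nat_lit 2,nat_lit 6,nat_lit 1,nat_lit 1],
  [nat_lit 1,nat_lit 4,nat_lit 5,nat_lit 1,nat_lit 3,nat_lit 5],
  [nat_lit 2,nat_lit 2,nat_lit 6,nat_lit 2,nat_lit 6],
  [nat_lit 3,nat_lit 1,nat_lit 5,nat_lit 2,nat_lit 3],
  [nat_lit 2,nat_lit 3,nat_lit 5,nat_lit 1],
  [nat_lit 5,nat_lit 1,nat_lit 3,nat_lit 5,nat_lit 1],
  [nat_lit 1,nat_lit 5,nat_lit 2,nat_lit 5,nat_lit 2],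
  [nat_lit 3,nat_lit 1,nat_lit 5,nat_lit 2,nat_lit 2,nat_lit 6],
  [nat_lit 1,nat_lit 1,nat_lit 5,nat_lit 1,nat_lit 1],
  [nat_lit 1,nat_lit 5,nat_lit 2,nat_lit 3,nat_lit 5],
  [nat_lit 6,nat_lit 1,nat_lit 4],
  [nat_lit 2,nat_lit 5,nat_lit 1,nat_lit 6,nat_lit 1],
  [nat_lit 5],
  [nat_lit 2,nat_lit 5,nat_lit 1,nat_lit 4,nat_lit 5,nat_lit 1],
  [nat_lit 1,nat_lit 1,nat_lit 6,nat_lit 2,nat_lit 4,nat_lit 5],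
  [nat_lit 4,nat_lit 2,nat_lit 6,nat_lit 1],
  [nat_lit 1,nat_lit 1,nat_lit 6,nat_lit 1,nat_lit 4,nat_lit 5],
  [nat_lit 1,nat_lit 3,nat_lit 6,nat_lit 2,nat_lit 6],
  [nat_lit 2,nat_lit 2,nat_lit 2,nat_lit 6,nat_lit 2,nat_lit 5],
  [nat_lit 4,nat_lit 2,nat_lit 5,nat_lit 2],
  [nat_lit 2,nat_lit 3,nat_lit 2,nat_lit 6,nat_lit 2],
  [nat_lit 5,nat_lit 2,nat_lit 4,nat_lit 6,nat_lit 1],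
  [nat_lit 1,nat_lit 6,nat_lit 1,nat_lit 1,nat_lit 5,nat_lit 1],
  [nat_lit 1,nat_lit 4,nat_lit 6,nat_lit 1,nat_lit 6],
  [nat_lit 5,nat_lit 2,nat_lit 4],
  [nat_lit 2,nat_lit 6],
  [nat_lit 2,nat_lit 4,nat_lit 5,nat_lit 2,nat_lit 5],
  [nat_lit 2,nat_lit 5,nat_lit 1,nat_lit 3,nat_lit 5],
  [nat_lit 3,nat_lit 5,nat_lit 1,nat_lit 3,nat_lit 6],
  [nat_lit 2,nat_lit 2,nat_lit 5,nat_lit 2,nat_lit 5],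
  [nat_lit 4,nat_lit 1,nat_lit 5,nat_lit 1,nat_lit 5],
  [nat_lit 3,nat_lit 2,nat_lit 5,nat_lit 2,nat_lit 3],
  [nat_lit 5,nat_lit 1,nat_lit 1,nat_lit 6,nat_lit 1],
  [nat_lit 4,nat_lit 2,nat_lit 6,nat_lit 1,nat_lit 5],
  [nat_lit 1,nat_lit 1,nat_lit 6],
  [nat_lit 2,nat_lit 5,nat_lit 2,nat_lit 6,nat_lit 1,nat_lit 1],
  [nat_lit 1,nat_lit 5,nat_lit 2,nat_lit 6],
  [nat_lit 3,nat_lit 2,nat_lit 5,nat_lit 1,nat_lit 1],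
  [nat_lit 1,nat_lit 4,nat_lit 6,nat_lit 2,nat_lit 3],
  [nat_lit 2,nat_lit 6,nat_lit 2,nat_lit 6,nat_lit 1],
  [nat_lit 1,nat_lit 1,nat_lit 4,nat_lit 5,nat_lit 1,nat_lit 3],
  [nat_lit 3,nat_lit 5,nat_lit 2,nat_lit 5],
  [nat_lit 2,nat_lit 2,nat_lit 5,nat_lit 1,nat_lit 5],
  [nat_lit 5,nat_lit 1,nat_lit 3,nat_lit 5,nat_lit 2],
  [nat_lit 3,nat_lit 1,nat_lit 5,nat_lit 1,nat_lit 5],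
  [nat_lit 1,nat_lit 5,nat_lit 2,nat_lit 4,nat_lit 6],
  [nat_lit 2,nat_lit 5,nat_lit 1,nat_lit 5,nat_lit 2,nat_lit 5],
  [nat_lit 6,nat_lit 2],
  [nat_lit 3,nat_lit 5,nat_lit 2,nat_lit 2],
  [nat_lit 1,nat_lit 5,nat_lit 1,nat_lit 3,nat_lit 6],
  [nat_lit 1,nat_lit 3,nat_lit 5,nat_lit 2,nat_lit 2],
  [nat_lit 2,nat_lit 5,nat_lit 2,nat_lit 5,nat_lit 1,nat_lit 3],
  [nat_lit 1,nat_lit 4,nat_lit 5,nat_lit 1],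
  [nat_lit 4,nat_lit 5,nat_lit 2,nat_lit 5,nat_lit 2],
  [nat_lit 6,nat_lit 1,nat_lit 3,nat_lit 5],
  [nat_lit 1,nat_lit 5,nat_lit 1,nat_lit 5,nat_lit 2,nat_lit 3,nat_lit 6],
  [nat_lit 3,nat_lit 6,nat_lit 2],
  [nat_lit 4,nat_lit 6,nat_lit 2,nat_lit 5,nat_lit 2,nat_lit 6],
  [nat_lit 2,nat_lit 5,nat_lit 1,nat_lit 5,nat_lit 1,nat_lit 6],
  [nat_lit 5,nat_lit 1,nat_lit 3,nat_lit 6],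
  [nat_lit 2,nat_lit 6,nat_lit 2,nat_lit 3,nat_lit 6,nat_lit 2],
  [nat_lit 1,nat_lit 3,nat_lit 6],
  [nat_lit 5,nat_lit 1,nat_lit 3],
  [nat_lit 5,nat_lit 1,nat_lit 5,nat_lit 1,nat_lit 3,nat_lit 6],
  [nat_lit 5,nat_lit 2,nat_lit 6,nat_lit 2,nat_lit 2],
  [nat_lit 2,nat_lit 5,nat_lit 1,nat_lit 5,nat_lit 1],
  [nat_lit 3,nat_lit 6,nat_lit 2,nat_lit 2],
  [nat_lit 2,nat_lit 4,nat_lit 5],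
  [nat_lit 4,nat_lit 6,nat_lit 1,nat_lit 5],
  [nat_lit 2,nat_lit 5,nat_lit 1],
  [nat_lit 3,nat_lit 6,nat_lit 1,nat_lit 5],
  [nat_lit 5,nat_lit 1,nat_lit 5,nat_lit 1,nat_lit 1],
  [nat_lit 1,nat_lit 1,nat_lit 6,nat_lit 2,nat_lit 4,nat_lit 5,nat_lit 2],
  [nat_lit 2,nat_lit 6,nat_lit 2,nat_lit 3,nat_lit 6],
  [nat_lit 1,nat_lit 4,nat_lit 5],
  [nat_lit 4,nat_lit 2,nat_lit 6],
  [nat_lit 1,nat_lit 3,nat_lit 6,nat_lit 1],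
  [nat_lit 4,nat_lit 5,nat_lit 2,nat_lit 5,nat_lit 2,nat_lit 2],
  [nat_lit 1,nat_lit 3,nat_lit 5],
  [nat_lit 2,nat_lit 5,nat_lit 2,nat_lit 3,nat_lit 5,nat_lit 2],
  [nat_lit 1,nat_lit 4,nat_lit 5,nat_lit 2,nat_lit 3,nat_lit 6,nat_lit 2,nat_lit 6],
  [nat_lit 1,nat_lit 3,nat_lit 1],
  [nat_lit 1,nat_lit 1,nat_lit 5,nat_lit 2,nat_lit 5,nat_lit 2],
  [nat_lit 5,nat_lit 1,nat_lit 5,nat_lit 2,nat_lit 2],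
  [nat_lit 1,nat_lit 1,nat_lit 5,nat_lit 1,nat_lit 5],
  [nat_lit 4,nat_lit 5,nat_lit 2,nat_lit 5,nat_lit 1],
  [nat_lit 1,nat_lit 5,nat_lit 1,nat_lit 5],
  [nat_lit 6,nat_lit 1,nat_lit 6,nat_lit 1],
  [nat_lit 2,nat_lit 3,nat_lit 2,nat_lit 6],
  [nat_lit 5,nat_lit 2,nat_lit 6,nat_lit 1,nat_lit 4],
  [nat_lit 2,nat_lit 4,nat_lit 5,nat_lit 2,nat_lit 3],
  [nat_lit 1,nat_lit 4,nat_lit 6,nat_lit 1,nat_lit 3,nat_lit 5],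
  [nat_lit 1,nat_lit 1,nat_lit 6,nat_lit 1,nat_lit 3],
  [nat_lit 1,nat_lit 6,nat_lit 2,nat_lit 2,nat_lit 5],
  [nat_lit 1,nat_lit 4,nat_lit 6,nat_lit 2,nat_lit 6],
  [nat_lit 1,nat_lit 5,nat_lit 1,nat_lit 3,nat_lit 5,nat_lit 1],
  [nat_lit 5,nat_lit 2,nat_lit 5],
  [nat_lit 2,nat_lit 5,nat_lit 1,nat_lit 4,nat_lit 6],
  [nat_lit 1,nat_lit 5,nat_lit 1,nat_lit 6,nat_lit 2,nat_lit 6],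
  [nat_lit 5,nat_lit 1,nat_lit 1,nat_lit 6]]

end Cfsg.ON
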