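import Cfsg.Agent.ON.K

/-! Data and checks for one of the candidates. -/

set_option autoImplicit false
set_option maxRecDepth 100000
set_option Elab.async false

namespace Cfsg.ON

open Cfsg.H6

def LD1 : List (List ℕ) := [[nat_lit 6,nat_lit 2,nat_lit 3,nat_lit 6,nat_lit 2,nat_lit 3,nat_lit 6],
  [nat_lit 6,nat_lit 2,nat_lit 3,nat_lit 6,nat_lit 2,nat_lit 3,nat_lit 6,nat_lit 7],
  [nat_lit 6,nat_lit 2,nat_lit 3,nat_lit 6,nat_lit 2,nat_lit 3,nat_lit 6,nat_lit 7,nat_lit 7],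
  [nat_lit 2,nat_lit 2,nat_lit 2,nat_lit 5,nat_lit 1,nat_lit 1,nat_lit 5,nat_lit 1],
  [],
  [nat_lit 7],
  [nat_lit 7,nat_lit 7],
  [nat_lit 7,nat_lit 7,nat_lit 7],
  [nat_lit 6,nat_lit 2,nat_lit 6,nat_lit 1,nat_lit 5,nat_lit 2,nat_lit 3,nat_lit 5],
  [nat_lit 6,nat_lit 2,nat_lit 6,nat_lit 1,nat_lit 5,nat_lit 2,nat_lit 3,nat_lit 5,nat_lit 7],
  [nat_lit 5,nat_lit 2,nat_lit 5,nat_lit 1,nat_lit 6,nat_lit 2,nat_lit 3,nat_lit 6],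
  [nat_lit 5,nat_lit 2,nat_lit 5,nat_lit 1,nat_lit 6,nat_lit 2,nat_lit 3,nat_lit 6,nat_lit 7],
  [nat_lit 6,nat_lit 2,nat_lit 3,nat_lit 5,nat_lit 2,nat_lit 5,nat_lit 1],
  [nat_lit 6,nat_lit 2,nat_lit 3,nat_lit 5,nat_lit 2,nat_lit 5,nat_lit 1,nat_lit 7],
  [nat_lit 6,nat_lit 2,nat_lit 3,nat_lit 5,nat_lit 2,nat_lit 5,nat_lit 1,nat_lit 7,nat_lit 7],
  [nat_lit 6,nat_lit 2,nat_lit 3,nat_lit 5,nat_lit 2,nat_lit 5,nat_lit 1,nat_lit 7,nat_lit 7,nat_lit 7],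
  [nat_lit 3,nat_lit 6,nat_lit 1,nat_lit 1,nat_lit 6,nat_lit 1,nat_lit 6],
  [nat_lit 3,nat_lit 6,nat_lit 1,nat_lit 1,nat_lit 6,nat_lit 1,nat_lit 6,nat_lit 7],
  [nat_lit 3,nat_lit 6,nat_lit 1,nat_lit 1,nat_lit 6,nat_lit 1,nat_lit 6,nat_lit 7,nat_lit 7],
  [nat_lit 2,nat_lit 3,nat_lit 5,nat_lit 2,nat_lit 3,nat_lit 5,nat_lit 2,nat_lit 3],
  [nat_lit 6,nat_lit 2,nat_lit 5,nat_lit 1,nat_lit 6,nat_lit 2,nat_lit 3],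
  [nat_lit 6,nat_lit 2,nat_lit 5,nat_lit 1,nat_lit 6,nat_lit 2,nat_lit 3,nat_lit 7],
  [nat_lit 2,nat_lit 6,nat_lit 1,nat_lit 5,nat_lit 2,nat_lit 3,nat_lit 6],
  [nat_lit 2,nat_lit 6,nat_lit 1,nat_lit 5,nat_lit 2,nat_lit 3,nat_lit 6,nat_lit 7],
  [nat_lit 3,nat_lit 2,nat_lit 5,nat_lit 2,nat_lit 2,nat_lit 5,nat_lit 2,nat_lit 6,nat_lit 2,nat_lit 2],
  [nat_lit 3,nat_lit 2,nat_lit 5,nat_lit 2,nat_lit 2,nat_lit 5,nat_lit 2,nat_lit 6,nat_lit 2,nat_lit 2,nat_lit 7],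
  [nat_lit 1,nat_lit 1,nat_lit 5,nat_lit 1,nat_lit 6,nat_lit 1,nat_lit 1,nat_lit 6,nat_lit 1,nat_lit 4],
  [nat_lit 2,nat_lit 3,nat_lit 6,nat_lit 1,nat_lit 6,nat_lit 1,nat_lit 1,nat_lit 5,nat_lit 2,nat_lit 4],
  [nat_lit 2,nat_lit 3,nat_lit 5,nat_lit 2,nat_lit 6,nat_lit 1,nat_lit 4,nat_lit 5,nat_lit 1],
  [nat_lit 2,nat_lit 3,nat_lit 5,nat_lit 2,nat_lit 6,nat_lit 1,nat_lit 4,nat_lit 5,nat_lit 1,nat_lit 7],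
  [nat_lit 1,nat_lit 5,nat_lit 1,nat_lit 6,nat_lit 2,nat_lit 4,nat_lit 5,nat_lit 1,nat_lit 6,nat_lit 1,nat_lit 1],
  [nat_lit 1,nat_lit 6,nat_lit 2,nat_lit 5,nat_lit 1,nat_lit 5,nat_lit 2,nat_lit 2,nat_lit 5],
  [nat_lit 1,nat_lit 4,nat_lit 5,nat_lit 1,nat_lit 6,nat_lit 1,nat_lit 3,nat_lit 5,nat_lit 1,nat_lit 7],
  [nat_lit 1,nat_lit 6,nat_lit 2,nat_lit 2,nat_lit 6,nat_lit 2,nat_lit 5,nat_lit 2,nat_lit 4,nat_lit 5],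
  [nat_lit 1,nat_lit 1,nat_lit 6,nat_lit 2,nat_lit 3,nat_lit 6,nat_lit 2,nat_lit 5,nat_lit 1,nat_lit 1,nat_lit 6],
  [nat_lit 1,nat_lit 4,nat_lit 5,nat_lit 1,nat_lit 6,nat_lit 1,nat_lit 3,nat_lit 5,nat_lit 1],
  [nat_lit 2,nat_lit 3,nat_lit 5,nat_lit 1,nat_lit 6,nat_lit 1,nat_lit 5,nat_lit 1,nat_lit 4],
  [nat_lit 2,nat_lit 3,nat_lit 5,nat_lit 1,nat_lit 6,nat_lit 1,nat_lit 5,nat_lit 1,nat_lit 4,nat_lit 7],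
  [nat_lit 1,nat_lit 5,nat_lit 2,nat_lit 5,nat_lit 2,nat_lit 3,nat_lit 6,nat_lit 1,nat_lit 5,nat_lit 1],
  [nat_lit 5,nat_lit 2,nat_lit 4,nat_lit 6,nat_lit 2,nat_lit 6,nat_lit 1,nat_lit 5,nat_lit 2,nat_lit 4],
  [nat_lit 1,nat_lit 1,nat_lit 1,nat_lit 6,nat_lit 2,nat_lit 5,nat_lit 2,nat_lit 6],
  [nat_lit 1,nat_lit 1,nat_lit 1,nat_lit 6,nat_lit 2,nat_lit 5,nat_lit 2,nat_lit 6,nat_lit 7],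
  [nat_lit 1,nat_lit 1,nat_lit 1,nat_lit 6,nat_lit 2,nat_lit 5,nat_lit 2,nat_lit 6,nat_lit 7,nat_lit 7],
  [nat_lit 1,nat_lit 1,nat_lit 1,nat_lit 6,nat_lit 2,nat_lit 5,nat_lit 2,nat_lit 6,nat_lit 7,nat_lit 7,nat_lit 7],
  [nat_lit 2,nat_lit 5,nat_lit 2,nat_lit 6,nat_lit 2,nat_lit 5,nat_lit 1,nat_lit 4,nat_lit 5],
  [nat_lit 2,nat_lit 5,nat_lit 2,nat_lit 6,nat_lit 2,nat_lit 5,nat_lit 1,nat_lit 4,nat_lit 5,nat_lit 7],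
  [nat_lit 4,nat_lit 2,nat_lit 5,nat_lit 2,nat_lit 4,nat_lit 6,nat_lit 1,nat_lit 5,nat_lit 1,nat_lit 6],
  [nat_lit 1,nat_lit 5,nat_lit 2,nat_lit 6,nat_lit 1,nat_lit 3,nat_lit 6,nat_lit 1,nat_lit 5,nat_lit 1,nat_lit 5],
  [nat_lit 3,nat_lit 6,nat_lit 2,nat_lit 6,nat_lit 1,nat_lit 5,nat_lit 1,nat_lit 6,nat_lit 1,nat_lit 7],
  [nat_lit 5,nat_lit 2,nat_lit 6,nat_lit 2,nat_lit 3,nat_lit 5,nat_lit 1,nat_lit 6,nat_lit 1,nat_lit 3],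
  [nat_lit 2,nat_lit 5,nat_lit 2,nat_lit 6,nat_lit 1,nat_lit 6,nat_lit 1,nat_lit 5,nat_lit 2,nat_lit 5],
  [nat_lit 3,nat_lit 6,nat_lit 2,nat_lit 6,nat_lit 1,nat_lit 5,nat_lit 1,nat_lit 6,nat_lit 1],
  [nat_lit 4,nat_lit 1,nat_lit 5,nat_lit 2,nat_lit 6,nat_lit 1,nat_lit 5,nat_lit 7],
  [nat_lit 4,nat_lit 5,nat_lit 1,nat_lit 6,nat_lit 2,nat_lit 5,nat_lit 1],
  [nat_lit 4,nat_lit 5,nat_lit 1,nat_lit 6,nat_lit 2,nat_lit 5,nat_lit 1,nat_lit 7],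
  [nat_lit 4,nat_lit 1,nat_lit 5,nat_lit 2,nat_lit 6,nat_lit 1,nat_lit 5],
  [nat_lit 2,nat_lit 6,nat_lit 2,nat_lit 5,nat_lit 2,nat_lit 6,nat_lit 1,nat_lit 4,nat_lit 6],
  [nat_lit 2,nat_lit 6,nat_lit 2,nat_lit 5,nat_lit 2,nat_lit 6,nat_lit 1,nat_lit 4,nat_lit 6,nat_lit 7],
  [nat_lit 4,nat_lit 2,nat_lit 6,nat_lit 2,nat_lit 4,nat_lit 5,nat_lit 1,nat_lit 6,nat_lit 1,nat_lit 5],
  [nat_lit 5,nat_lit 1,nat_lit 5,nat_lit 2,nat_lit 6,nat_lit 2,nat_lit 6,nat_lit 1,nat_lit 5,nat_lit 1],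
  [nat_lit 1,nat_lit 5,nat_lit 1,nat_lit 4,nat_lit 5,nat_lit 2,nat_lit 5,nat_lit 1,nat_lit 4,nat_lit 6],
  [nat_lit 2,nat_lit 2,nat_lit 2,nat_lit 5,nat_lit 2,nat_lit 6,nat_lit 1,nat_lit 5,nat_lit 1,nat_lit 3],
  [nat_lit 2,nat_lit 4,nat_lit 6,nat_lit 1,nat_lit 5,nat_lit 2,nat_lit 2,nat_lit 6,nat_lit 2,nat_lit 5],
  [nat_lit 1,nat_lit 1,nat_lit 1,nat_lit 5,nat_lit 1,nat_lit 6,nat_lit 2,nat_lit 3,nat_lit 5,nat_lit 1],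
  [nat_lit 1,nat_lit 6,nat_lit 1,nat_lit 4,nat_lit 5,nat_lit 1,nat_lit 3,nat_lit 5],
  [nat_lit 1,nat_lit 6,nat_lit 1,nat_lit 4,nat_lit 5,nat_lit 1,nat_lit 3,nat_lit 5,nat_lit 7],
  [nat_lit 1,nat_lit 6,nat_lit 1,nat_lit 4,nat_lit 5,nat_lit 1,nat_lit 3,nat_lit 5,nat_lit 7,nat_lit 7],
  [nat_lit 1,nat_lit 1,nat_lit 5,nat_lit 1,nat_lit 3,nat_lit 5,nat_lit 1,nat_lit 1,nat_lit 6,nat_lit 2],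
  [nat_lit 2,nat_lit 6,nat_lit 1,nat_lit 6,nat_lit 2,nat_lit 6,nat_lit 1,nat_lit 6,nat_lit 7],
  [nat_lit 2,nat_lit 6,nat_lit 1,nat_lit 6,nat_lit 2,nat_lit 6,nat_lit 1,nat_lit 6,nat_lit 7,nat_lit 7],
  [nat_lit 6,nat_lit 1,nat_lit 1,nat_lit 5,nat_lit 1,nat_lit 5,nat_lit 2,nat_lit 6,nat_lit 1,nat_lit 3],
  [nat_lit 2,nat_lit 6,nat_lit 1,nat_lit 6,nat_lit 2,nat_lit 6,nat_lit 1,nat_lit 6],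
  [nat_lit 1,nat_lit 1,nat_lit 1,nat_lit 5,nat_lit 2,nat_lit 6,nat_lit 2,nat_lit 5,nat_lit 7,nat_lit 7],
  [nat_lit 1,nat_lit 1,nat_lit 1,nat_lit 5,nat_lit 2,nat_lit 6,nat_lit 2,nat_lit 5,nat_lit 7,nat_lit 7,nat_lit 7],
  [nat_lit 1,nat_lit 1,nat_lit 1,nat_lit 5,nat_lit 2,nat_lit 6,nat_lit 2,nat_lit 5],
  [nat_lit 1,nat_lit 1,nat_lit 1,nat_lit 5,nat_lit 2,nat_lit 6,nat_lit 2,nat_lit 5,nat_lit 7],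
  [nat_lit 3,nat_lit 1,nat_lit 6,nat_lit 1,nat_lit 3,nat_lit 5,nat_lit 1,nat_lit 5,nat_lit 2],
  [nat_lit 3,nat_lit 1,nat_lit 6,nat_lit 1,nat_lit 3,nat_lit 5,nat_lit 1,nat_lit 5,nat_lit 2,nat_lit 7],
  [nat_lit 1,nat_lit 6,nat_lit 2,nat_lit 4,nat_lit 6,nat_lit 2,nat_lit 5,nat_lit 2,nat_lit 4],
  [nat_lit 1,nat_lit 1,nat_lit 5,nat_lit 2,nat_lit 4,nat_lit 6,nat_lit 2,nat_lit 6,nat_lit 1,nat_lit 3],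
  [nat_lit 2,nat_lit 6,nat_lit 1,nat_lit 4,nat_lit 6,nat_lit 1,nat_lit 5,nat_lit 7,nat_lit 7],
  [nat_lit 4,nat_lit 1,nat_lit 5,nat_lit 2,nat_lit 3,nat_lit 5,nat_lit 2,nat_lit 3,nat_lit 6],
  [nat_lit 2,nat_lit 6,nat_lit 1,nat_lit 4,nat_lit 6,nat_lit 1,nat_lit 5],
  [nat_lit 2,nat_lit 6,nat_lit 1,nat_lit 4,nat_lit 6,nat_lit 1,nat_lit 5,nat_lit 7],
  [nat_lit 3,nat_lit 6,nat_lit 1,nat_lit 3,nat_lit 6,nat_lit 1,nat_lit 5,nat_lit 1,nat_lit 1],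
  [nat_lit 2,nat_lit 3,nat_lit 5,nat_lit 2,nat_lit 2,nat_lit 5,nat_lit 2,nat_lit 6,nat_lit 1,nat_lit 4],
  [nat_lit 1,nat_lit 3,nat_lit 6,nat_lit 2,nat_lit 5,nat_lit 2,nat_lit 5,nat_lit 1,nat_lit 1,nat_lit 5],
  [nat_lit 1,nat_lit 1,nat_lit 1,nat_lit 5,nat_lit 1,nat_lit 6,nat_lit 1,nat_lit 1,nat_lit 6,nat_lit 2,nat_lit 3],
  [nat_lit 2,nat_lit 2,nat_lit 2,nat_lit 6,nat_lit 1,nat_lit 1,nat_lit 6,nat_lit 1,nat_lit 7,nat_lit 7],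
  [nat_lit 5,nat_lit 2,nat_lit 3,nat_lit 5,nat_lit 2,nat_lit 3,nat_lit 5],
  [nat_lit 2,nat_lit 2,nat_lit 2,nat_lit 6,nat_lit 1,nat_lit 1,nat_lit 6,nat_lit 1],
  [nat_lit 2,nat_lit 2,nat_lit 2,nat_lit 6,nat_lit 1,nat_lit 1,nat_lit 6,nat_lit 1,nat_lit 7],
  [nat_lit 1,nat_lit 6,nat_lit 2,nat_lit 5,nat_lit 2,nat_lit 2,nat_lit 5,nat_lit 1,nat_lit 4],
  [nat_lit 4,nat_lit 5,nat_lit 2,nat_lit 3,nat_lit 6,nat_lit 2,nat_lit 5,nat_lit 2,nat_lit 5],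
  [nat_lit 3,nat_lit 2,nat_lit 6,nat_lit 1,nat_lit 1,nat_lit 6,nat_lit 1,nat_lit 5,nat_lit 2],
  [nat_lit 3,nat_lit 2,nat_lit 6,nat_lit 1,nat_lit 1,nat_lit 6,nat_lit 1,nat_lit 5,nat_lit 2,nat_lit 7],
  [nat_lit 2,nat_lit 2,nat_lit 6,nat_lit 2,nat_lit 3,nat_lit 5,nat_lit 2,nat_lit 2,nat_lit 5,nat_lit 7],
  [nat_lit 3,nat_lit 5,nat_lit 1,nat_lit 3,nat_lit 6,nat_lit 1,nat_lit 5,nat_lit 1,nat_lit 1,nat_lit 6],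
  [nat_lit 3,nat_lit 2,nat_lit 5,nat_lit 1,nat_lit 3,nat_lit 6,nat_lit 1,nat_lit 3,nat_lit 6,nat_lit 1],
  [nat_lit 2,nat_lit 2,nat_lit 6,nat_lit 2,nat_lit 3,nat_lit 5,nat_lit 2,nat_lit 2,nat_lit 5],
  [nat_lit 3,nat_lit 5,nat_lit 1,nat_lit 1,nat_lit 5,nat_lit 1,nat_lit 5],
  [nat_lit 2,nat_lit 3,nat_lit 6,nat_lit 2,nat_lit 3,nat_lit 6,nat_lit 2,nat_lit 3],
  [nat_lit 2,nat_lit 3,nat_lit 6,nat_lit 2,nat_lit 3,nat_lit 6,nat_lit 2,nat_lit 3,nat_lit 7],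
  [nat_lit 2,nat_lit 3,nat_lit 6,nat_lit 2,nat_lit 3,nat_lit 6,nat_lit 2,nat_lit 3,nat_lit 7,nat_lit 7],
  [nat_lit 6,nat_lit 2,nat_lit 5,nat_lit 2,nat_lit 3,nat_lit 6,nat_lit 1,nat_lit 5,nat_lit 1,nat_lit 3],
  [nat_lit 1,nat_lit 6,nat_lit 2,nat_lit 6,nat_lit 1,nat_lit 1,nat_lit 5,nat_lit 2,nat_lit 6,nat_lit 2,nat_lit 3],
  [nat_lit 3,nat_lit 5,nat_lit 2,nat_lit 5,nat_lit 1,nat_lit 6,nat_lit 1,nat_lit 5,nat_lit 1],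
  [nat_lit 2,nat_lit 6,nat_lit 2,nat_lit 5,nat_lit 1,nat_lit 5,nat_lit 1,nat_lit 6,nat_lit 2,nat_lit 6],
  [nat_lit 3,nat_lit 5,nat_lit 2,nat_lit 6,nat_lit 1,nat_lit 3,nat_lit 6,nat_lit 2,nat_lit 6,nat_lit 2],
  [nat_lit 2,nat_lit 4,nat_lit 6,nat_lit 1,nat_lit 5,nat_lit 2,nat_lit 4,nat_lit 6,nat_lit 1,nat_lit 3],
  [nat_lit 6,nat_lit 1,nat_lit 5,nat_lit 1,nat_lit 1,nat_lit 6,nat_lit 2,nat_lit 3,nat_lit 5,nat_lit 1],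
  [nat_lit 4,nat_lit 2,nat_lit 6,nat_lit 2,nat_lit 5,nat_lit 1,nat_lit 4,nat_lit 6,nat_lit 2,nat_lit 3],
  [nat_lit 1,nat_lit 1,nat_lit 5,nat_lit 2,nat_lit 6,nat_lit 1,nat_lit 1,nat_lit 6,nat_lit 2,nat_lit 5],
  [nat_lit 5,nat_lit 1,nat_lit 6,nat_lit 2,nat_lit 2,nat_lit 5,nat_lit 1,nat_lit 5,nat_lit 2,nat_lit 5],
  [nat_lit 2,nat_lit 2,nat_lit 6,nat_lit 2,nat_lit 4,nat_lit 5,nat_lit 1,nat_lit 6,nat_lit 1,nat_lit 6],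
  [nat_lit 6,nat_lit 1,nat_lit 6,nat_lit 2,nat_lit 6,nat_lit 1,nat_lit 1,nat_lit 5,nat_lit 2,nat_lit 6],
  [nat_lit 2,nat_lit 3,nat_lit 6,nat_lit 2,nat_lit 5,nat_lit 1,nat_lit 4,nat_lit 6,nat_lit 1],
  [nat_lit 1,nat_lit 5,nat_lit 2,nat_lit 6,nat_lit 1,nat_lit 6,nat_lit 2,nat_lit 2,nat_lit 6],
  [nat_lit 1,nat_lit 5,nat_lit 2,nat_lit 6,nat_lit 1,nat_lit 6,nat_lit 2,nat_lit 2,nat_lit 6,nat_lit 7],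
  [nat_lit 5,nat_lit 1,nat_lit 6,nat_lit 2,nat_lit 5,nat_lit 1,nat_lit 5,nat_lit 2,nat_lit 2,nat_lit 6],
  [nat_lit 5,nat_lit 1,nat_lit 6,nat_lit 1,nat_lit 6,nat_lit 2,nat_lit 6,nat_lit 2,nat_lit 5],
  [nat_lit 5,nat_lit 1,nat_lit 6,nat_lit 1,nat_lit 6,nat_lit 2,nat_lit 6,nat_lit 2,nat_lit 5,nat_lit 7],
  [nat_lit 5,nat_lit 1,nat_lit 6,nat_lit 1,nat_lit 6,nat_lit 2,nat_lit 6,nat_lit 2,nat_lit 5,nat_lit 7,nat_lit 7],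
  [nat_lit 1,nat_lit 3,nat_lit 1,nat_lit 6,nat_lit 1,nat_lit 6,nat_lit 2,nat_lit 5,nat_lit 1,nat_lit 5,nat_lit 1],
  [nat_lit 4,nat_lit 6,nat_lit 1,nat_lit 6,nat_lit 2,nat_lit 5,nat_lit 1,nat_lit 5],
  [nat_lit 4,nat_lit 6,nat_lit 1,nat_lit 6,nat_lit 2,nat_lit 5,nat_lit 1,nat_lit 5,nat_lit 7],
  [nat_lit 4,nat_lit 5,nat_lit 1,nat_lit 5,nat_lit 2,nat_lit 6,nat_lit 1,nat_lit 6],
  [nat_lit 4,nat_lit 5,nat_lit 1,nat_lit 5,nat_lit 2,nat_lit 6,nat_lit 1,nat_lit 6,nat_lit 7],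
  [nat_lit 6,nat_lit 2,nat_lit 5,nat_lit 2,nat_lit 3,nat_lit 8],
  [nat_lit 6,nat_lit 2,nat_lit 5,nat_lit 2,nat_lit 3,nat_lit 8,nat_lit 7],
  [nat_lit 6,nat_lit 2,nat_lit 5,nat_lit 2,nat_lit 3,nat_lit 7,nat_lit 7,nat_lit 8],
  [nat_lit 6,nat_lit 2,nat_lit 5,nat_lit 2,nat_lit 3,nat_lit 7,nat_lit 8],
  [nat_lit 6,nat_lit 2,nat_lit 3,nat_lit 6,nat_lit 1,nat_lit 6,nat_lit 1,nat_lit 5,nat_lit 8],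
  [nat_lit 6,nat_lit 2,nat_lit 3,nat_lit 6,nat_lit 1,nat_lit 6,nat_lit 1,nat_lit 5,nat_lit 8,nat_lit 7],
  [nat_lit 4,nat_lit 1,nat_lit 6,nat_lit 1,nat_lit 4,nat_lit 5,nat_lit 1,nat_lit 6,nat_lit 2,nat_lit 4,nat_lit 8],
  [nat_lit 6,nat_lit 2,nat_lit 3,nat_lit 6,nat_lit 1,nat_lit 6,nat_lit 1,nat_lit 5,nat_lit 7,nat_lit 8],
  [nat_lit 5,nat_lit 1,nat_lit 4,nat_lit 6,nat_lit 1,nat_lit 5,nat_lit 7,nat_lit 7,nat_lit 8],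
  [nat_lit 5,nat_lit 1,nat_lit 4,nat_lit 6,nat_lit 1,nat_lit 5,nat_lit 7,nat_lit 8],
  [nat_lit 5,nat_lit 1,nat_lit 4,nat_lit 6,nat_lit 1,nat_lit 5,nat_lit 8],
  [nat_lit 5,nat_lit 1,nat_lit 4,nat_lit 6,nat_lit 1,nat_lit 5,nat_lit 8,nat_lit 7],
  [nat_lit 1,nat_lit 1,nat_lit 5,nat_lit 2,nat_lit 4,nat_lit 6,nat_lit 2,nat_lit 5,nat_lit 2,nat_lit 5,nat_lit 8],
  [nat_lit 2,nat_lit 3,nat_lit 2,nat_lit 6,nat_lit 1,nat_lit 3,nat_lit 5,nat_lit 1,nat_lit 3,nat_lit 7,nat_lit 8],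
  [nat_lit 2,nat_lit 3,nat_lit 2,nat_lit 6,nat_lit 1,nat_lit 3,nat_lit 5,nat_lit 1,nat_lit 3,nat_lit 8],
  [nat_lit 2,nat_lit 3,nat_lit 2,nat_lit 6,nat_lit 1,nat_lit 3,nat_lit 5,nat_lit 1,nat_lit 3,nat_lit 8,nat_lit 7],
  [nat_lit 6,nat_lit 1,nat_lit 3,nat_lit 5,nat_lit 1,nat_lit 6,nat_lit 8],
  [nat_lit 6,nat_lit 1,nat_lit 3,nat_lit 5,nat_lit 1,nat_lit 6,nat_lit 8,nat_lit 7],
  [nat_lit 6,nat_lit 1,nat_lit 3,nat_lit 5,nat_lit 1,nat_lit 6,nat_lit 7,nat_lit 7,nat_lit 8],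
  [nat_lit 6,nat_lit 1,nat_lit 3,nat_lit 5,nat_lit 1,nat_lit 6,nat_lit 7,nat_lit 8],
  [nat_lit 2,nat_lit 2,nat_lit 5,nat_lit 1,nat_lit 6,nat_lit 2,nat_lit 4,nat_lit 6,nat_lit 8,nat_lit 7],
  [nat_lit 2,nat_lit 5,nat_lit 2,nat_lit 6,nat_lit 1,nat_lit 5,nat_lit 2,nat_lit 4,nat_lit 5,nat_lit 8],
  [nat_lit 1,nat_lit 6,nat_lit 2,nat_lit 3,nat_lit 6,nat_lit 1,nat_lit 5,nat_lit 1,nat_lit 1,nat_lit 8],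
  [nat_lit 2,nat_lit 2,nat_lit 5,nat_lit 1,nat_lit 6,nat_lit 2,nat_lit 4,nat_lit 6,nat_lit 8],
  [nat_lit 3,nat_lit 1,nat_lit 6,nat_lit 2,nat_lit 2,nat_lit 5,nat_lit 1,nat_lit 4,nat_lit 7,nat_lit 8],
  [nat_lit 3,nat_lit 1,nat_lit 6,nat_lit 2,nat_lit 2,nat_lit 5,nat_lit 1,nat_lit 4,nat_lit 8],
  [nat_lit 3,nat_lit 1,nat_lit 6,nat_lit 2,nat_lit 2,nat_lit 5,nat_lit 1,nat_lit 4,nat_lit 8,nat_lit 7],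
  [nat_lit 3,nat_lit 1,nat_lit 6,nat_lit 2,nat_lit 2,nat_lit 5,nat_lit 1,nat_lit 4,nat_lit 7,nat_lit 7,nat_lit 8],
  [nat_lit 2,nat_lit 6,nat_lit 1,nat_lit 5,nat_lit 1,nat_lit 6,nat_lit 1,nat_lit 5,nat_lit 7,nat_lit 8],
  [nat_lit 2,nat_lit 6,nat_lit 1,nat_lit 5,nat_lit 1,nat_lit 6,nat_lit 1,nat_lit 5,nat_lit 8],
  [nat_lit 2,nat_lit 6,nat_lit 1,nat_lit 5,nat_lit 1,nat_lit 6,nat_lit 1,nat_lit 5,nat_lit 8,nat_lit 7],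
  [nat_lit 1,nat_lit 6,nat_lit 1,nat_lit 3,nat_lit 6,nat_lit 2,nat_lit 5,nat_lit 1,nat_lit 1,nat_lit 6,nat_lit 8],
  [nat_lit 1,nat_lit 4,nat_lit 5,nat_lit 1,nat_lit 3,nat_lit 6,nat_lit 1,nat_lit 7,nat_lit 8],
  [nat_lit 1,nat_lit 4,nat_lit 5,nat_lit 1,nat_lit 3,nat_lit 6,nat_lit 1,nat_lit 8],
  [nat_lit 1,nat_lit 4,nat_lit 5,nat_lit 1,nat_lit 3,nat_lit 6,nat_lit 1,nat_lit 8,nat_lit 7],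
  [nat_lit 1,nat_lit 4,nat_lit 5,nat_lit 1,nat_lit 3,nat_lit 6,nat_lit 1,nat_lit 7,nat_lit 7,nat_lit 8],
  [nat_lit 4,nat_lit 6,nat_lit 1,nat_lit 6,nat_lit 2,nat_lit 6,nat_lit 2,nat_lit 3,nat_lit 7,nat_lit 7,nat_lit 8],
  [nat_lit 4,nat_lit 6,nat_lit 1,nat_lit 6,nat_lit 2,nat_lit 6,nat_lit 2,nat_lit 3,nat_lit 7,nat_lit 8],
  [nat_lit 4,nat_lit 6,nat_lit 1,nat_lit 6,nat_lit 2,nat_lit 6,nat_lit 2,nat_lit 3,nat_lit 8],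
  [nat_lit 4,nat_lit 6,nat_lit 1,nat_lit 6,nat_lit 2,nat_lit 6,nat_lit 2,nat_lit 3,nat_lit 8,nat_lit 7],
  [nat_lit 1,nat_lit 5,nat_lit 2,nat_lit 2,nat_lit 6,nat_lit 2,nat_lit 6,nat_lit 1,nat_lit 1,nat_lit 6,nat_lit 8],
  [nat_lit 6,nat_lit 1,nat_lit 5,nat_lit 1,nat_lit 4,nat_lit 5,nat_lit 2,nat_lit 5,nat_lit 7,nat_lit 8],
  [nat_lit 6,nat_lit 1,nat_lit 5,nat_lit 1,nat_lit 4,nat_lit 5,nat_lit 2,nat_lit 5,nat_lit 8],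
  [nat_lit 6,nat_lit 1,nat_lit 5,nat_lit 1,nat_lit 4,nat_lit 5,nat_lit 2,nat_lit 5,nat_lit 8,nat_lit 7],
  [nat_lit 1,nat_lit 1,nat_lit 1,nat_lit 5,nat_lit 1,nat_lit 3,nat_lit 6,nat_lit 8,nat_lit 7],
  [nat_lit 1,nat_lit 1,nat_lit 1,nat_lit 5,nat_lit 1,nat_lit 3,nat_lit 6,nat_lit 7,nat_lit 7,nat_lit 8],
  [nat_lit 1,nat_lit 1,nat_lit 1,nat_lit 5,nat_lit 1,nat_lit 3,nat_lit 6,nat_lit 7,nat_lit 8],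
  [nat_lit 1,nat_lit 1,nat_lit 1,nat_lit 5,nat_lit 1,nat_lit 3,nat_lit 6,nat_lit 8],
  [nat_lit 2,nat_lit 2,nat_lit 2,nat_lit 5,nat_lit 2,nat_lit 7,nat_lit 8],
  [nat_lit 2,nat_lit 2,nat_lit 2,nat_lit 5,nat_lit 2,nat_lit 8],
  [nat_lit 2,nat_lit 2,nat_lit 2,nat_lit 5,nat_lit 2,nat_lit 8,nat_lit 7],
  [nat_lit 2,nat_lit 2,nat_lit 2,nat_lit 5,nat_lit 2,nat_lit 7,nat_lit 7,nat_lit 8],
  [nat_lit 3,nat_lit 5,nat_lit 2,nat_lit 3,nat_lit 6,nat_lit 1,nat_lit 6,nat_lit 2,nat_lit 3,nat_lit 5,nat_lit 8],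
  [nat_lit 1,nat_lit 5,nat_lit 2,nat_lit 5,nat_lit 1,nat_lit 1,nat_lit 6,nat_lit 2,nat_lit 3,nat_lit 6,nat_lit 2,nat_lit 8],
  [nat_lit 1,nat_lit 1,nat_lit 6,nat_lit 1,nat_lit 4,nat_lit 6,nat_lit 2,nat_lit 5,nat_lit 1,nat_lit 1,nat_lit 5,nat_lit 8],
  [nat_lit 1,nat_lit 1,nat_lit 4,nat_lit 5,nat_lit 1,nat_lit 5,nat_lit 2,nat_lit 2,nat_lit 6,nat_lit 1,nat_lit 6,nat_lit 8],
  [nat_lit 1,nat_lit 5,nat_lit 2,nat_lit 5,nat_lit 2,nat_lit 3,nat_lit 6,nat_lit 2,nat_lit 2,nat_lit 8],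
  [nat_lit 5,nat_lit 1,nat_lit 6,nat_lit 1,nat_lit 1,nat_lit 6,nat_lit 2,nat_lit 6,nat_lit 8],
  [nat_lit 3,nat_lit 2,nat_lit 5,nat_lit 1,nat_lit 6,nat_lit 1,nat_lit 4,nat_lit 6,nat_lit 2,nat_lit 8],
  [nat_lit 1,nat_lit 5,nat_lit 2,nat_lit 5,nat_lit 2,nat_lit 3,nat_lit 6,nat_lit 2,nat_lit 2,nat_lit 7,nat_lit 8],
  [nat_lit 4,nat_lit 2,nat_lit 5,nat_lit 2,nat_lit 5,nat_lit 1,nat_lit 3,nat_lit 5,nat_lit 7,nat_lit 7,nat_lit 8],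
  [nat_lit 4,nat_lit 2,nat_lit 5,nat_lit 2,nat_lit 5,nat_lit 1,nat_lit 3,nat_lit 5,nat_lit 7,nat_lit 8],
  [nat_lit 4,nat_lit 2,nat_lit 5,nat_lit 2,nat_lit 5,nat_lit 1,nat_lit 3,nat_lit 5,nat_lit 8],
  [nat_lit 4,nat_lit 2,nat_lit 5,nat_lit 2,nat_lit 5,nat_lit 1,nat_lit 3,nat_lit 5,nat_lit 8,nat_lit 7],
  [nat_lit 2,nat_lit 6,nat_lit 1,nat_lit 6,nat_lit 1,nat_lit 5,nat_lit 1,nat_lit 6,nat_lit 8,nat_lit 7],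
  [nat_lit 1,nat_lit 5,nat_lit 2,nat_lit 4,nat_lit 6,nat_lit 1,nat_lit 6,nat_lit 1,nat_lit 1,nat_lit 8],
  [nat_lit 2,nat_lit 6,nat_lit 1,nat_lit 6,nat_lit 1,nat_lit 5,nat_lit 1,nat_lit 6,nat_lit 7,nat_lit 8],
  [nat_lit 2,nat_lit 6,nat_lit 1,nat_lit 6,nat_lit 1,nat_lit 5,nat_lit 1,nat_lit 6,nat_lit 8],
  [nat_lit 3,nat_lit 6,nat_lit 2,nat_lit 5,nat_lit 2,nat_lit 5,nat_lit 1,nat_lit 5,nat_lit 7,nat_lit 8],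
  [nat_lit 3,nat_lit 6,nat_lit 2,nat_lit 5,nat_lit 2,nat_lit 5,nat_lit 1,nat_lit 5,nat_lit 8],
  [nat_lit 3,nat_lit 6,nat_lit 2,nat_lit 5,nat_lit 2,nat_lit 5,nat_lit 1,nat_lit 5,nat_lit 8,nat_lit 7],
  [nat_lit 3,nat_lit 6,nat_lit 2,nat_lit 5,nat_lit 2,nat_lit 5,nat_lit 1,nat_lit 5,nat_lit 7,nat_lit 7,nat_lit 8],
  [nat_lit 2,nat_lit 5,nat_lit 2,nat_lit 2,nat_lit 6,nat_lit 2,nat_lit 8],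
  [nat_lit 2,nat_lit 5,nat_lit 2,nat_lit 2,nat_lit 6,nat_lit 2,nat_lit 8,nat_lit 7],
  [nat_lit 2,nat_lit 5,nat_lit 2,nat_lit 2,nat_lit 6,nat_lit 2,nat_lit 7,nat_lit 7,nat_lit 8],
  [nat_lit 2,nat_lit 5,nat_lit 2,nat_lit 2,nat_lit 6,nat_lit 2,nat_lit 7,nat_lit 8],
  [nat_lit 3,nat_lit 5,nat_lit 1,nat_lit 1,nat_lit 6,nat_lit 2,nat_lit 3,nat_lit 8],
  [nat_lit 3,nat_lit 5,nat_lit 1,nat_lit 1,nat_lit 6,nat_lit 2,nat_lit 3,nat_lit 8,nat_lit 7],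
  [nat_lit 3,nat_lit 5,nat_lit 1,nat_lit 1,nat_lit 6,nat_lit 2,nat_lit 3,nat_lit 7,nat_lit 7,nat_lit 8],
  [nat_lit 3,nat_lit 5,nat_lit 1,nat_lit 1,nat_lit 6,nat_lit 2,nat_lit 3,nat_lit 7,nat_lit 8],
  [nat_lit 1,nat_lit 4,nat_lit 1,nat_lit 5,nat_lit 2,nat_lit 6,nat_lit 2,nat_lit 6,nat_lit 1,nat_lit 7,nat_lit 8],
  [nat_lit 1,nat_lit 4,nat_lit 1,nat_lit 5,nat_lit 2,nat_lit 6,nat_lit 2,nat_lit 6,nat_lit 1,nat_lit 8],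
  [nat_lit 5,nat_lit 2,nat_lit 5,nat_lit 1,nat_lit 1,nat_lit 5,nat_lit 1,nat_lit 6,nat_lit 8],
  [nat_lit 2,nat_lit 3,nat_lit 5,nat_lit 1,nat_lit 5,nat_lit 1,nat_lit 6,nat_lit 2,nat_lit 4,nat_lit 8],
  [nat_lit 1,nat_lit 6,nat_lit 1,nat_lit 3,nat_lit 5,nat_lit 2,nat_lit 5,nat_lit 1,nat_lit 6,nat_lit 8,nat_lit 7],
  [nat_lit 1,nat_lit 6,nat_lit 1,nat_lit 3,nat_lit 5,nat_lit 2,nat_lit 5,nat_lit 1,nat_lit 6,nat_lit 7,nat_lit 7,nat_lit 8],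
  [nat_lit 1,nat_lit 6,nat_lit 1,nat_lit 3,nat_lit 5,nat_lit 2,nat_lit 5,nat_lit 1,nat_lit 6,nat_lit 7,nat_lit 8],
  [nat_lit 1,nat_lit 6,nat_lit 1,nat_lit 3,nat_lit 5,nat_lit 2,nat_lit 5,nat_lit 1,nat_lit 6,nat_lit 8],
  [nat_lit 3,nat_lit 5,nat_lit 1,nat_lit 3,nat_lit 5,nat_lit 2,nat_lit 6,nat_lit 1,nat_lit 1,nat_lit 7,nat_lit 8],
  [nat_lit 3,nat_lit 5,nat_lit 1,nat_lit 3,nat_lit 5,nat_lit 2,nat_lit 6,nat_lit 1,nat_lit 1,nat_lit 8],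
  [nat_lit 2,nat_lit 3,nat_lit 6,nat_lit 2,nat_lit 5,nat_lit 1,nat_lit 3,nat_lit 5,nat_lit 1,nat_lit 3,nat_lit 8],
  [nat_lit 1,nat_lit 3,nat_lit 1,nat_lit 5,nat_lit 1,nat_lit 6,nat_lit 1,nat_lit 5,nat_lit 1,nat_lit 5,nat_lit 8],
  [nat_lit 2,nat_lit 4,nat_lit 6,nat_lit 1,nat_lit 3,nat_lit 8,nat_lit 7],
  [nat_lit 2,nat_lit 4,nat_lit 6,nat_lit 1,nat_lit 3,nat_lit 7,nat_lit 7,nat_lit 8],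
  [nat_lit 2,nat_lit 4,nat_lit 6,nat_lit 1,nat_lit 3,nat_lit 7,nat_lit 8],
  [nat_lit 2,nat_lit 4,nat_lit 6,nat_lit 1,nat_lit 3,nat_lit 8],
  [nat_lit 4,nat_lit 2,nat_lit 6,nat_lit 2,nat_lit 5,nat_lit 7,nat_lit 7,nat_lit 8],
  [nat_lit 4,nat_lit 2,nat_lit 6,nat_lit 2,nat_lit 5,nat_lit 7,nat_lit 8],
  [nat_lit 4,nat_lit 2,nat_lit 6,nat_lit 2,nat_lit 5,nat_lit 8],
  [nat_lit 4,nat_lit 2,nat_lit 6,nat_lit 2,nat_lit 5,nat_lit 8,nat_lit 7],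
  [nat_lit 6,nat_lit 1,nat_lit 6,nat_lit 2,nat_lit 6,nat_lit 2,nat_lit 4,nat_lit 5,nat_lit 8],
  [nat_lit 6,nat_lit 1,nat_lit 6,nat_lit 2,nat_lit 6,nat_lit 2,nat_lit 4,nat_lit 5,nat_lit 8,nat_lit 7],
  [nat_lit 6,nat_lit 1,nat_lit 6,nat_lit 2,nat_lit 6,nat_lit 2,nat_lit 4,nat_lit 5,nat_lit 7,nat_lit 7,nat_lit 8],
  [nat_lit 6,nat_lit 1,nat_lit 6,nat_lit 2,nat_lit 6,nat_lit 2,nat_lit 4,nat_lit 5,nat_lit 7,nat_lit 8],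
  [nat_lit 3,nat_lit 5,nat_lit 2,nat_lit 5,nat_lit 1,nat_lit 6,nat_lit 2,nat_lit 2,nat_lit 8],
  [nat_lit 3,nat_lit 5,nat_lit 2,nat_lit 5,nat_lit 1,nat_lit 6,nat_lit 2,nat_lit 2,nat_lit 8,nat_lit 7],
  [nat_lit 3,nat_lit 6,nat_lit 2,nat_lit 6,nat_lit 1,nat_lit 5,nat_lit 2,nat_lit 6,nat_lit 2,nat_lit 8],
  [nat_lit 1,nat_lit 1,nat_lit 6,nat_lit 1,nat_lit 4,nat_lit 5,nat_lit 2,nat_lit 5,nat_lit 1,nat_lit 8],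
  [nat_lit 6,nat_lit 1,nat_lit 5,nat_lit 1,nat_lit 6,nat_lit 1,nat_lit 5,nat_lit 2,nat_lit 7,nat_lit 8],
  [nat_lit 6,nat_lit 1,nat_lit 5,nat_lit 1,nat_lit 6,nat_lit 1,nat_lit 5,nat_lit 2,nat_lit 8],
  [nat_lit 6,nat_lit 1,nat_lit 5,nat_lit 1,nat_lit 6,nat_lit 1,nat_lit 5,nat_lit 2,nat_lit 8,nat_lit 7],
  [nat_lit 5,nat_lit 1,nat_lit 1,nat_lit 6,nat_lit 2,nat_lit 4,nat_lit 5,nat_lit 1,nat_lit 5,nat_lit 1,nat_lit 8],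
  [nat_lit 1,nat_lit 1,nat_lit 5,nat_lit 2,nat_lit 3,nat_lit 6,nat_lit 1,nat_lit 1,nat_lit 6,nat_lit 7,nat_lit 8],
  [nat_lit 1,nat_lit 1,nat_lit 5,nat_lit 2,nat_lit 3,nat_lit 6,nat_lit 1,nat_lit 1,nat_lit 6,nat_lit 8],
  [nat_lit 1,nat_lit 1,nat_lit 5,nat_lit 2,nat_lit 3,nat_lit 6,nat_lit 1,nat_lit 1,nat_lit 6,nat_lit 8,nat_lit 7],
  [nat_lit 3,nat_lit 5,nat_lit 2,nat_lit 6,nat_lit 1,nat_lit 6,nat_lit 2,nat_lit 3,nat_lit 6,nat_lit 1,nat_lit 8],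
  [nat_lit 5,nat_lit 2,nat_lit 6,nat_lit 2,nat_lit 5,nat_lit 2,nat_lit 6,nat_lit 7,nat_lit 7,nat_lit 8],
  [nat_lit 5,nat_lit 2,nat_lit 6,nat_lit 2,nat_lit 5,nat_lit 2,nat_lit 6,nat_lit 7,nat_lit 8],
  [nat_lit 5,nat_lit 2,nat_lit 6,nat_lit 2,nat_lit 5,nat_lit 2,nat_lit 6,nat_lit 8],
  [nat_lit 5,nat_lit 2,nat_lit 6,nat_lit 2,nat_lit 5,nat_lit 2,nat_lit 6,nat_lit 8,nat_lit 7],
  [nat_lit 1,nat_lit 1,nat_lit 1,nat_lit 6,nat_lit 1,nat_lit 6,nat_lit 2,nat_lit 6,nat_lit 7,nat_lit 7,nat_lit 8],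
  [nat_lit 1,nat_lit 1,nat_lit 1,nat_lit 6,nat_lit 1,nat_lit 6,nat_lit 2,nat_lit 6,nat_lit 7,nat_lit 8],
  [nat_lit 1,nat_lit 1,nat_lit 1,nat_lit 6,nat_lit 1,nat_lit 6,nat_lit 2,nat_lit 6,nat_lit 8],
  [nat_lit 1,nat_lit 1,nat_lit 1,nat_lit 6,nat_lit 1,nat_lit 6,nat_lit 2,nat_lit 6,nat_lit 8,nat_lit 7],
  [nat_lit 1,nat_lit 1,nat_lit 5,nat_lit 1,nat_lit 3,nat_lit 5,nat_lit 2,nat_lit 6,nat_lit 1,nat_lit 8],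
  [nat_lit 5,nat_lit 1,nat_lit 6,nat_lit 1,nat_lit 5,nat_lit 1,nat_lit 5,nat_lit 2,nat_lit 7,nat_lit 8],
  [nat_lit 5,nat_lit 1,nat_lit 6,nat_lit 1,nat_lit 5,nat_lit 1,nat_lit 5,nat_lit 2,nat_lit 8],
  [nat_lit 5,nat_lit 1,nat_lit 6,nat_lit 1,nat_lit 5,nat_lit 1,nat_lit 5,nat_lit 2,nat_lit 8,nat_lit 7]]

def E1 : List (ℕ × ℕ × List ℕ × List ℕ) := [(nat_lit 4959599, nat_lit 0, [nat_lit 1,nat_lit 4,nat_lit 5,nat_lit 2,nat_lit 3,nat_lit 6], [nat_lit 3,nat_lit 2,nat_lit 5,nat_lit 2,nat_lit 2,nat_lit 5,nat_lit 2,nat_lit 6,nat_lit 2,nat_lit 2,nat_lit 7]),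
  (nat_lit 4975981, nat_lit 0, [nat_lit 1,nat_lit 3,nat_lit 1,nat_lit 5,nat_lit 1], [nat_lit 2,nat_lit 3,nat_lit 6,nat_lit 1,nat_lit 6,nat_lit 1,nat_lit 1,nat_lit 5,nat_lit 2,nat_lit 4]),
  (nat_lit 6596454, nat_lit 0, [nat_lit 1,nat_lit 3,nat_lit 6,nat_lit 1,nat_lit 5], [nat_lit 1,nat_lit 6,nat_lit 2,nat_lit 2,nat_lit 6,nat_lit 2,nat_lit 5,nat_lit 2,nat_lit 4,nat_lit 5]),
  (nat_lit 6612836, nat_lit 0, [nat_lit 2,nat_lit 6,nat_lit 2,nat_lit 3], [nat_lit 1,nat_lit 4,nat_lit 5,nat_lit 1,nat_lit 6,nat_lit 1,nat_lit 3,nat_lit 5,nat_lit 1]),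
  (nat_lit 6850432, nat_lit 0, [nat_lit 4,nat_lit 1,nat_lit 5], [nat_lit 2,nat_lit 3,nat_lit 5,nat_lit 1,nat_lit 6,nat_lit 1,nat_lit 5,nat_lit 1,nat_lit 4]),
  (nat_lit 6866818, nat_lit 0, [nat_lit 5,nat_lit 2,nat_lit 6,nat_lit 1,nat_lit 6], [nat_lit 1,nat_lit 5,nat_lit 2,nat_lit 5,nat_lit 2,nat_lit 3,nat_lit 6,nat_lit 1,nat_lit 5,nat_lit 1]),
  (nat_lit 6914656, nat_lit 0, [nat_lit 2,nat_lit 6,nat_lit 1], [nat_lit 1,nat_lit 1,nat_lit 1,nat_lit 6,nat_lit 2,nat_lit 5,nat_lit 2,nat_lit 6]),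
  (nat_lit 6931042, nat_lit 0, [nat_lit 1,nat_lit 3,nat_lit 6,nat_lit 1,nat_lit 5,nat_lit 1,nat_lit 4], [nat_lit 1,nat_lit 1,nat_lit 1,nat_lit 6,nat_lit 2,nat_lit 5,nat_lit 2,nat_lit 6,nat_lit 7,nat_lit 7]),
  (nat_lit 14059956, nat_lit 0, [nat_lit 4,nat_lit 5,nat_lit 1], [nat_lit 1,nat_lit 6,nat_lit 1,nat_lit 4,nat_lit 5,nat_lit 1,nat_lit 3,nat_lit 5]),
  (nat_lit 14076342, nat_lit 0, [nat_lit 1,nat_lit 5,nat_lit 1,nat_lit 6,nat_lit 1,nat_lit 4], [nat_lit 1,nat_lit 6,nat_lit 1,nat_lit 4,nat_lit 5,nat_lit 1,nat_lit 3,nat_lit 5,nat_lit 7,nat_lit 7]),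
  (nat_lit 17902290, nat_lit 0, [nat_lit 3,nat_lit 2,nat_lit 5,nat_lit 2,nat_lit 6,nat_lit 2], [nat_lit 2,nat_lit 6,nat_lit 1,nat_lit 6,nat_lit 2,nat_lit 6,nat_lit 1,nat_lit 6,nat_lit 7,nat_lit 7]),
  (nat_lit 17918672, nat_lit 0, [nat_lit 2,nat_lit 3,nat_lit 6], [nat_lit 2,nat_lit 6,nat_lit 1,nat_lit 6,nat_lit 2,nat_lit 6,nat_lit 1,nat_lit 6]),
  (nat_lit 17957294, nat_lit 0, [nat_lit 2,nat_lit 5,nat_lit 1,nat_lit 4,nat_lit 5,nat_lit 1,nat_lit 6], [nat_lit 1,nat_lit 1,nat_lit 1,nat_lit 5,nat_lit 2,nat_lit 6,nat_lit 2,nat_lit 5,nat_lit 7,nat_lit 7]),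
  (nat_lit 17973676, nat_lit 0, [], [nat_lit 1,nat_lit 1,nat_lit 1,nat_lit 5,nat_lit 2,nat_lit 6,nat_lit 2,nat_lit 5]),
  (nat_lit 18033161, nat_lit 0, [nat_lit 2,nat_lit 2,nat_lit 6,nat_lit 1,nat_lit 5], [nat_lit 3,nat_lit 1,nat_lit 6,nat_lit 1,nat_lit 3,nat_lit 5,nat_lit 1,nat_lit 5,nat_lit 2,nat_lit 7]),
  (nat_lit 18049547, nat_lit 0, [nat_lit 5,nat_lit 1,nat_lit 6,nat_lit 2,nat_lit 4], [nat_lit 1,nat_lit 1,nat_lit 5,nat_lit 2,nat_lit 4,nat_lit 6,nat_lit 2,nat_lit 6,nat_lit 1,nat_lit 3]),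
  (nat_lit 19868143, nat_lit 0, [nat_lit 6,nat_lit 2,nat_lit 3], [nat_lit 4,nat_lit 5,nat_lit 2,nat_lit 3,nat_lit 6,nat_lit 2,nat_lit 5,nat_lit 2,nat_lit 5]),
  (nat_lit 19884525, nat_lit 0, [nat_lit 2,nat_lit 5,nat_lit 1,nat_lit 4,nat_lit 6,nat_lit 1], [nat_lit 3,nat_lit 2,nat_lit 6,nat_lit 1,nat_lit 1,nat_lit 6,nat_lit 1,nat_lit 5,nat_lit 2,nat_lit 7]),
  (nat_lit 24742816, nat_lit 0, [nat_lit 4,nat_lit 1,nat_lit 5,nat_lit 1], [nat_lit 1,nat_lit 1,nat_lit 5,nat_lit 2,nat_lit 6,nat_lit 1,nat_lit 1,nat_lit 6,nat_lit 2,nat_lit 5]),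
  (nat_lit 24759202, nat_lit 0, [nat_lit 3,nat_lit 2,nat_lit 5,nat_lit 2,nat_lit 3,nat_lit 6], [nat_lit 2,nat_lit 2,nat_lit 6,nat_lit 2,nat_lit 4,nat_lit 5,nat_lit 1,nat_lit 6,nat_lit 1,nat_lit 6]),
  (nat_lit 29429075, nat_lit 0, [nat_lit 4,nat_lit 6,nat_lit 1,nat_lit 5], [nat_lit 5,nat_lit 1,nat_lit 6,nat_lit 1,nat_lit 6,nat_lit 2,nat_lit 6,nat_lit 2,nat_lit 5]),
  (nat_lit 29445457, nat_lit 0, [nat_lit 2,nat_lit 5,nat_lit 1], [nat_lit 5,nat_lit 1,nat_lit 6,nat_lit 1,nat_lit 6,nat_lit 2,nat_lit 6,nat_lit 2,nat_lit 5,nat_lit 7,nat_lit 7]),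
  (nat_lit 26412569, nat_lit 0, [nat_lit 5], [nat_lit 4,nat_lit 6,nat_lit 2,nat_lit 3,nat_lit 5,nat_lit 2,nat_lit 6,nat_lit 2,nat_lit 6]),
  (nat_lit 26428955, nat_lit 0, [nat_lit 2,nat_lit 5,nat_lit 1,nat_lit 4,nat_lit 5,nat_lit 1], [nat_lit 1,nat_lit 5,nat_lit 2,nat_lit 6,nat_lit 2,nat_lit 2,nat_lit 6,nat_lit 1,nat_lit 4,nat_lit 7]),
  (nat_lit 6663420, nat_lit 0, [nat_lit 4,nat_lit 2,nat_lit 6,nat_lit 1,nat_lit 3], [nat_lit 2,nat_lit 3,nat_lit 5,nat_lit 1,nat_lit 5,nat_lit 1,nat_lit 1,nat_lit 6,nat_lit 2,nat_lit 4]),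
  (nat_lit 6679806, nat_lit 0, [nat_lit 1,nat_lit 1,nat_lit 6,nat_lit 2,nat_lit 5], [nat_lit 1,nat_lit 1,nat_lit 6,nat_lit 1,nat_lit 5,nat_lit 1,nat_lit 1,nat_lit 5,nat_lit 1,nat_lit 4,nat_lit 7]),
  (nat_lit 13412613, nat_lit 0, [nat_lit 5,nat_lit 2,nat_lit 6,nat_lit 1,nat_lit 1], [nat_lit 1,nat_lit 1,nat_lit 5,nat_lit 2,nat_lit 5,nat_lit 1,nat_lit 6,nat_lit 2,nat_lit 6,nat_lit 7]),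
  (nat_lit 13428999, nat_lit 0, [nat_lit 4,nat_lit 1,nat_lit 6,nat_lit 1], [nat_lit 1,nat_lit 1,nat_lit 6,nat_lit 2,nat_lit 6,nat_lit 1,nat_lit 5,nat_lit 2,nat_lit 5,nat_lit 7]),
  (nat_lit 11257430, nat_lit 0, [nat_lit 2,nat_lit 5,nat_lit 1,nat_lit 6], [nat_lit 1,nat_lit 5,nat_lit 1,nat_lit 1,nat_lit 6,nat_lit 1,nat_lit 6,nat_lit 1,nat_lit 7,nat_lit 7]),
  (nat_lit 11241044, nat_lit 0, [nat_lit 4,nat_lit 6,nat_lit 1], [nat_lit 1,nat_lit 5,nat_lit 1,nat_lit 1,nat_lit 6,nat_lit 1,nat_lit 6,nat_lit 1]),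
  (nat_lit 4049286, nat_lit 0, [nat_lit 1,nat_lit 5,nat_lit 2,nat_lit 6,nat_lit 2,nat_lit 2,nat_lit 6], [nat_lit 1,nat_lit 5,nat_lit 2,nat_lit 2,nat_lit 5,nat_lit 2,nat_lit 6,nat_lit 2,nat_lit 4,nat_lit 6]),
  (nat_lit 4032900, nat_lit 0, [nat_lit 3,nat_lit 2], [nat_lit 1,nat_lit 4,nat_lit 6,nat_lit 1,nat_lit 5,nat_lit 1,nat_lit 3,nat_lit 6,nat_lit 1]),
  (nat_lit 14528099, nat_lit 0, [nat_lit 4,nat_lit 1,nat_lit 6], [nat_lit 2,nat_lit 4,nat_lit 6,nat_lit 2,nat_lit 6,nat_lit 1,nat_lit 5,nat_lit 2,nat_lit 4,nat_lit 5,nat_lit 7]),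
  (nat_lit 14544481, nat_lit 0, [nat_lit 5,nat_lit 2,nat_lit 6,nat_lit 1], [nat_lit 1,nat_lit 4,nat_lit 5,nat_lit 2,nat_lit 6,nat_lit 2,nat_lit 6,nat_lit 1,nat_lit 6,nat_lit 1,nat_lit 5]),
  (nat_lit 1738528, nat_lit 0, [nat_lit 2,nat_lit 3], [nat_lit 2,nat_lit 5,nat_lit 1,nat_lit 5,nat_lit 2,nat_lit 5,nat_lit 1,nat_lit 5]),
  (nat_lit 1754914, nat_lit 0, [nat_lit 3,nat_lit 2,nat_lit 5,nat_lit 2,nat_lit 6,nat_lit 2,nat_lit 5], [nat_lit 2,nat_lit 5,nat_lit 1,nat_lit 5,nat_lit 2,nat_lit 5,nat_lit 1,nat_lit 5,nat_lit 7,nat_lit 7]),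
  (nat_lit 10200275, nat_lit 0, [nat_lit 1,nat_lit 3,nat_lit 1,nat_lit 6,nat_lit 1], [nat_lit 6,nat_lit 2,nat_lit 2,nat_lit 6,nat_lit 2,nat_lit 3,nat_lit 5,nat_lit 2,nat_lit 2,nat_lit 7]),
  (nat_lit 10216657, nat_lit 0, [nat_lit 1,nat_lit 4,nat_lit 6,nat_lit 2,nat_lit 3,nat_lit 5], [nat_lit 1,nat_lit 1,nat_lit 4,nat_lit 6,nat_lit 1,nat_lit 5,nat_lit 1,nat_lit 1,nat_lit 5,nat_lit 7]),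
  (nat_lit 22170959, nat_lit 0, [nat_lit 4,nat_lit 6,nat_lit 1,nat_lit 5,nat_lit 2,nat_lit 3], [nat_lit 1,nat_lit 1,nat_lit 6,nat_lit 1,nat_lit 6,nat_lit 2,nat_lit 5,nat_lit 1,nat_lit 3,nat_lit 5,nat_lit 7]),
  (nat_lit 22154573, nat_lit 0, [nat_lit 2,nat_lit 3,nat_lit 5], [nat_lit 5,nat_lit 2,nat_lit 6,nat_lit 1,nat_lit 6,nat_lit 2,nat_lit 6,nat_lit 1,nat_lit 5]),
  (nat_lit 11977529, nat_lit 0, [nat_lit 2,nat_lit 2,nat_lit 5,nat_lit 1,nat_lit 6], [nat_lit 1,nat_lit 1,nat_lit 4,nat_lit 5,nat_lit 1,nat_lit 6,nat_lit 1,nat_lit 1,nat_lit 6,nat_lit 7]),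
  (nat_lit 11961147, nat_lit 0, [nat_lit 5,nat_lit 1,nat_lit 3,nat_lit 5,nat_lit 2,nat_lit 5], [nat_lit 1,nat_lit 5,nat_lit 1,nat_lit 6,nat_lit 1,nat_lit 4,nat_lit 6,nat_lit 2,nat_lit 5,nat_lit 1]),
  (nat_lit 22808128, nat_lit 0, [nat_lit 6], [nat_lit 1,nat_lit 5,nat_lit 1,nat_lit 4,nat_lit 6,nat_lit 1,nat_lit 3,nat_lit 6]),
  (nat_lit 22824514, nat_lit 0, [nat_lit 2,nat_lit 5,nat_lit 1,nat_lit 6,nat_lit 2,nat_lit 3], [nat_lit 1,nat_lit 5,nat_lit 1,nat_lit 4,nat_lit 6,nat_lit 1,nat_lit 3,nat_lit 6,nat_lit 7,nat_lit 7]),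
  (nat_lit 10578318, nat_lit 0, [nat_lit 5,nat_lit 2,nat_lit 6,nat_lit 1,nat_lit 5], [nat_lit 1,nat_lit 6,nat_lit 2,nat_lit 6,nat_lit 2,nat_lit 3,nat_lit 5,nat_lit 1,nat_lit 6,nat_lit 1]),
  (nat_lit 10561932, nat_lit 0, [nat_lit 4,nat_lit 1], [nat_lit 2,nat_lit 3,nat_lit 6,nat_lit 1,nat_lit 5,nat_lit 1,nat_lit 6,nat_lit 1,nat_lit 4]),
  (nat_lit 25398613, nat_lit 0, [nat_lit 2,nat_lit 5,nat_lit 2,nat_lit 3], [nat_lit 1,nat_lit 6,nat_lit 2,nat_lit 6,nat_lit 1,nat_lit 5,nat_lit 2,nat_lit 5,nat_lit 1,nat_lit 3,nat_lit 7]),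
  (nat_lit 25414999, nat_lit 0, [nat_lit 1,nat_lit 3,nat_lit 5,nat_lit 1,nat_lit 6], [nat_lit 1,nat_lit 5,nat_lit 1,nat_lit 1,nat_lit 6,nat_lit 2,nat_lit 6,nat_lit 1,nat_lit 1,nat_lit 5,nat_lit 1]),
  (nat_lit 19237318, nat_lit 0, [nat_lit 2,nat_lit 5,nat_lit 1,nat_lit 5], [nat_lit 1,nat_lit 6,nat_lit 1,nat_lit 1,nat_lit 5,nat_lit 1,nat_lit 5,nat_lit 1,nat_lit 7,nat_lit 7]),
  (nat_lit 19253700, nat_lit 0, [nat_lit 5,nat_lit 2,nat_lit 3], [nat_lit 1,nat_lit 6,nat_lit 1,nat_lit 1,nat_lit 5,nat_lit 1,nat_lit 5,nat_lit 1]),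
  (nat_lit 14280357, nat_lit 0, [nat_lit 1,nat_lit 1,nat_lit 5,nat_lit 2,nat_lit 6], [nat_lit 1,nat_lit 1,nat_lit 6,nat_lit 2,nat_lit 4,nat_lit 5,nat_lit 2,nat_lit 5,nat_lit 1,nat_lit 3]),
  (nat_lit 14263975, nat_lit 0, [nat_lit 5,nat_lit 1,nat_lit 5,nat_lit 2,nat_lit 5], [nat_lit 1,nat_lit 5,nat_lit 2,nat_lit 4,nat_lit 5,nat_lit 2,nat_lit 6,nat_lit 2,nat_lit 4,nat_lit 7]),
  (nat_lit 2361754, nat_lit 0, [nat_lit 5,nat_lit 2,nat_lit 6,nat_lit 1,nat_lit 5,nat_lit 1], [nat_lit 2,nat_lit 2,nat_lit 5,nat_lit 2,nat_lit 4,nat_lit 6,nat_lit 1,nat_lit 5,nat_lit 1,nat_lit 5]),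
  (nat_lit 2378136, nat_lit 0, [nat_lit 1,nat_lit 4], [nat_lit 1,nat_lit 1,nat_lit 6,nat_lit 2,nat_lit 5,nat_lit 1,nat_lit 1,nat_lit 5,nat_lit 2,nat_lit 6])]

def kd1 : KD := ⟨[nat_lit 1,nat_lit 1,nat_lit 1,nat_lit 5,nat_lit 2,nat_lit 6,nat_lit 2,nat_lit 5], [nat_lit 2,nat_lit 5,nat_lit 1,nat_lit 4,nat_lit 5,nat_lit 1,nat_lit 6], LC0, LD1, [[nat_lit 1,nat_lit 1,nat_lit 1,nat_lit 5,nat_lit 2,nat_lit 6,nat_lit 2,nat_lit 5]], E1,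
  [([], [])]⟩

theorem ext1 : extChk iA th1 6 1 3 2 = true := by decide +kernel

theorem c1_1 : kd1.chk1 (iA th1) = true := by decide +kernel

theorem c2_1 : kd1.chk2 (iA th1) = true := by decide +kernel

theorem c3_1 : kd1.chk3 (iA th1) = true := by decide +kernel

theorem kl_1 : kd1.kill (iA th1) kd1.y [7, 7] = true := by decide +kernel

theorem no1 {G : Type*} [Group G] [Finite G] [IsSimpleGroup G] {K : Subgroup G} {t u X W Y h : G}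
    (hc : Cand K t u X W Y h 0 6 1 3 2) : False := by
  have S := hc.sit famA ext1 (by simp)
  have E := S.enum c1_1
  obtain ⟨g, e1, e2⟩ := S.fuse E (S.cls E c2_1) c3_1 hc.hK
  exact S.kill E e1 e2 (Or.inr ⟨rfl, rfl⟩) kl_1

end Cfsg.ON
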