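import Cfsg.Agent.ON.K

/-! Data and checks for one of the candidates. -/

set_option autoImplicit false
set_option maxRecDepth 100000
set_option Elab.async false

namespace Cfsg.ON

open Cfsg.H6

def LD10 : List (List ℕ) := [[nat_lit 6,nat_lit 2,nat_lit 3,nat_lit 6,nat_lit 2,nat_lit 3,nat_lit 6],
  [nat_lit 2,nat_lit 2,nat_lit 2,nat_lit 5,nat_lit 1,nat_lit 1,nat_lit 5,nat_lit 1],
  [nat_lit 1,nat_lit 5,nat_lit 1,nat_lit 5,nat_lit 1,nat_lit 5,nat_lit 2,nat_lit 4,nat_lit 6],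
  [nat_lit 3,nat_lit 1,nat_lit 6,nat_lit 2,nat_lit 6,nat_lit 2,nat_lit 4,nat_lit 6,nat_lit 2],
  [],
  [nat_lit 7],
  [nat_lit 7,nat_lit 7],
  [nat_lit 7,nat_lit 7,nat_lit 7],
  [nat_lit 5,nat_lit 2,nat_lit 5,nat_lit 1,nat_lit 6,nat_lit 2,nat_lit 3,nat_lit 6],
  [nat_lit 5,nat_lit 2,nat_lit 5,nat_lit 1,nat_lit 6,nat_lit 2,nat_lit 3,nat_lit 6,nat_lit 7],
  [nat_lit 5,nat_lit 2,nat_lit 5,nat_lit 1,nat_lit 6,nat_lit 2,nat_lit 3,nat_lit 6,nat_lit 7,nat_lit 7],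
  [nat_lit 5,nat_lit 2,nat_lit 5,nat_lit 1,nat_lit 6,nat_lit 2,nat_lit 3,nat_lit 6,nat_lit 7,nat_lit 7,nat_lit 7],
  [nat_lit 6,nat_lit 2,nat_lit 3,nat_lit 5,nat_lit 2,nat_lit 5,nat_lit 1],
  [nat_lit 6,nat_lit 2,nat_lit 3,nat_lit 5,nat_lit 2,nat_lit 5,nat_lit 1,nat_lit 7],
  [nat_lit 6,nat_lit 2,nat_lit 3,nat_lit 5,nat_lit 2,nat_lit 5,nat_lit 1,nat_lit 7,nat_lit 7],
  [nat_lit 3,nat_lit 5,nat_lit 1,nat_lit 5,nat_lit 2,nat_lit 5,nat_lit 2,nat_lit 3,nat_lit 5,nat_lit 2],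
  [nat_lit 3,nat_lit 6,nat_lit 1,nat_lit 1,nat_lit 6,nat_lit 1,nat_lit 6],
  [nat_lit 3,nat_lit 6,nat_lit 1,nat_lit 1,nat_lit 6,nat_lit 1,nat_lit 6,nat_lit 7],
  [nat_lit 3,nat_lit 6,nat_lit 1,nat_lit 1,nat_lit 6,nat_lit 1,nat_lit 6,nat_lit 7,nat_lit 7],
  [nat_lit 2,nat_lit 3,nat_lit 5,nat_lit 2,nat_lit 3,nat_lit 5,nat_lit 2,nat_lit 3],
  [nat_lit 2,nat_lit 6,nat_lit 1,nat_lit 5,nat_lit 2,nat_lit 3,nat_lit 6],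
  [nat_lit 2,nat_lit 6,nat_lit 1,nat_lit 5,nat_lit 2,nat_lit 3,nat_lit 6,nat_lit 7],
  [nat_lit 2,nat_lit 6,nat_lit 1,nat_lit 5,nat_lit 2,nat_lit 3,nat_lit 6,nat_lit 7,nat_lit 7],
  [nat_lit 2,nat_lit 6,nat_lit 1,nat_lit 5,nat_lit 2,nat_lit 3,nat_lit 6,nat_lit 7,nat_lit 7,nat_lit 7],
  [nat_lit 3,nat_lit 2,nat_lit 5,nat_lit 2,nat_lit 2,nat_lit 5,nat_lit 2,nat_lit 6,nat_lit 2,nat_lit 2],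
  [nat_lit 2,nat_lit 3,nat_lit 6,nat_lit 1,nat_lit 6,nat_lit 1,nat_lit 1,nat_lit 5,nat_lit 2,nat_lit 4],
  [nat_lit 1,nat_lit 1,nat_lit 5,nat_lit 1,nat_lit 6,nat_lit 1,nat_lit 1,nat_lit 6,nat_lit 1,nat_lit 4],
  [nat_lit 1,nat_lit 1,nat_lit 5,nat_lit 1,nat_lit 6,nat_lit 1,nat_lit 1,nat_lit 6,nat_lit 1,nat_lit 4,nat_lit 7],
  [nat_lit 2,nat_lit 3,nat_lit 5,nat_lit 2,nat_lit 6,nat_lit 1,nat_lit 4,nat_lit 5,nat_lit 1],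
  [nat_lit 1,nat_lit 6,nat_lit 2,nat_lit 5,nat_lit 1,nat_lit 5,nat_lit 2,nat_lit 2,nat_lit 5],
  [nat_lit 1,nat_lit 6,nat_lit 2,nat_lit 5,nat_lit 1,nat_lit 5,nat_lit 2,nat_lit 2,nat_lit 5,nat_lit 7],
  [nat_lit 5,nat_lit 1,nat_lit 1,nat_lit 5,nat_lit 2,nat_lit 5,nat_lit 1,nat_lit 6,nat_lit 2],
  [nat_lit 1,nat_lit 5,nat_lit 2,nat_lit 5,nat_lit 1,nat_lit 3,nat_lit 5,nat_lit 1,nat_lit 6,nat_lit 2,nat_lit 6],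
  [nat_lit 1,nat_lit 4,nat_lit 5,nat_lit 1,nat_lit 6,nat_lit 1,nat_lit 3,nat_lit 5,nat_lit 1],
  [nat_lit 1,nat_lit 4,nat_lit 5,nat_lit 1,nat_lit 6,nat_lit 1,nat_lit 3,nat_lit 5,nat_lit 1,nat_lit 7],
  [nat_lit 1,nat_lit 6,nat_lit 2,nat_lit 2,nat_lit 6,nat_lit 2,nat_lit 5,nat_lit 2,nat_lit 4,nat_lit 5],
  [nat_lit 2,nat_lit 3,nat_lit 5,nat_lit 1,nat_lit 6,nat_lit 1,nat_lit 5,nat_lit 1,nat_lit 4],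
  [nat_lit 2,nat_lit 3,nat_lit 5,nat_lit 1,nat_lit 6,nat_lit 1,nat_lit 5,nat_lit 1,nat_lit 4,nat_lit 7],
  [nat_lit 1,nat_lit 1,nat_lit 6,nat_lit 1,nat_lit 6,nat_lit 1,nat_lit 3,nat_lit 5,nat_lit 1,nat_lit 5,nat_lit 1],
  [nat_lit 5,nat_lit 2,nat_lit 4,nat_lit 6,nat_lit 2,nat_lit 6,nat_lit 1,nat_lit 5,nat_lit 2,nat_lit 4],
  [nat_lit 1,nat_lit 1,nat_lit 1,nat_lit 5,nat_lit 1,nat_lit 6,nat_lit 1,nat_lit 6,nat_lit 1,nat_lit 5],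
  [nat_lit 1,nat_lit 1,nat_lit 1,nat_lit 5,nat_lit 1,nat_lit 6,nat_lit 1,nat_lit 6,nat_lit 1,nat_lit 5,nat_lit 7],
  [nat_lit 1,nat_lit 1,nat_lit 1,nat_lit 6,nat_lit 2,nat_lit 5,nat_lit 2,nat_lit 6],
  [nat_lit 1,nat_lit 1,nat_lit 1,nat_lit 6,nat_lit 2,nat_lit 5,nat_lit 2,nat_lit 6,nat_lit 7],
  [nat_lit 2,nat_lit 5,nat_lit 2,nat_lit 6,nat_lit 2,nat_lit 5,nat_lit 1,nat_lit 4,nat_lit 5],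
  [nat_lit 2,nat_lit 5,nat_lit 2,nat_lit 6,nat_lit 2,nat_lit 5,nat_lit 1,nat_lit 4,nat_lit 5,nat_lit 7],
  [nat_lit 2,nat_lit 5,nat_lit 2,nat_lit 6,nat_lit 2,nat_lit 5,nat_lit 1,nat_lit 4,nat_lit 5,nat_lit 7,nat_lit 7],
  [nat_lit 4,nat_lit 1,nat_lit 6,nat_lit 1,nat_lit 5,nat_lit 2,nat_lit 2,nat_lit 6,nat_lit 1,nat_lit 6,nat_lit 2],
  [nat_lit 2,nat_lit 5,nat_lit 2,nat_lit 6,nat_lit 1,nat_lit 6,nat_lit 1,nat_lit 5,nat_lit 2,nat_lit 5],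
  [nat_lit 3,nat_lit 6,nat_lit 2,nat_lit 6,nat_lit 1,nat_lit 5,nat_lit 1,nat_lit 6,nat_lit 1],
  [nat_lit 3,nat_lit 6,nat_lit 2,nat_lit 6,nat_lit 1,nat_lit 5,nat_lit 1,nat_lit 6,nat_lit 1,nat_lit 7],
  [nat_lit 2,nat_lit 2,nat_lit 5,nat_lit 2,nat_lit 2,nat_lit 5,nat_lit 1,nat_lit 5,nat_lit 1,nat_lit 4,nat_lit 5],
  [nat_lit 4,nat_lit 1,nat_lit 5,nat_lit 2,nat_lit 6,nat_lit 1,nat_lit 5,nat_lit 7,nat_lit 7,nat_lit 7],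
  [nat_lit 4,nat_lit 1,nat_lit 5,nat_lit 2,nat_lit 6,nat_lit 1,nat_lit 5],
  [nat_lit 4,nat_lit 1,nat_lit 5,nat_lit 2,nat_lit 6,nat_lit 1,nat_lit 5,nat_lit 7],
  [nat_lit 4,nat_lit 1,nat_lit 5,nat_lit 2,nat_lit 6,nat_lit 1,nat_lit 5,nat_lit 7,nat_lit 7],
  [nat_lit 2,nat_lit 5,nat_lit 1,nat_lit 6,nat_lit 1,nat_lit 6,nat_lit 1,nat_lit 5,nat_lit 1,nat_lit 4,nat_lit 6],
  [nat_lit 4,nat_lit 1,nat_lit 5,nat_lit 1,nat_lit 6,nat_lit 2,nat_lit 2,nat_lit 5,nat_lit 1,nat_lit 5,nat_lit 2],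
  [nat_lit 2,nat_lit 6,nat_lit 2,nat_lit 5,nat_lit 2,nat_lit 6,nat_lit 1,nat_lit 4,nat_lit 6],
  [nat_lit 2,nat_lit 6,nat_lit 2,nat_lit 5,nat_lit 2,nat_lit 6,nat_lit 1,nat_lit 4,nat_lit 6,nat_lit 7],
  [nat_lit 1,nat_lit 1,nat_lit 1,nat_lit 5,nat_lit 1,nat_lit 6,nat_lit 2,nat_lit 3,nat_lit 5,nat_lit 1,nat_lit 7],
  [nat_lit 1,nat_lit 1,nat_lit 1,nat_lit 5,nat_lit 1,nat_lit 6,nat_lit 2,nat_lit 3,nat_lit 5,nat_lit 1,nat_lit 7,nat_lit 7],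
  [nat_lit 1,nat_lit 5,nat_lit 1,nat_lit 4,nat_lit 5,nat_lit 2,nat_lit 5,nat_lit 1,nat_lit 4,nat_lit 6],
  [nat_lit 1,nat_lit 1,nat_lit 1,nat_lit 5,nat_lit 1,nat_lit 6,nat_lit 2,nat_lit 3,nat_lit 5,nat_lit 1],
  [nat_lit 1,nat_lit 6,nat_lit 1,nat_lit 4,nat_lit 5,nat_lit 1,nat_lit 3,nat_lit 5],
  [nat_lit 1,nat_lit 6,nat_lit 1,nat_lit 4,nat_lit 5,nat_lit 1,nat_lit 3,nat_lit 5,nat_lit 7],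
  [nat_lit 1,nat_lit 6,nat_lit 1,nat_lit 4,nat_lit 5,nat_lit 1,nat_lit 3,nat_lit 5,nat_lit 7,nat_lit 7],
  [nat_lit 1,nat_lit 3,nat_lit 5,nat_lit 2,nat_lit 3,nat_lit 6,nat_lit 2,nat_lit 6,nat_lit 2,nat_lit 2],
  [nat_lit 2,nat_lit 6,nat_lit 1,nat_lit 6,nat_lit 2,nat_lit 6,nat_lit 1,nat_lit 6,nat_lit 7],
  [nat_lit 2,nat_lit 6,nat_lit 1,nat_lit 6,nat_lit 2,nat_lit 6,nat_lit 1,nat_lit 6,nat_lit 7,nat_lit 7],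
  [nat_lit 4,nat_lit 2,nat_lit 5,nat_lit 1,nat_lit 6,nat_lit 2,nat_lit 6,nat_lit 2,nat_lit 2,nat_lit 5],
  [nat_lit 2,nat_lit 6,nat_lit 1,nat_lit 6,nat_lit 2,nat_lit 6,nat_lit 1,nat_lit 6],
  [nat_lit 1,nat_lit 1,nat_lit 1,nat_lit 5,nat_lit 2,nat_lit 6,nat_lit 2,nat_lit 5,nat_lit 7,nat_lit 7],
  [nat_lit 1,nat_lit 1,nat_lit 1,nat_lit 5,nat_lit 2,nat_lit 6,nat_lit 2,nat_lit 5,nat_lit 7,nat_lit 7,nat_lit 7],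
  [nat_lit 1,nat_lit 1,nat_lit 1,nat_lit 5,nat_lit 2,nat_lit 6,nat_lit 2,nat_lit 5],
  [nat_lit 1,nat_lit 1,nat_lit 1,nat_lit 5,nat_lit 2,nat_lit 6,nat_lit 2,nat_lit 5,nat_lit 7],
  [nat_lit 3,nat_lit 1,nat_lit 6,nat_lit 1,nat_lit 3,nat_lit 5,nat_lit 1,nat_lit 5,nat_lit 2],
  [nat_lit 2,nat_lit 6,nat_lit 1,nat_lit 4,nat_lit 5,nat_lit 1,nat_lit 5,nat_lit 2,nat_lit 3,nat_lit 5],
  [nat_lit 1,nat_lit 6,nat_lit 2,nat_lit 4,nat_lit 6,nat_lit 2,nat_lit 5,nat_lit 2,nat_lit 4],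
  [nat_lit 1,nat_lit 1,nat_lit 5,nat_lit 2,nat_lit 4,nat_lit 6,nat_lit 2,nat_lit 6,nat_lit 1,nat_lit 3],
  [nat_lit 2,nat_lit 6,nat_lit 1,nat_lit 4,nat_lit 6,nat_lit 1,nat_lit 5,nat_lit 7,nat_lit 7],
  [nat_lit 4,nat_lit 1,nat_lit 5,nat_lit 2,nat_lit 3,nat_lit 5,nat_lit 2,nat_lit 3,nat_lit 6],
  [nat_lit 2,nat_lit 6,nat_lit 1,nat_lit 4,nat_lit 6,nat_lit 1,nat_lit 5],
  [nat_lit 2,nat_lit 6,nat_lit 1,nat_lit 4,nat_lit 6,nat_lit 1,nat_lit 5,nat_lit 7],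
  [nat_lit 3,nat_lit 6,nat_lit 1,nat_lit 3,nat_lit 6,nat_lit 1,nat_lit 5,nat_lit 1,nat_lit 1],
  [nat_lit 3,nat_lit 6,nat_lit 1,nat_lit 3,nat_lit 6,nat_lit 1,nat_lit 5,nat_lit 1,nat_lit 1,nat_lit 7],
  [nat_lit 2,nat_lit 2,nat_lit 6,nat_lit 1,nat_lit 6,nat_lit 1,nat_lit 4,nat_lit 5,nat_lit 2,nat_lit 5],
  [nat_lit 2,nat_lit 3,nat_lit 5,nat_lit 2,nat_lit 2,nat_lit 5,nat_lit 2,nat_lit 6,nat_lit 1,nat_lit 4],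
  [nat_lit 3,nat_lit 1,nat_lit 5,nat_lit 2,nat_lit 5,nat_lit 2,nat_lit 4,nat_lit 5,nat_lit 2],
  [nat_lit 5,nat_lit 2,nat_lit 3,nat_lit 5,nat_lit 2,nat_lit 3,nat_lit 5],
  [nat_lit 2,nat_lit 2,nat_lit 2,nat_lit 6,nat_lit 1,nat_lit 1,nat_lit 6,nat_lit 1],
  [nat_lit 1,nat_lit 6,nat_lit 1,nat_lit 6,nat_lit 1,nat_lit 6,nat_lit 2,nat_lit 4,nat_lit 5],
  [nat_lit 3,nat_lit 2,nat_lit 6,nat_lit 1,nat_lit 1,nat_lit 6,nat_lit 1,nat_lit 5,nat_lit 2],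
  [nat_lit 2,nat_lit 5,nat_lit 2,nat_lit 5,nat_lit 2,nat_lit 4,nat_lit 6,nat_lit 1,nat_lit 3,nat_lit 6],
  [nat_lit 1,nat_lit 6,nat_lit 2,nat_lit 5,nat_lit 2,nat_lit 2,nat_lit 5,nat_lit 1,nat_lit 4],
  [nat_lit 4,nat_lit 5,nat_lit 2,nat_lit 3,nat_lit 6,nat_lit 2,nat_lit 5,nat_lit 2,nat_lit 5],
  [nat_lit 3,nat_lit 5,nat_lit 1,nat_lit 3,nat_lit 6,nat_lit 1,nat_lit 5,nat_lit 1,nat_lit 1,nat_lit 6,nat_lit 7],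
  [nat_lit 2,nat_lit 2,nat_lit 6,nat_lit 2,nat_lit 3,nat_lit 5,nat_lit 2,nat_lit 2,nat_lit 5],
  [nat_lit 2,nat_lit 2,nat_lit 6,nat_lit 2,nat_lit 3,nat_lit 5,nat_lit 2,nat_lit 2,nat_lit 5,nat_lit 7],
  [nat_lit 3,nat_lit 5,nat_lit 1,nat_lit 3,nat_lit 6,nat_lit 1,nat_lit 5,nat_lit 1,nat_lit 1,nat_lit 6],
  [nat_lit 3,nat_lit 5,nat_lit 1,nat_lit 1,nat_lit 5,nat_lit 1,nat_lit 5,nat_lit 7,nat_lit 7],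
  [nat_lit 2,nat_lit 3,nat_lit 6,nat_lit 2,nat_lit 3,nat_lit 6,nat_lit 2,nat_lit 3],
  [nat_lit 3,nat_lit 5,nat_lit 1,nat_lit 1,nat_lit 5,nat_lit 1,nat_lit 5],
  [nat_lit 3,nat_lit 5,nat_lit 1,nat_lit 1,nat_lit 5,nat_lit 1,nat_lit 5,nat_lit 7],
  [nat_lit 3,nat_lit 5,nat_lit 2,nat_lit 5,nat_lit 1,nat_lit 6,nat_lit 1,nat_lit 5,nat_lit 1],
  [nat_lit 3,nat_lit 5,nat_lit 2,nat_lit 5,nat_lit 1,nat_lit 6,nat_lit 1,nat_lit 5,nat_lit 1,nat_lit 7],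
  [nat_lit 2,nat_lit 2,nat_lit 6,nat_lit 2,nat_lit 2,nat_lit 6,nat_lit 1,nat_lit 6,nat_lit 1,nat_lit 4,nat_lit 6],
  [nat_lit 2,nat_lit 6,nat_lit 2,nat_lit 5,nat_lit 1,nat_lit 5,nat_lit 1,nat_lit 6,nat_lit 2,nat_lit 6],
  [nat_lit 3,nat_lit 5,nat_lit 2,nat_lit 6,nat_lit 1,nat_lit 3,nat_lit 6,nat_lit 2,nat_lit 6,nat_lit 2],
  [nat_lit 3,nat_lit 5,nat_lit 2,nat_lit 6,nat_lit 1,nat_lit 3,nat_lit 6,nat_lit 2,nat_lit 6,nat_lit 2,nat_lit 7],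
  [nat_lit 3,nat_lit 1,nat_lit 5,nat_lit 1,nat_lit 6,nat_lit 2,nat_lit 3,nat_lit 6,nat_lit 1,nat_lit 6,nat_lit 1],
  [nat_lit 2,nat_lit 4,nat_lit 6,nat_lit 1,nat_lit 5,nat_lit 2,nat_lit 4,nat_lit 6,nat_lit 1,nat_lit 3],
  [nat_lit 1,nat_lit 1,nat_lit 5,nat_lit 2,nat_lit 6,nat_lit 1,nat_lit 1,nat_lit 6,nat_lit 2,nat_lit 5],
  [nat_lit 6,nat_lit 1,nat_lit 6,nat_lit 2,nat_lit 6,nat_lit 1,nat_lit 1,nat_lit 5,nat_lit 2,nat_lit 6],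
  [nat_lit 1,nat_lit 5,nat_lit 2,nat_lit 5,nat_lit 2,nat_lit 6,nat_lit 2,nat_lit 2,nat_lit 6,nat_lit 2,nat_lit 3],
  [nat_lit 5,nat_lit 1,nat_lit 6,nat_lit 2,nat_lit 2,nat_lit 5,nat_lit 1,nat_lit 5,nat_lit 2,nat_lit 5],
  [nat_lit 1,nat_lit 5,nat_lit 2,nat_lit 6,nat_lit 1,nat_lit 6,nat_lit 2,nat_lit 2,nat_lit 6,nat_lit 7],
  [nat_lit 6,nat_lit 1,nat_lit 1,nat_lit 6,nat_lit 2,nat_lit 6,nat_lit 1,nat_lit 5,nat_lit 2],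
  [nat_lit 2,nat_lit 3,nat_lit 6,nat_lit 2,nat_lit 5,nat_lit 1,nat_lit 4,nat_lit 6,nat_lit 1],
  [nat_lit 1,nat_lit 5,nat_lit 2,nat_lit 6,nat_lit 1,nat_lit 6,nat_lit 2,nat_lit 2,nat_lit 6],
  [nat_lit 5,nat_lit 1,nat_lit 6,nat_lit 1,nat_lit 1,nat_lit 5,nat_lit 1,nat_lit 5,nat_lit 1,nat_lit 6],
  [nat_lit 2,nat_lit 5,nat_lit 2,nat_lit 5,nat_lit 1,nat_lit 6,nat_lit 2,nat_lit 3,nat_lit 6,nat_lit 1,nat_lit 3],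
  [nat_lit 5,nat_lit 1,nat_lit 6,nat_lit 1,nat_lit 6,nat_lit 2,nat_lit 6,nat_lit 2,nat_lit 5],
  [nat_lit 5,nat_lit 1,nat_lit 6,nat_lit 1,nat_lit 6,nat_lit 2,nat_lit 6,nat_lit 2,nat_lit 5,nat_lit 7],
  [nat_lit 4,nat_lit 5,nat_lit 1,nat_lit 5,nat_lit 2,nat_lit 6,nat_lit 1,nat_lit 6],
  [nat_lit 4,nat_lit 5,nat_lit 1,nat_lit 5,nat_lit 2,nat_lit 6,nat_lit 1,nat_lit 6,nat_lit 7],
  [nat_lit 4,nat_lit 5,nat_lit 1,nat_lit 5,nat_lit 2,nat_lit 6,nat_lit 1,nat_lit 6,nat_lit 7,nat_lit 7],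
  [nat_lit 2,nat_lit 5,nat_lit 1,nat_lit 3,nat_lit 6,nat_lit 2,nat_lit 5,nat_lit 2,nat_lit 6,nat_lit 2,nat_lit 6],
  [nat_lit 4,nat_lit 2,nat_lit 6,nat_lit 2,nat_lit 4,nat_lit 6,nat_lit 2,nat_lit 6,nat_lit 8],
  [nat_lit 3,nat_lit 1,nat_lit 6,nat_lit 2,nat_lit 6,nat_lit 2,nat_lit 6,nat_lit 1,nat_lit 4,nat_lit 8],
  [nat_lit 4,nat_lit 5,nat_lit 1,nat_lit 5,nat_lit 1,nat_lit 4,nat_lit 5,nat_lit 1,nat_lit 6,nat_lit 8],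
  [nat_lit 2,nat_lit 3,nat_lit 2,nat_lit 5,nat_lit 1,nat_lit 3,nat_lit 5,nat_lit 1,nat_lit 3,nat_lit 8],
  [nat_lit 5,nat_lit 1,nat_lit 3,nat_lit 6,nat_lit 1,nat_lit 1,nat_lit 6,nat_lit 2,nat_lit 6,nat_lit 8],
  [nat_lit 3,nat_lit 6,nat_lit 2,nat_lit 5,nat_lit 2,nat_lit 2,nat_lit 5,nat_lit 2,nat_lit 4,nat_lit 6,nat_lit 8],
  [nat_lit 1,nat_lit 1,nat_lit 6,nat_lit 1,nat_lit 1,nat_lit 6,nat_lit 2,nat_lit 3,nat_lit 5,nat_lit 2,nat_lit 2,nat_lit 8],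
  [nat_lit 1,nat_lit 6,nat_lit 1,nat_lit 4,nat_lit 6,nat_lit 1,nat_lit 5,nat_lit 1,nat_lit 1,nat_lit 6,nat_lit 8],
  [nat_lit 2,nat_lit 6,nat_lit 2,nat_lit 2,nat_lit 6,nat_lit 2,nat_lit 7,nat_lit 8],
  [nat_lit 2,nat_lit 6,nat_lit 2,nat_lit 2,nat_lit 6,nat_lit 2,nat_lit 8],
  [nat_lit 2,nat_lit 6,nat_lit 2,nat_lit 2,nat_lit 6,nat_lit 2,nat_lit 8,nat_lit 7],
  [nat_lit 2,nat_lit 6,nat_lit 2,nat_lit 2,nat_lit 6,nat_lit 2,nat_lit 7,nat_lit 7,nat_lit 8],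
  [nat_lit 1,nat_lit 4,nat_lit 5,nat_lit 1,nat_lit 6,nat_lit 1,nat_lit 5,nat_lit 1,nat_lit 3,nat_lit 8,nat_lit 7],
  [nat_lit 4,nat_lit 6,nat_lit 2,nat_lit 5,nat_lit 1,nat_lit 5,nat_lit 1,nat_lit 1,nat_lit 6,nat_lit 7,nat_lit 8],
  [nat_lit 4,nat_lit 6,nat_lit 2,nat_lit 5,nat_lit 1,nat_lit 5,nat_lit 1,nat_lit 1,nat_lit 6,nat_lit 8],
  [nat_lit 1,nat_lit 4,nat_lit 5,nat_lit 1,nat_lit 6,nat_lit 1,nat_lit 5,nat_lit 1,nat_lit 3,nat_lit 8],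
  [nat_lit 5,nat_lit 1,nat_lit 6,nat_lit 1,nat_lit 5,nat_lit 7,nat_lit 7,nat_lit 8],
  [nat_lit 5,nat_lit 1,nat_lit 6,nat_lit 1,nat_lit 5,nat_lit 7,nat_lit 8],
  [nat_lit 5,nat_lit 1,nat_lit 6,nat_lit 1,nat_lit 5,nat_lit 8],
  [nat_lit 5,nat_lit 1,nat_lit 6,nat_lit 1,nat_lit 5,nat_lit 8,nat_lit 7],
  [nat_lit 6,nat_lit 2,nat_lit 5,nat_lit 1,nat_lit 3,nat_lit 6,nat_lit 2,nat_lit 8],
  [nat_lit 6,nat_lit 2,nat_lit 5,nat_lit 1,nat_lit 3,nat_lit 6,nat_lit 2,nat_lit 8,nat_lit 7],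
  [nat_lit 6,nat_lit 2,nat_lit 5,nat_lit 1,nat_lit 3,nat_lit 6,nat_lit 2,nat_lit 7,nat_lit 7,nat_lit 8],
  [nat_lit 6,nat_lit 2,nat_lit 5,nat_lit 1,nat_lit 3,nat_lit 6,nat_lit 2,nat_lit 7,nat_lit 8],
  [nat_lit 4,nat_lit 2,nat_lit 5,nat_lit 2,nat_lit 5,nat_lit 1,nat_lit 6,nat_lit 2,nat_lit 6,nat_lit 8],
  [nat_lit 4,nat_lit 2,nat_lit 5,nat_lit 2,nat_lit 5,nat_lit 1,nat_lit 6,nat_lit 2,nat_lit 6,nat_lit 8,nat_lit 7],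
  [nat_lit 5,nat_lit 1,nat_lit 1,nat_lit 6,nat_lit 2,nat_lit 6,nat_lit 1,nat_lit 1,nat_lit 5,nat_lit 7,nat_lit 8],
  [nat_lit 5,nat_lit 1,nat_lit 1,nat_lit 6,nat_lit 2,nat_lit 6,nat_lit 1,nat_lit 1,nat_lit 5,nat_lit 8],
  [nat_lit 6,nat_lit 2,nat_lit 5,nat_lit 2,nat_lit 2,nat_lit 5,nat_lit 1,nat_lit 3,nat_lit 8],
  [nat_lit 6,nat_lit 2,nat_lit 5,nat_lit 2,nat_lit 2,nat_lit 5,nat_lit 1,nat_lit 3,nat_lit 8,nat_lit 7],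
  [nat_lit 2,nat_lit 6,nat_lit 1,nat_lit 6,nat_lit 1,nat_lit 4,nat_lit 5,nat_lit 1,nat_lit 6,nat_lit 7,nat_lit 8],
  [nat_lit 2,nat_lit 6,nat_lit 1,nat_lit 6,nat_lit 1,nat_lit 4,nat_lit 5,nat_lit 1,nat_lit 6,nat_lit 8],
  [nat_lit 3,nat_lit 5,nat_lit 2,nat_lit 6,nat_lit 2,nat_lit 2,nat_lit 6,nat_lit 2,nat_lit 4,nat_lit 5,nat_lit 8],
  [nat_lit 1,nat_lit 1,nat_lit 5,nat_lit 1,nat_lit 1,nat_lit 5,nat_lit 2,nat_lit 3,nat_lit 6,nat_lit 2,nat_lit 2,nat_lit 8],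
  [nat_lit 1,nat_lit 5,nat_lit 1,nat_lit 4,nat_lit 5,nat_lit 1,nat_lit 6,nat_lit 1,nat_lit 1,nat_lit 5,nat_lit 8],
  [nat_lit 5,nat_lit 2,nat_lit 3,nat_lit 5,nat_lit 1,nat_lit 3,nat_lit 5,nat_lit 1,nat_lit 6,nat_lit 8],
  [nat_lit 2,nat_lit 5,nat_lit 2,nat_lit 5,nat_lit 1,nat_lit 6,nat_lit 2,nat_lit 4,nat_lit 6,nat_lit 8,nat_lit 7],
  [nat_lit 1,nat_lit 4,nat_lit 5,nat_lit 1,nat_lit 5,nat_lit 2,nat_lit 6,nat_lit 1,nat_lit 3,nat_lit 6,nat_lit 1,nat_lit 8],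
  [nat_lit 2,nat_lit 5,nat_lit 2,nat_lit 5,nat_lit 1,nat_lit 6,nat_lit 2,nat_lit 4,nat_lit 6,nat_lit 7,nat_lit 8],
  [nat_lit 2,nat_lit 5,nat_lit 2,nat_lit 5,nat_lit 1,nat_lit 6,nat_lit 2,nat_lit 4,nat_lit 6,nat_lit 8],
  [nat_lit 1,nat_lit 1,nat_lit 5,nat_lit 1,nat_lit 6,nat_lit 1,nat_lit 1,nat_lit 6,nat_lit 2,nat_lit 4,nat_lit 8],
  [nat_lit 3,nat_lit 6,nat_lit 2,nat_lit 5,nat_lit 2,nat_lit 3,nat_lit 5,nat_lit 1,nat_lit 5,nat_lit 8],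
  [nat_lit 3,nat_lit 2,nat_lit 5,nat_lit 2,nat_lit 2,nat_lit 5,nat_lit 2,nat_lit 6,nat_lit 1,nat_lit 8],
  [nat_lit 2,nat_lit 5,nat_lit 2,nat_lit 2,nat_lit 6,nat_lit 2,nat_lit 4,nat_lit 5,nat_lit 2,nat_lit 6,nat_lit 8],
  [nat_lit 4,nat_lit 5,nat_lit 1,nat_lit 6,nat_lit 2,nat_lit 4,nat_lit 5,nat_lit 1,nat_lit 3,nat_lit 8,nat_lit 7],
  [nat_lit 4,nat_lit 5,nat_lit 1,nat_lit 6,nat_lit 2,nat_lit 4,nat_lit 5,nat_lit 1,nat_lit 3,nat_lit 7,nat_lit 7,nat_lit 8],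
  [nat_lit 4,nat_lit 5,nat_lit 1,nat_lit 6,nat_lit 2,nat_lit 4,nat_lit 5,nat_lit 1,nat_lit 3,nat_lit 7,nat_lit 8],
  [nat_lit 4,nat_lit 5,nat_lit 1,nat_lit 6,nat_lit 2,nat_lit 4,nat_lit 5,nat_lit 1,nat_lit 3,nat_lit 8],
  [nat_lit 1,nat_lit 1,nat_lit 1,nat_lit 8],
  [nat_lit 1,nat_lit 1,nat_lit 1,nat_lit 8,nat_lit 7],
  [nat_lit 1,nat_lit 1,nat_lit 1,nat_lit 7,nat_lit 7,nat_lit 8],
  [nat_lit 1,nat_lit 1,nat_lit 1,nat_lit 7,nat_lit 8],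
  [nat_lit 6,nat_lit 1,nat_lit 5,nat_lit 1,nat_lit 6,nat_lit 8],
  [nat_lit 6,nat_lit 1,nat_lit 5,nat_lit 1,nat_lit 6,nat_lit 8,nat_lit 7],
  [nat_lit 5,nat_lit 2,nat_lit 6,nat_lit 2,nat_lit 6,nat_lit 2,nat_lit 5,nat_lit 8],
  [nat_lit 6,nat_lit 1,nat_lit 5,nat_lit 1,nat_lit 6,nat_lit 7,nat_lit 8],
  [nat_lit 6,nat_lit 1,nat_lit 4,nat_lit 5,nat_lit 1,nat_lit 5,nat_lit 1,nat_lit 6,nat_lit 2,nat_lit 6,nat_lit 8],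
  [nat_lit 1,nat_lit 4,nat_lit 6,nat_lit 1,nat_lit 5,nat_lit 1,nat_lit 1,nat_lit 6,nat_lit 2,nat_lit 5,nat_lit 8],
  [nat_lit 2,nat_lit 3,nat_lit 2,nat_lit 6,nat_lit 1,nat_lit 5,nat_lit 2,nat_lit 4,nat_lit 6,nat_lit 2,nat_lit 8],
  [nat_lit 1,nat_lit 1,nat_lit 5,nat_lit 1,nat_lit 6,nat_lit 2,nat_lit 6,nat_lit 1,nat_lit 1,nat_lit 6,nat_lit 8],
  [nat_lit 3,nat_lit 5,nat_lit 1,nat_lit 1,nat_lit 6,nat_lit 2,nat_lit 5,nat_lit 2,nat_lit 6,nat_lit 8,nat_lit 7],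
  [nat_lit 3,nat_lit 5,nat_lit 1,nat_lit 1,nat_lit 5,nat_lit 1,nat_lit 6,nat_lit 1,nat_lit 6,nat_lit 1,nat_lit 5,nat_lit 8],
  [nat_lit 3,nat_lit 5,nat_lit 1,nat_lit 1,nat_lit 6,nat_lit 2,nat_lit 5,nat_lit 2,nat_lit 6,nat_lit 7,nat_lit 8],
  [nat_lit 3,nat_lit 5,nat_lit 1,nat_lit 1,nat_lit 6,nat_lit 2,nat_lit 5,nat_lit 2,nat_lit 6,nat_lit 8],
  [nat_lit 3,nat_lit 6,nat_lit 1,nat_lit 3,nat_lit 6,nat_lit 1,nat_lit 5,nat_lit 2,nat_lit 2,nat_lit 8],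
  [nat_lit 2,nat_lit 3,nat_lit 5,nat_lit 2,nat_lit 2,nat_lit 5,nat_lit 2,nat_lit 6,nat_lit 2,nat_lit 4,nat_lit 8],
  [nat_lit 2,nat_lit 6,nat_lit 1,nat_lit 5,nat_lit 1,nat_lit 3,nat_lit 6,nat_lit 1,nat_lit 5,nat_lit 7,nat_lit 8],
  [nat_lit 2,nat_lit 6,nat_lit 1,nat_lit 5,nat_lit 1,nat_lit 3,nat_lit 6,nat_lit 1,nat_lit 5,nat_lit 8],
  [nat_lit 1,nat_lit 1,nat_lit 1,nat_lit 5,nat_lit 1,nat_lit 5,nat_lit 2,nat_lit 6,nat_lit 1,nat_lit 3,nat_lit 6,nat_lit 8],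
  [nat_lit 1,nat_lit 5,nat_lit 2,nat_lit 6,nat_lit 1,nat_lit 6,nat_lit 2,nat_lit 6,nat_lit 1,nat_lit 5,nat_lit 8],
  [nat_lit 1,nat_lit 4,nat_lit 5,nat_lit 2,nat_lit 5,nat_lit 1,nat_lit 6,nat_lit 2,nat_lit 6,nat_lit 2,nat_lit 2,nat_lit 8],
  [nat_lit 1,nat_lit 1,nat_lit 1,nat_lit 5,nat_lit 1,nat_lit 5,nat_lit 2,nat_lit 6,nat_lit 1,nat_lit 3,nat_lit 6,nat_lit 7,nat_lit 8],
  [nat_lit 1,nat_lit 6,nat_lit 2,nat_lit 5,nat_lit 2,nat_lit 2,nat_lit 5,nat_lit 2,nat_lit 4,nat_lit 8,nat_lit 7],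
  [nat_lit 3,nat_lit 2,nat_lit 6,nat_lit 1,nat_lit 1,nat_lit 6,nat_lit 1,nat_lit 5,nat_lit 1,nat_lit 1,nat_lit 8],
  [nat_lit 5,nat_lit 1,nat_lit 4,nat_lit 5,nat_lit 2,nat_lit 5,nat_lit 2,nat_lit 4,nat_lit 6,nat_lit 8],
  [nat_lit 1,nat_lit 6,nat_lit 2,nat_lit 5,nat_lit 2,nat_lit 2,nat_lit 5,nat_lit 2,nat_lit 4,nat_lit 8],
  [nat_lit 3,nat_lit 2,nat_lit 5,nat_lit 1,nat_lit 6,nat_lit 1,nat_lit 4,nat_lit 5,nat_lit 2,nat_lit 8],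
  [nat_lit 1,nat_lit 3,nat_lit 5,nat_lit 1,nat_lit 6,nat_lit 2,nat_lit 3,nat_lit 6,nat_lit 2,nat_lit 5,nat_lit 8],
  [nat_lit 1,nat_lit 5,nat_lit 2,nat_lit 5,nat_lit 2,nat_lit 3,nat_lit 6,nat_lit 2,nat_lit 6,nat_lit 2,nat_lit 8],
  [nat_lit 3,nat_lit 2,nat_lit 5,nat_lit 1,nat_lit 6,nat_lit 1,nat_lit 4,nat_lit 5,nat_lit 2,nat_lit 7,nat_lit 8],
  [nat_lit 1,nat_lit 1,nat_lit 6,nat_lit 1,nat_lit 5,nat_lit 2,nat_lit 5,nat_lit 1,nat_lit 1,nat_lit 5,nat_lit 8],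
  [nat_lit 5,nat_lit 1,nat_lit 4,nat_lit 6,nat_lit 1,nat_lit 6,nat_lit 1,nat_lit 5,nat_lit 2,nat_lit 5,nat_lit 8],
  [nat_lit 1,nat_lit 4,nat_lit 5,nat_lit 1,nat_lit 6,nat_lit 1,nat_lit 1,nat_lit 5,nat_lit 2,nat_lit 6,nat_lit 8],
  [nat_lit 2,nat_lit 3,nat_lit 2,nat_lit 5,nat_lit 1,nat_lit 6,nat_lit 2,nat_lit 4,nat_lit 5,nat_lit 2,nat_lit 8],
  [nat_lit 1,nat_lit 6,nat_lit 1,nat_lit 5,nat_lit 2,nat_lit 2,nat_lit 5,nat_lit 1,nat_lit 6,nat_lit 8],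
  [nat_lit 1,nat_lit 6,nat_lit 1,nat_lit 5,nat_lit 2,nat_lit 2,nat_lit 5,nat_lit 1,nat_lit 6,nat_lit 8,nat_lit 7],
  [nat_lit 2,nat_lit 6,nat_lit 2,nat_lit 4,nat_lit 6,nat_lit 2,nat_lit 5,nat_lit 2,nat_lit 5,nat_lit 1,nat_lit 8],
  [nat_lit 1,nat_lit 6,nat_lit 1,nat_lit 5,nat_lit 2,nat_lit 2,nat_lit 5,nat_lit 1,nat_lit 6,nat_lit 7,nat_lit 8],
  [nat_lit 6,nat_lit 1,nat_lit 1,nat_lit 5,nat_lit 1,nat_lit 5,nat_lit 2,nat_lit 3,nat_lit 6,nat_lit 8],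
  [nat_lit 4,nat_lit 1,nat_lit 5,nat_lit 1,nat_lit 6,nat_lit 1,nat_lit 3,nat_lit 5,nat_lit 1,nat_lit 8],
  [nat_lit 1,nat_lit 5,nat_lit 1,nat_lit 3,nat_lit 5,nat_lit 1,nat_lit 6,nat_lit 2,nat_lit 2,nat_lit 5,nat_lit 8],
  [nat_lit 6,nat_lit 1,nat_lit 1,nat_lit 5,nat_lit 1,nat_lit 5,nat_lit 2,nat_lit 3,nat_lit 6,nat_lit 7,nat_lit 8],
  [nat_lit 3,nat_lit 6,nat_lit 1,nat_lit 1,nat_lit 5,nat_lit 2,nat_lit 6,nat_lit 2,nat_lit 5,nat_lit 7,nat_lit 7,nat_lit 8],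
  [nat_lit 3,nat_lit 6,nat_lit 1,nat_lit 1,nat_lit 5,nat_lit 2,nat_lit 6,nat_lit 2,nat_lit 5,nat_lit 7,nat_lit 8],
  [nat_lit 3,nat_lit 6,nat_lit 1,nat_lit 1,nat_lit 5,nat_lit 2,nat_lit 6,nat_lit 2,nat_lit 5,nat_lit 8],
  [nat_lit 3,nat_lit 6,nat_lit 1,nat_lit 1,nat_lit 5,nat_lit 2,nat_lit 6,nat_lit 2,nat_lit 5,nat_lit 8,nat_lit 7],
  [nat_lit 2,nat_lit 2,nat_lit 5,nat_lit 1,nat_lit 3,nat_lit 6,nat_lit 1,nat_lit 1,nat_lit 6,nat_lit 8,nat_lit 7],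
  [nat_lit 5,nat_lit 1,nat_lit 4,nat_lit 6,nat_lit 1,nat_lit 5,nat_lit 1,nat_lit 6,nat_lit 2,nat_lit 7,nat_lit 8],
  [nat_lit 5,nat_lit 1,nat_lit 4,nat_lit 6,nat_lit 1,nat_lit 5,nat_lit 1,nat_lit 6,nat_lit 2,nat_lit 8],
  [nat_lit 2,nat_lit 2,nat_lit 5,nat_lit 1,nat_lit 3,nat_lit 6,nat_lit 1,nat_lit 1,nat_lit 6,nat_lit 8],
  [nat_lit 4,nat_lit 1,nat_lit 5,nat_lit 2,nat_lit 2,nat_lit 5,nat_lit 2,nat_lit 6,nat_lit 8,nat_lit 7],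
  [nat_lit 2,nat_lit 2,nat_lit 6,nat_lit 1,nat_lit 6,nat_lit 1,nat_lit 4,nat_lit 6,nat_lit 1,nat_lit 6,nat_lit 8],
  [nat_lit 2,nat_lit 4,nat_lit 6,nat_lit 1,nat_lit 3,nat_lit 6,nat_lit 1,nat_lit 3,nat_lit 5,nat_lit 8],
  [nat_lit 4,nat_lit 1,nat_lit 5,nat_lit 2,nat_lit 2,nat_lit 5,nat_lit 2,nat_lit 6,nat_lit 8],
  [nat_lit 2,nat_lit 5,nat_lit 2,nat_lit 2,nat_lit 5,nat_lit 2,nat_lit 7,nat_lit 8],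
  [nat_lit 2,nat_lit 5,nat_lit 2,nat_lit 2,nat_lit 5,nat_lit 2,nat_lit 8],
  [nat_lit 2,nat_lit 5,nat_lit 2,nat_lit 2,nat_lit 5,nat_lit 2,nat_lit 8,nat_lit 7],
  [nat_lit 2,nat_lit 5,nat_lit 2,nat_lit 2,nat_lit 5,nat_lit 2,nat_lit 7,nat_lit 7,nat_lit 8],
  [nat_lit 2,nat_lit 3,nat_lit 2,nat_lit 6,nat_lit 1,nat_lit 3,nat_lit 6,nat_lit 1,nat_lit 3,nat_lit 8],
  [nat_lit 4,nat_lit 2,nat_lit 5,nat_lit 2,nat_lit 4,nat_lit 5,nat_lit 2,nat_lit 5,nat_lit 8],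
  [nat_lit 3,nat_lit 1,nat_lit 5,nat_lit 2,nat_lit 5,nat_lit 2,nat_lit 5,nat_lit 1,nat_lit 4,nat_lit 8],
  [nat_lit 4,nat_lit 6,nat_lit 1,nat_lit 6,nat_lit 1,nat_lit 4,nat_lit 6,nat_lit 1,nat_lit 5,nat_lit 8],
  [nat_lit 2,nat_lit 2,nat_lit 2,nat_lit 5,nat_lit 2,nat_lit 6,nat_lit 1,nat_lit 3,nat_lit 5,nat_lit 7,nat_lit 7,nat_lit 8],
  [nat_lit 2,nat_lit 2,nat_lit 2,nat_lit 5,nat_lit 2,nat_lit 6,nat_lit 1,nat_lit 3,nat_lit 5,nat_lit 7,nat_lit 8],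
  [nat_lit 2,nat_lit 2,nat_lit 2,nat_lit 5,nat_lit 2,nat_lit 6,nat_lit 1,nat_lit 3,nat_lit 5,nat_lit 8],
  [nat_lit 2,nat_lit 2,nat_lit 2,nat_lit 5,nat_lit 2,nat_lit 6,nat_lit 1,nat_lit 3,nat_lit 5,nat_lit 8,nat_lit 7],
  [nat_lit 1,nat_lit 1,nat_lit 5,nat_lit 2,nat_lit 4,nat_lit 6,nat_lit 2,nat_lit 3,nat_lit 6,nat_lit 7,nat_lit 8],
  [nat_lit 1,nat_lit 1,nat_lit 5,nat_lit 2,nat_lit 4,nat_lit 6,nat_lit 2,nat_lit 3,nat_lit 6,nat_lit 8],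
  [nat_lit 1,nat_lit 6,nat_lit 2,nat_lit 3,nat_lit 6,nat_lit 2,nat_lit 2,nat_lit 5,nat_lit 1,nat_lit 8],
  [nat_lit 1,nat_lit 6,nat_lit 2,nat_lit 3,nat_lit 6,nat_lit 2,nat_lit 2,nat_lit 5,nat_lit 1,nat_lit 8,nat_lit 7],
  [nat_lit 1,nat_lit 1,nat_lit 5,nat_lit 1,nat_lit 4,nat_lit 5,nat_lit 1,nat_lit 6,nat_lit 1,nat_lit 4,nat_lit 8],
  [nat_lit 1,nat_lit 6,nat_lit 1,nat_lit 4,nat_lit 5,nat_lit 1,nat_lit 5,nat_lit 2,nat_lit 3,nat_lit 8],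
  [nat_lit 1,nat_lit 3,nat_lit 5,nat_lit 2,nat_lit 3,nat_lit 6,nat_lit 2,nat_lit 6,nat_lit 1,nat_lit 8],
  [nat_lit 1,nat_lit 3,nat_lit 5,nat_lit 2,nat_lit 3,nat_lit 6,nat_lit 2,nat_lit 6,nat_lit 1,nat_lit 8,nat_lit 7],
  [nat_lit 2,nat_lit 4,nat_lit 6,nat_lit 1,nat_lit 5,nat_lit 2,nat_lit 6,nat_lit 8,nat_lit 7],
  [nat_lit 2,nat_lit 4,nat_lit 6,nat_lit 1,nat_lit 5,nat_lit 2,nat_lit 6,nat_lit 7,nat_lit 7,nat_lit 8],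
  [nat_lit 2,nat_lit 4,nat_lit 6,nat_lit 1,nat_lit 5,nat_lit 2,nat_lit 6,nat_lit 7,nat_lit 8],
  [nat_lit 2,nat_lit 4,nat_lit 6,nat_lit 1,nat_lit 5,nat_lit 2,nat_lit 6,nat_lit 8]]

def E10 : List (ℕ × ℕ × List ℕ × List ℕ) := [(nat_lit 4959599, nat_lit 0, [nat_lit 1,nat_lit 3,nat_lit 1,nat_lit 5,nat_lit 1], [nat_lit 2,nat_lit 3,nat_lit 6,nat_lit 1,nat_lit 6,nat_lit 1,nat_lit 1,nat_lit 5,nat_lit 2,nat_lit 4]),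
  (nat_lit 4975981, nat_lit 0, [nat_lit 1,nat_lit 4,nat_lit 5,nat_lit 2,nat_lit 3,nat_lit 6], [nat_lit 1,nat_lit 1,nat_lit 5,nat_lit 1,nat_lit 6,nat_lit 1,nat_lit 1,nat_lit 6,nat_lit 1,nat_lit 4,nat_lit 7]),
  (nat_lit 6596452, nat_lit 0, [nat_lit 2,nat_lit 6,nat_lit 2,nat_lit 3], [nat_lit 1,nat_lit 4,nat_lit 5,nat_lit 1,nat_lit 6,nat_lit 1,nat_lit 3,nat_lit 5,nat_lit 1]),
  (nat_lit 6612838, nat_lit 0, [nat_lit 1,nat_lit 3,nat_lit 6,nat_lit 1,nat_lit 5], [nat_lit 1,nat_lit 6,nat_lit 2,nat_lit 2,nat_lit 6,nat_lit 2,nat_lit 5,nat_lit 2,nat_lit 4,nat_lit 5]),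
  (nat_lit 6850432, nat_lit 0, [nat_lit 4,nat_lit 1,nat_lit 5], [nat_lit 2,nat_lit 3,nat_lit 5,nat_lit 1,nat_lit 6,nat_lit 1,nat_lit 5,nat_lit 1,nat_lit 4]),
  (nat_lit 6866818, nat_lit 0, [nat_lit 5,nat_lit 2,nat_lit 6,nat_lit 1,nat_lit 6], [nat_lit 1,nat_lit 1,nat_lit 6,nat_lit 1,nat_lit 6,nat_lit 1,nat_lit 3,nat_lit 5,nat_lit 1,nat_lit 5,nat_lit 1]),
  (nat_lit 6914658, nat_lit 0, [nat_lit 1,nat_lit 3,nat_lit 6,nat_lit 1,nat_lit 5,nat_lit 1,nat_lit 4], [nat_lit 1,nat_lit 1,nat_lit 1,nat_lit 5,nat_lit 1,nat_lit 6,nat_lit 1,nat_lit 6,nat_lit 1,nat_lit 5]),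
  (nat_lit 6931040, nat_lit 0, [nat_lit 2,nat_lit 6,nat_lit 1], [nat_lit 1,nat_lit 1,nat_lit 1,nat_lit 6,nat_lit 2,nat_lit 5,nat_lit 2,nat_lit 6]),
  (nat_lit 14059956, nat_lit 0, [nat_lit 4,nat_lit 5,nat_lit 1], [nat_lit 1,nat_lit 6,nat_lit 1,nat_lit 4,nat_lit 5,nat_lit 1,nat_lit 3,nat_lit 5]),
  (nat_lit 14076342, nat_lit 0, [nat_lit 1,nat_lit 5,nat_lit 1,nat_lit 6,nat_lit 1,nat_lit 4], [nat_lit 1,nat_lit 6,nat_lit 1,nat_lit 4,nat_lit 5,nat_lit 1,nat_lit 3,nat_lit 5,nat_lit 7,nat_lit 7]),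
  (nat_lit 17902290, nat_lit 0, [nat_lit 3,nat_lit 2,nat_lit 5,nat_lit 2,nat_lit 6,nat_lit 2], [nat_lit 2,nat_lit 6,nat_lit 1,nat_lit 6,nat_lit 2,nat_lit 6,nat_lit 1,nat_lit 6,nat_lit 7,nat_lit 7]),
  (nat_lit 17918672, nat_lit 0, [nat_lit 2,nat_lit 3,nat_lit 6], [nat_lit 2,nat_lit 6,nat_lit 1,nat_lit 6,nat_lit 2,nat_lit 6,nat_lit 1,nat_lit 6]),
  (nat_lit 17957294, nat_lit 0, [nat_lit 2,nat_lit 5,nat_lit 1,nat_lit 4,nat_lit 5,nat_lit 1,nat_lit 6], [nat_lit 1,nat_lit 1,nat_lit 1,nat_lit 5,nat_lit 2,nat_lit 6,nat_lit 2,nat_lit 5,nat_lit 7,nat_lit 7]),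
  (nat_lit 17973676, nat_lit 0, [], [nat_lit 1,nat_lit 1,nat_lit 1,nat_lit 5,nat_lit 2,nat_lit 6,nat_lit 2,nat_lit 5]),
  (nat_lit 18033161, nat_lit 0, [nat_lit 2,nat_lit 2,nat_lit 6,nat_lit 1,nat_lit 5], [nat_lit 2,nat_lit 6,nat_lit 1,nat_lit 4,nat_lit 5,nat_lit 1,nat_lit 5,nat_lit 2,nat_lit 3,nat_lit 5]),
  (nat_lit 18049547, nat_lit 0, [nat_lit 5,nat_lit 1,nat_lit 6,nat_lit 2,nat_lit 4], [nat_lit 1,nat_lit 1,nat_lit 5,nat_lit 2,nat_lit 4,nat_lit 6,nat_lit 2,nat_lit 6,nat_lit 1,nat_lit 3]),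
  (nat_lit 19868141, nat_lit 0, [nat_lit 2,nat_lit 5,nat_lit 1,nat_lit 4,nat_lit 6,nat_lit 1], [nat_lit 2,nat_lit 5,nat_lit 2,nat_lit 5,nat_lit 2,nat_lit 4,nat_lit 6,nat_lit 1,nat_lit 3,nat_lit 6]),
  (nat_lit 19884527, nat_lit 0, [nat_lit 6,nat_lit 2,nat_lit 3], [nat_lit 4,nat_lit 5,nat_lit 2,nat_lit 3,nat_lit 6,nat_lit 2,nat_lit 5,nat_lit 2,nat_lit 5]),
  (nat_lit 24742816, nat_lit 0, [nat_lit 4,nat_lit 1,nat_lit 5,nat_lit 1], [nat_lit 1,nat_lit 1,nat_lit 5,nat_lit 2,nat_lit 6,nat_lit 1,nat_lit 1,nat_lit 6,nat_lit 2,nat_lit 5]),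
  (nat_lit 24759202, nat_lit 0, [nat_lit 3,nat_lit 2,nat_lit 5,nat_lit 2,nat_lit 3,nat_lit 6], [nat_lit 1,nat_lit 5,nat_lit 2,nat_lit 5,nat_lit 2,nat_lit 6,nat_lit 2,nat_lit 2,nat_lit 6,nat_lit 2,nat_lit 3]),
  (nat_lit 29429073, nat_lit 0, [nat_lit 4,nat_lit 6,nat_lit 1,nat_lit 5], [nat_lit 5,nat_lit 1,nat_lit 6,nat_lit 1,nat_lit 1,nat_lit 5,nat_lit 1,nat_lit 5,nat_lit 1,nat_lit 6]),
  (nat_lit 29445459, nat_lit 0, [nat_lit 2,nat_lit 5,nat_lit 1], [nat_lit 5,nat_lit 1,nat_lit 6,nat_lit 1,nat_lit 6,nat_lit 2,nat_lit 6,nat_lit 2,nat_lit 5]),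
  (nat_lit 31723916, nat_lit 2, [nat_lit 2,nat_lit 2,nat_lit 6,nat_lit 2,nat_lit 3], [nat_lit 4,nat_lit 2,nat_lit 6,nat_lit 2,nat_lit 4,nat_lit 6,nat_lit 2,nat_lit 6,nat_lit 8]),
  (nat_lit 31732109, nat_lit 1, [nat_lit 6,nat_lit 1,nat_lit 5,nat_lit 2,nat_lit 4], [nat_lit 3,nat_lit 1,nat_lit 6,nat_lit 2,nat_lit 6,nat_lit 2,nat_lit 6,nat_lit 1,nat_lit 4,nat_lit 8]),
  (nat_lit 31740302, nat_lit 2, [nat_lit 6,nat_lit 1,nat_lit 5,nat_lit 2,nat_lit 4], [nat_lit 4,nat_lit 5,nat_lit 1,nat_lit 5,nat_lit 1,nat_lit 4,nat_lit 5,nat_lit 1,nat_lit 6,nat_lit 8]),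
  (nat_lit 31748495, nat_lit 1, [nat_lit 2,nat_lit 2,nat_lit 6,nat_lit 2,nat_lit 3], [nat_lit 2,nat_lit 3,nat_lit 2,nat_lit 5,nat_lit 1,nat_lit 3,nat_lit 5,nat_lit 1,nat_lit 3,nat_lit 8]),
  (nat_lit 31923546, nat_lit 2, [nat_lit 1,nat_lit 6,nat_lit 1,nat_lit 6,nat_lit 1,nat_lit 1], [nat_lit 5,nat_lit 1,nat_lit 3,nat_lit 6,nat_lit 1,nat_lit 1,nat_lit 6,nat_lit 2,nat_lit 6,nat_lit 8]),
  (nat_lit 31931739, nat_lit 1, [nat_lit 1,nat_lit 6,nat_lit 1,nat_lit 4,nat_lit 5], [nat_lit 3,nat_lit 6,nat_lit 2,nat_lit 5,nat_lit 2,nat_lit 2,nat_lit 5,nat_lit 2,nat_lit 4,nat_lit 6,nat_lit 8]),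
  (nat_lit 31939928, nat_lit 2, [nat_lit 1,nat_lit 6,nat_lit 1,nat_lit 4,nat_lit 5], [nat_lit 1,nat_lit 1,nat_lit 6,nat_lit 1,nat_lit 1,nat_lit 6,nat_lit 2,nat_lit 3,nat_lit 5,nat_lit 2,nat_lit 2,nat_lit 8]),
  (nat_lit 31948121, nat_lit 1, [nat_lit 1,nat_lit 6,nat_lit 1,nat_lit 6,nat_lit 1,nat_lit 1], [nat_lit 1,nat_lit 6,nat_lit 1,nat_lit 4,nat_lit 6,nat_lit 1,nat_lit 5,nat_lit 1,nat_lit 1,nat_lit 6,nat_lit 8]),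
  (nat_lit 33624031, nat_lit 2, [nat_lit 5,nat_lit 2,nat_lit 2,nat_lit 6,nat_lit 2], [nat_lit 2,nat_lit 6,nat_lit 2,nat_lit 2,nat_lit 6,nat_lit 2,nat_lit 7,nat_lit 8]),
  (nat_lit 33632220, nat_lit 1, [nat_lit 1,nat_lit 5,nat_lit 1], [nat_lit 2,nat_lit 6,nat_lit 2,nat_lit 2,nat_lit 6,nat_lit 2,nat_lit 8]),
  (nat_lit 33640413, nat_lit 2, [nat_lit 1,nat_lit 5,nat_lit 1], [nat_lit 2,nat_lit 6,nat_lit 2,nat_lit 2,nat_lit 6,nat_lit 2,nat_lit 8,nat_lit 7]),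
  (nat_lit 33648606, nat_lit 1, [nat_lit 5,nat_lit 2,nat_lit 2,nat_lit 6,nat_lit 2], [nat_lit 2,nat_lit 6,nat_lit 2,nat_lit 2,nat_lit 6,nat_lit 2,nat_lit 7,nat_lit 7,nat_lit 8]),
  (nat_lit 33919330, nat_lit 1, [nat_lit 1,nat_lit 3,nat_lit 6,nat_lit 1,nat_lit 5], [nat_lit 5,nat_lit 1,nat_lit 6,nat_lit 1,nat_lit 5,nat_lit 7,nat_lit 7,nat_lit 8]),
  (nat_lit 33927523, nat_lit 2, [nat_lit 1,nat_lit 3,nat_lit 6,nat_lit 1,nat_lit 5], [nat_lit 5,nat_lit 1,nat_lit 6,nat_lit 1,nat_lit 5,nat_lit 7,nat_lit 8]),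
  (nat_lit 33935712, nat_lit 1, [nat_lit 6,nat_lit 2,nat_lit 6], [nat_lit 5,nat_lit 1,nat_lit 6,nat_lit 1,nat_lit 5,nat_lit 8]),
  (nat_lit 33943905, nat_lit 2, [nat_lit 6,nat_lit 2,nat_lit 6], [nat_lit 5,nat_lit 1,nat_lit 6,nat_lit 1,nat_lit 5,nat_lit 8,nat_lit 7]),
  (nat_lit 35657280, nat_lit 2, [nat_lit 1,nat_lit 1,nat_lit 5,nat_lit 2,nat_lit 4,nat_lit 6], [nat_lit 4,nat_lit 2,nat_lit 5,nat_lit 2,nat_lit 5,nat_lit 1,nat_lit 6,nat_lit 2,nat_lit 6,nat_lit 8]),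
  (nat_lit 35665473, nat_lit 1, [nat_lit 5,nat_lit 2,nat_lit 2,nat_lit 6,nat_lit 1,nat_lit 3,nat_lit 6], [nat_lit 4,nat_lit 2,nat_lit 5,nat_lit 2,nat_lit 5,nat_lit 1,nat_lit 6,nat_lit 2,nat_lit 6,nat_lit 8,nat_lit 7]),
  (nat_lit 35673666, nat_lit 2, [nat_lit 5,nat_lit 2,nat_lit 2,nat_lit 6,nat_lit 1,nat_lit 3,nat_lit 6], [nat_lit 5,nat_lit 1,nat_lit 1,nat_lit 6,nat_lit 2,nat_lit 6,nat_lit 1,nat_lit 1,nat_lit 5,nat_lit 7,nat_lit 8]),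
  (nat_lit 35681859, nat_lit 1, [nat_lit 1,nat_lit 1,nat_lit 5,nat_lit 2,nat_lit 4,nat_lit 6], [nat_lit 5,nat_lit 1,nat_lit 1,nat_lit 6,nat_lit 2,nat_lit 6,nat_lit 1,nat_lit 1,nat_lit 5,nat_lit 8]),
  (nat_lit 37886963, nat_lit 1, [nat_lit 1,nat_lit 5,nat_lit 1,nat_lit 4,nat_lit 6], [nat_lit 3,nat_lit 5,nat_lit 2,nat_lit 6,nat_lit 2,nat_lit 2,nat_lit 6,nat_lit 2,nat_lit 4,nat_lit 5,nat_lit 8]),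
  (nat_lit 37895152, nat_lit 2, [nat_lit 1,nat_lit 5,nat_lit 1,nat_lit 4,nat_lit 6], [nat_lit 1,nat_lit 1,nat_lit 5,nat_lit 1,nat_lit 1,nat_lit 5,nat_lit 2,nat_lit 3,nat_lit 6,nat_lit 2,nat_lit 2,nat_lit 8]),
  (nat_lit 37903345, nat_lit 1, [nat_lit 1,nat_lit 5,nat_lit 1,nat_lit 5,nat_lit 1,nat_lit 1], [nat_lit 1,nat_lit 5,nat_lit 1,nat_lit 4,nat_lit 5,nat_lit 1,nat_lit 6,nat_lit 1,nat_lit 1,nat_lit 5,nat_lit 8]),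
  (nat_lit 37911538, nat_lit 2, [nat_lit 1,nat_lit 5,nat_lit 1,nat_lit 5,nat_lit 1,nat_lit 1], [nat_lit 5,nat_lit 2,nat_lit 3,nat_lit 5,nat_lit 1,nat_lit 3,nat_lit 5,nat_lit 1,nat_lit 6,nat_lit 8]),
  (nat_lit 38837329, nat_lit 1, [nat_lit 5,nat_lit 2,nat_lit 2,nat_lit 6,nat_lit 1,nat_lit 6], [nat_lit 2,nat_lit 5,nat_lit 2,nat_lit 5,nat_lit 1,nat_lit 6,nat_lit 2,nat_lit 4,nat_lit 6,nat_lit 8,nat_lit 7]),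
  (nat_lit 38845522, nat_lit 2, [nat_lit 5,nat_lit 2,nat_lit 2,nat_lit 6,nat_lit 1,nat_lit 6], [nat_lit 1,nat_lit 4,nat_lit 5,nat_lit 1,nat_lit 5,nat_lit 2,nat_lit 6,nat_lit 1,nat_lit 3,nat_lit 6,nat_lit 1,nat_lit 8]),
  (nat_lit 38853715, nat_lit 1, [nat_lit 1,nat_lit 1,nat_lit 5,nat_lit 2,nat_lit 3,nat_lit 6], [nat_lit 2,nat_lit 5,nat_lit 2,nat_lit 5,nat_lit 1,nat_lit 6,nat_lit 2,nat_lit 4,nat_lit 6,nat_lit 7,nat_lit 8]),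
  (nat_lit 38861904, nat_lit 2, [nat_lit 1,nat_lit 1,nat_lit 5,nat_lit 2,nat_lit 3,nat_lit 6], [nat_lit 2,nat_lit 5,nat_lit 2,nat_lit 5,nat_lit 1,nat_lit 6,nat_lit 2,nat_lit 4,nat_lit 6,nat_lit 8]),
  (nat_lit 42766080, nat_lit 1, [nat_lit 1,nat_lit 1], [nat_lit 1,nat_lit 1,nat_lit 1,nat_lit 8]),
  (nat_lit 42774273, nat_lit 2, [nat_lit 1,nat_lit 1], [nat_lit 1,nat_lit 1,nat_lit 1,nat_lit 8,nat_lit 7]),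
  (nat_lit 42782466, nat_lit 1, [nat_lit 5,nat_lit 1,nat_lit 6,nat_lit 1,nat_lit 6,nat_lit 2], [nat_lit 1,nat_lit 1,nat_lit 1,nat_lit 7,nat_lit 7,nat_lit 8]),
  (nat_lit 42790659, nat_lit 2, [nat_lit 5,nat_lit 1,nat_lit 6,nat_lit 1,nat_lit 6,nat_lit 2], [nat_lit 1,nat_lit 1,nat_lit 1,nat_lit 7,nat_lit 8]),
  (nat_lit 42897580, nat_lit 1, [nat_lit 5,nat_lit 2,nat_lit 5], [nat_lit 6,nat_lit 1,nat_lit 5,nat_lit 1,nat_lit 6,nat_lit 8]),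
  (nat_lit 42905773, nat_lit 2, [nat_lit 5,nat_lit 2,nat_lit 5], [nat_lit 6,nat_lit 1,nat_lit 5,nat_lit 1,nat_lit 6,nat_lit 8,nat_lit 7]),
  (nat_lit 42913966, nat_lit 1, [nat_lit 1,nat_lit 3,nat_lit 5,nat_lit 1,nat_lit 6], [nat_lit 5,nat_lit 2,nat_lit 6,nat_lit 2,nat_lit 6,nat_lit 2,nat_lit 5,nat_lit 8]),
  (nat_lit 42922159, nat_lit 2, [nat_lit 1,nat_lit 3,nat_lit 5,nat_lit 1,nat_lit 6], [nat_lit 6,nat_lit 1,nat_lit 5,nat_lit 1,nat_lit 6,nat_lit 7,nat_lit 8]),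
  (nat_lit 43227194, nat_lit 2, [nat_lit 2,nat_lit 6,nat_lit 1,nat_lit 6,nat_lit 2,nat_lit 2], [nat_lit 6,nat_lit 1,nat_lit 4,nat_lit 5,nat_lit 1,nat_lit 5,nat_lit 1,nat_lit 6,nat_lit 2,nat_lit 6,nat_lit 8]),
  (nat_lit 43235387, nat_lit 1, [nat_lit 1,nat_lit 6,nat_lit 2,nat_lit 6,nat_lit 2], [nat_lit 1,nat_lit 4,nat_lit 6,nat_lit 1,nat_lit 5,nat_lit 1,nat_lit 1,nat_lit 6,nat_lit 2,nat_lit 5,nat_lit 8]),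
  (nat_lit 43243576, nat_lit 2, [nat_lit 1,nat_lit 6,nat_lit 2,nat_lit 6,nat_lit 2], [nat_lit 2,nat_lit 3,nat_lit 2,nat_lit 6,nat_lit 1,nat_lit 5,nat_lit 2,nat_lit 4,nat_lit 6,nat_lit 2,nat_lit 8]),
  (nat_lit 43251769, nat_lit 1, [nat_lit 2,nat_lit 6,nat_lit 1,nat_lit 6,nat_lit 2,nat_lit 2], [nat_lit 1,nat_lit 1,nat_lit 5,nat_lit 1,nat_lit 6,nat_lit 2,nat_lit 6,nat_lit 1,nat_lit 1,nat_lit 6,nat_lit 8]),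
  (nat_lit 43456553, nat_lit 1, [nat_lit 1,nat_lit 6,nat_lit 1,nat_lit 4,nat_lit 6,nat_lit 1,nat_lit 5], [nat_lit 3,nat_lit 5,nat_lit 1,nat_lit 1,nat_lit 6,nat_lit 2,nat_lit 5,nat_lit 2,nat_lit 6,nat_lit 8,nat_lit 7]),
  (nat_lit 43464746, nat_lit 2, [nat_lit 1,nat_lit 6,nat_lit 1,nat_lit 4,nat_lit 6,nat_lit 1,nat_lit 5], [nat_lit 3,nat_lit 5,nat_lit 1,nat_lit 1,nat_lit 5,nat_lit 1,nat_lit 6,nat_lit 1,nat_lit 6,nat_lit 1,nat_lit 5,nat_lit 8]),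
  (nat_lit 43472939, nat_lit 1, [nat_lit 2,nat_lit 5,nat_lit 2,nat_lit 5,nat_lit 1,nat_lit 1], [nat_lit 3,nat_lit 5,nat_lit 1,nat_lit 1,nat_lit 6,nat_lit 2,nat_lit 5,nat_lit 2,nat_lit 6,nat_lit 7,nat_lit 8]),
  (nat_lit 43481128, nat_lit 2, [nat_lit 2,nat_lit 5,nat_lit 2,nat_lit 5,nat_lit 1,nat_lit 1], [nat_lit 3,nat_lit 5,nat_lit 1,nat_lit 1,nat_lit 6,nat_lit 2,nat_lit 5,nat_lit 2,nat_lit 6,nat_lit 8]),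
  (nat_lit 45423964, nat_lit 2, [nat_lit 1,nat_lit 5,nat_lit 1,nat_lit 6,nat_lit 1,nat_lit 1,nat_lit 6], [nat_lit 1,nat_lit 1,nat_lit 1,nat_lit 5,nat_lit 1,nat_lit 5,nat_lit 2,nat_lit 6,nat_lit 1,nat_lit 3,nat_lit 6,nat_lit 8]),
  (nat_lit 45432157, nat_lit 1, [nat_lit 1,nat_lit 1,nat_lit 5,nat_lit 2,nat_lit 6,nat_lit 1,nat_lit 4], [nat_lit 1,nat_lit 5,nat_lit 2,nat_lit 6,nat_lit 1,nat_lit 6,nat_lit 2,nat_lit 6,nat_lit 1,nat_lit 5,nat_lit 8]),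
  (nat_lit 45440350, nat_lit 2, [nat_lit 1,nat_lit 1,nat_lit 5,nat_lit 2,nat_lit 6,nat_lit 1,nat_lit 4], [nat_lit 1,nat_lit 4,nat_lit 5,nat_lit 2,nat_lit 5,nat_lit 1,nat_lit 6,nat_lit 2,nat_lit 6,nat_lit 2,nat_lit 2,nat_lit 8]),
  (nat_lit 45448543, nat_lit 1, [nat_lit 1,nat_lit 5,nat_lit 1,nat_lit 6,nat_lit 1,nat_lit 1,nat_lit 6], [nat_lit 1,nat_lit 1,nat_lit 1,nat_lit 5,nat_lit 1,nat_lit 5,nat_lit 2,nat_lit 6,nat_lit 1,nat_lit 3,nat_lit 6,nat_lit 7,nat_lit 8]),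
  (nat_lit 46897769, nat_lit 1, [nat_lit 2,nat_lit 5,nat_lit 1,nat_lit 5,nat_lit 2,nat_lit 2], [nat_lit 1,nat_lit 1,nat_lit 6,nat_lit 1,nat_lit 5,nat_lit 2,nat_lit 5,nat_lit 1,nat_lit 1,nat_lit 5,nat_lit 8]),
  (nat_lit 46905962, nat_lit 2, [nat_lit 2,nat_lit 5,nat_lit 1,nat_lit 5,nat_lit 2,nat_lit 2], [nat_lit 5,nat_lit 1,nat_lit 4,nat_lit 6,nat_lit 1,nat_lit 6,nat_lit 1,nat_lit 5,nat_lit 2,nat_lit 5,nat_lit 8]),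
  (nat_lit 46914155, nat_lit 1, [nat_lit 1,nat_lit 5,nat_lit 2,nat_lit 5,nat_lit 2], [nat_lit 1,nat_lit 4,nat_lit 5,nat_lit 1,nat_lit 6,nat_lit 1,nat_lit 1,nat_lit 5,nat_lit 2,nat_lit 6,nat_lit 8]),
  (nat_lit 46922344, nat_lit 2, [nat_lit 1,nat_lit 5,nat_lit 2,nat_lit 5,nat_lit 2], [nat_lit 2,nat_lit 3,nat_lit 2,nat_lit 5,nat_lit 1,nat_lit 6,nat_lit 2,nat_lit 4,nat_lit 5,nat_lit 2,nat_lit 8]),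
  (nat_lit 50502226, nat_lit 2, [nat_lit 1,nat_lit 5,nat_lit 1,nat_lit 4,nat_lit 5,nat_lit 1,nat_lit 6], [nat_lit 3,nat_lit 6,nat_lit 1,nat_lit 1,nat_lit 5,nat_lit 2,nat_lit 6,nat_lit 2,nat_lit 5,nat_lit 7,nat_lit 7,nat_lit 8]),
  (nat_lit 50510419, nat_lit 1, [nat_lit 2,nat_lit 6,nat_lit 2,nat_lit 6,nat_lit 1,nat_lit 1], [nat_lit 3,nat_lit 6,nat_lit 1,nat_lit 1,nat_lit 5,nat_lit 2,nat_lit 6,nat_lit 2,nat_lit 5,nat_lit 7,nat_lit 8]),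
  (nat_lit 50518608, nat_lit 2, [nat_lit 2,nat_lit 6,nat_lit 2,nat_lit 6,nat_lit 1,nat_lit 1], [nat_lit 3,nat_lit 6,nat_lit 1,nat_lit 1,nat_lit 5,nat_lit 2,nat_lit 6,nat_lit 2,nat_lit 5,nat_lit 8]),
  (nat_lit 50526801, nat_lit 1, [nat_lit 1,nat_lit 5,nat_lit 1,nat_lit 4,nat_lit 5,nat_lit 1,nat_lit 6], [nat_lit 3,nat_lit 6,nat_lit 1,nat_lit 1,nat_lit 5,nat_lit 2,nat_lit 6,nat_lit 2,nat_lit 5,nat_lit 8,nat_lit 7]),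
  (nat_lit 58527935, nat_lit 2, [nat_lit 6,nat_lit 2,nat_lit 2,nat_lit 5,nat_lit 2], [nat_lit 2,nat_lit 5,nat_lit 2,nat_lit 2,nat_lit 5,nat_lit 2,nat_lit 7,nat_lit 8]),
  (nat_lit 58536124, nat_lit 1, [nat_lit 1,nat_lit 6,nat_lit 1], [nat_lit 2,nat_lit 5,nat_lit 2,nat_lit 2,nat_lit 5,nat_lit 2,nat_lit 8]),
  (nat_lit 58544317, nat_lit 2, [nat_lit 1,nat_lit 6,nat_lit 1], [nat_lit 2,nat_lit 5,nat_lit 2,nat_lit 2,nat_lit 5,nat_lit 2,nat_lit 8,nat_lit 7]),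
  (nat_lit 58552510, nat_lit 1, [nat_lit 6,nat_lit 2,nat_lit 2,nat_lit 5,nat_lit 2], [nat_lit 2,nat_lit 5,nat_lit 2,nat_lit 2,nat_lit 5,nat_lit 2,nat_lit 7,nat_lit 7,nat_lit 8]),
  (nat_lit 60723912, nat_lit 1, [nat_lit 2,nat_lit 2,nat_lit 5,nat_lit 2,nat_lit 3], [nat_lit 2,nat_lit 3,nat_lit 2,nat_lit 6,nat_lit 1,nat_lit 3,nat_lit 6,nat_lit 1,nat_lit 3,nat_lit 8]),
  (nat_lit 60732105, nat_lit 2, [nat_lit 2,nat_lit 2,nat_lit 5,nat_lit 2,nat_lit 3], [nat_lit 4,nat_lit 2,nat_lit 5,nat_lit 2,nat_lit 4,nat_lit 5,nat_lit 2,nat_lit 5,nat_lit 8]),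
  (nat_lit 60740298, nat_lit 1, [nat_lit 5,nat_lit 1,nat_lit 6,nat_lit 2,nat_lit 4], [nat_lit 3,nat_lit 1,nat_lit 5,nat_lit 2,nat_lit 5,nat_lit 2,nat_lit 5,nat_lit 1,nat_lit 4,nat_lit 8]),
  (nat_lit 60748491, nat_lit 2, [nat_lit 5,nat_lit 1,nat_lit 6,nat_lit 2,nat_lit 4], [nat_lit 4,nat_lit 6,nat_lit 1,nat_lit 6,nat_lit 1,nat_lit 4,nat_lit 6,nat_lit 1,nat_lit 5,nat_lit 8]),
  (nat_lit 26428953, nat_lit 0, [nat_lit 2,nat_lit 5,nat_lit 1,nat_lit 4,nat_lit 5,nat_lit 1], [nat_lit 2,nat_lit 6,nat_lit 2,nat_lit 6,nat_lit 2,nat_lit 4,nat_lit 5,nat_lit 1,nat_lit 3,nat_lit 5]),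
  (nat_lit 26412571, nat_lit 0, [nat_lit 5], [nat_lit 4,nat_lit 6,nat_lit 2,nat_lit 3,nat_lit 5,nat_lit 2,nat_lit 6,nat_lit 2,nat_lit 6]),
  (nat_lit 6679804, nat_lit 0, [nat_lit 4,nat_lit 2,nat_lit 6,nat_lit 1,nat_lit 3], [nat_lit 2,nat_lit 3,nat_lit 5,nat_lit 1,nat_lit 5,nat_lit 1,nat_lit 1,nat_lit 6,nat_lit 2,nat_lit 4]),
  (nat_lit 6663422, nat_lit 0, [nat_lit 1,nat_lit 1,nat_lit 6,nat_lit 2,nat_lit 5], [nat_lit 1,nat_lit 1,nat_lit 6,nat_lit 1,nat_lit 5,nat_lit 1,nat_lit 1,nat_lit 5,nat_lit 1,nat_lit 4,nat_lit 7]),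
  (nat_lit 13428997, nat_lit 0, [nat_lit 4,nat_lit 1,nat_lit 6,nat_lit 1], [nat_lit 1,nat_lit 1,nat_lit 5,nat_lit 2,nat_lit 5,nat_lit 1,nat_lit 6,nat_lit 2,nat_lit 6,nat_lit 7]),
  (nat_lit 13412615, nat_lit 0, [nat_lit 5,nat_lit 2,nat_lit 6,nat_lit 1,nat_lit 1], [nat_lit 5,nat_lit 1,nat_lit 5,nat_lit 2,nat_lit 6,nat_lit 1,nat_lit 6,nat_lit 2,nat_lit 2,nat_lit 7]),
  (nat_lit 11241044, nat_lit 0, [nat_lit 4,nat_lit 6,nat_lit 1], [nat_lit 1,nat_lit 5,nat_lit 1,nat_lit 1,nat_lit 6,nat_lit 1,nat_lit 6,nat_lit 1]),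
  (nat_lit 11257430, nat_lit 0, [nat_lit 2,nat_lit 5,nat_lit 1,nat_lit 6], [nat_lit 1,nat_lit 5,nat_lit 1,nat_lit 5,nat_lit 2,nat_lit 5,nat_lit 2,nat_lit 5]),
  (nat_lit 4049286, nat_lit 0, [nat_lit 1,nat_lit 5,nat_lit 2,nat_lit 6,nat_lit 2,nat_lit 2,nat_lit 6], [nat_lit 1,nat_lit 5,nat_lit 2,nat_lit 2,nat_lit 5,nat_lit 2,nat_lit 6,nat_lit 2,nat_lit 4,nat_lit 6]),
  (nat_lit 4032900, nat_lit 0, [nat_lit 3,nat_lit 2], [nat_lit 1,nat_lit 4,nat_lit 6,nat_lit 1,nat_lit 5,nat_lit 1,nat_lit 3,nat_lit 6,nat_lit 1]),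
  (nat_lit 14544483, nat_lit 0, [nat_lit 5,nat_lit 2,nat_lit 6,nat_lit 1], [nat_lit 3,nat_lit 5,nat_lit 1,nat_lit 5,nat_lit 2,nat_lit 6,nat_lit 1,nat_lit 3,nat_lit 6,nat_lit 1,nat_lit 7]),
  (nat_lit 14528097, nat_lit 0, [nat_lit 4,nat_lit 1,nat_lit 6], [nat_lit 1,nat_lit 4,nat_lit 5,nat_lit 2,nat_lit 6,nat_lit 2,nat_lit 6,nat_lit 1,nat_lit 6,nat_lit 1,nat_lit 5]),
  (nat_lit 1754914, nat_lit 0, [nat_lit 3,nat_lit 2,nat_lit 5,nat_lit 2,nat_lit 6,nat_lit 2,nat_lit 5], [nat_lit 2,nat_lit 5,nat_lit 1,nat_lit 5,nat_lit 2,nat_lit 5,nat_lit 1,nat_lit 5,nat_lit 7,nat_lit 7]),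
  (nat_lit 1738528, nat_lit 0, [nat_lit 2,nat_lit 3], [nat_lit 2,nat_lit 5,nat_lit 1,nat_lit 5,nat_lit 2,nat_lit 5,nat_lit 1,nat_lit 5]),
  (nat_lit 10200275, nat_lit 0, [nat_lit 1,nat_lit 3,nat_lit 1,nat_lit 6,nat_lit 1], [nat_lit 6,nat_lit 2,nat_lit 2,nat_lit 6,nat_lit 2,nat_lit 3,nat_lit 5,nat_lit 2,nat_lit 2,nat_lit 7]),
  (nat_lit 10216657, nat_lit 0, [nat_lit 1,nat_lit 4,nat_lit 6,nat_lit 2,nat_lit 3,nat_lit 5], [nat_lit 1,nat_lit 1,nat_lit 4,nat_lit 6,nat_lit 1,nat_lit 5,nat_lit 1,nat_lit 1,nat_lit 5,nat_lit 7]),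
  (nat_lit 22170957, nat_lit 0, [nat_lit 4,nat_lit 6,nat_lit 1,nat_lit 5,nat_lit 2,nat_lit 3], [nat_lit 1,nat_lit 1,nat_lit 5,nat_lit 1,nat_lit 5,nat_lit 2,nat_lit 6,nat_lit 1,nat_lit 3,nat_lit 6,nat_lit 7]),
  (nat_lit 22154575, nat_lit 0, [nat_lit 2,nat_lit 3,nat_lit 5], [nat_lit 5,nat_lit 2,nat_lit 6,nat_lit 1,nat_lit 6,nat_lit 2,nat_lit 6,nat_lit 1,nat_lit 5]),
  (nat_lit 11961147, nat_lit 0, [nat_lit 2,nat_lit 2,nat_lit 5,nat_lit 1,nat_lit 6], [nat_lit 5,nat_lit 2,nat_lit 2,nat_lit 5,nat_lit 2,nat_lit 3,nat_lit 6,nat_lit 2,nat_lit 2,nat_lit 7]),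
  (nat_lit 11977529, nat_lit 0, [nat_lit 5,nat_lit 1,nat_lit 3,nat_lit 5,nat_lit 2,nat_lit 5], [nat_lit 1,nat_lit 1,nat_lit 4,nat_lit 5,nat_lit 1,nat_lit 6,nat_lit 1,nat_lit 1,nat_lit 6,nat_lit 7]),
  (nat_lit 22808130, nat_lit 0, [nat_lit 2,nat_lit 5,nat_lit 1,nat_lit 6,nat_lit 2,nat_lit 3], [nat_lit 1,nat_lit 5,nat_lit 1,nat_lit 4,nat_lit 6,nat_lit 1,nat_lit 3,nat_lit 6,nat_lit 7,nat_lit 7]),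
  (nat_lit 22824512, nat_lit 0, [nat_lit 6], [nat_lit 1,nat_lit 5,nat_lit 1,nat_lit 4,nat_lit 6,nat_lit 1,nat_lit 3,nat_lit 6]),
  (nat_lit 10578318, nat_lit 0, [nat_lit 5,nat_lit 2,nat_lit 6,nat_lit 1,nat_lit 5], [nat_lit 1,nat_lit 1,nat_lit 5,nat_lit 1,nat_lit 5,nat_lit 1,nat_lit 3,nat_lit 6,nat_lit 1,nat_lit 6,nat_lit 1]),
  (nat_lit 10561932, nat_lit 0, [nat_lit 4,nat_lit 1], [nat_lit 2,nat_lit 3,nat_lit 6,nat_lit 1,nat_lit 5,nat_lit 1,nat_lit 6,nat_lit 1,nat_lit 4]),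
  (nat_lit 25414999, nat_lit 0, [nat_lit 2,nat_lit 5,nat_lit 2,nat_lit 3], [nat_lit 1,nat_lit 5,nat_lit 1,nat_lit 1,nat_lit 6,nat_lit 2,nat_lit 6,nat_lit 1,nat_lit 1,nat_lit 5,nat_lit 1]),
  (nat_lit 25398613, nat_lit 0, [nat_lit 1,nat_lit 3,nat_lit 5,nat_lit 1,nat_lit 6], [nat_lit 2,nat_lit 5,nat_lit 1,nat_lit 5,nat_lit 2,nat_lit 6,nat_lit 1,nat_lit 6,nat_lit 2,nat_lit 3,nat_lit 7]),
  (nat_lit 19237318, nat_lit 0, [nat_lit 2,nat_lit 5,nat_lit 1,nat_lit 5], [nat_lit 1,nat_lit 6,nat_lit 1,nat_lit 6,nat_lit 2,nat_lit 6,nat_lit 2,nat_lit 6]),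
  (nat_lit 19253700, nat_lit 0, [nat_lit 5,nat_lit 2,nat_lit 3], [nat_lit 1,nat_lit 6,nat_lit 1,nat_lit 1,nat_lit 5,nat_lit 1,nat_lit 5,nat_lit 1]),
  (nat_lit 14280359, nat_lit 0, [nat_lit 1,nat_lit 1,nat_lit 5,nat_lit 2,nat_lit 6], [nat_lit 1,nat_lit 1,nat_lit 6,nat_lit 2,nat_lit 4,nat_lit 5,nat_lit 2,nat_lit 5,nat_lit 1,nat_lit 3]),
  (nat_lit 14263973, nat_lit 0, [nat_lit 5,nat_lit 1,nat_lit 5,nat_lit 2,nat_lit 5], [nat_lit 2,nat_lit 5,nat_lit 1,nat_lit 4,nat_lit 6,nat_lit 1,nat_lit 6,nat_lit 2,nat_lit 3,nat_lit 6]),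
  (nat_lit 2361752, nat_lit 0, [nat_lit 1,nat_lit 4], [nat_lit 1,nat_lit 1,nat_lit 6,nat_lit 2,nat_lit 5,nat_lit 1,nat_lit 1,nat_lit 5,nat_lit 2,nat_lit 6]),
  (nat_lit 2378138, nat_lit 0, [nat_lit 5,nat_lit 2,nat_lit 6,nat_lit 1,nat_lit 5,nat_lit 1], [nat_lit 1,nat_lit 5,nat_lit 1,nat_lit 5,nat_lit 1,nat_lit 3,nat_lit 6,nat_lit 1,nat_lit 6,nat_lit 1,nat_lit 1])]

def kd10 : KD := ⟨[nat_lit 1,nat_lit 1,nat_lit 1,nat_lit 5,nat_lit 2,nat_lit 6,nat_lit 2,nat_lit 5], [nat_lit 2,nat_lit 5,nat_lit 1,nat_lit 4,nat_lit 5,nat_lit 1,nat_lit 6], LC2, LD10, [[nat_lit 1,nat_lit 1,nat_lit 1,nat_lit 5,nat_lit 2,nat_lit 6,nat_lit 2,nat_lit 5],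
  [nat_lit 8],
  [nat_lit 8,nat_lit 7]], E10,
  [([], []), ([nat_lit 3], [nat_lit 1,nat_lit 3,nat_lit 5,nat_lit 1,nat_lit 5,nat_lit 1,nat_lit 6,nat_lit 7]), ([nat_lit 3], [nat_lit 1,nat_lit 3,nat_lit 5,nat_lit 1,nat_lit 5,nat_lit 1,nat_lit 6,nat_lit 7])]⟩

theorem ext10 : extChk iB th10 6 2 3 0 = true := by decide +kernel

theorem c1_10 : kd10.chk1 (iB th10) = true := by decide +kernel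

theorem c2_10 : kd10.chk2 (iB th10) = true := by decide +kernel

theorem c3_10 : kd10.chk3 (iB th10) = true := by decide +kernel

theorem kl_10 : kd10.kill (iB th10) kd10.y [7, 7] = true := by decide +kernel

theorem no10 {G : Type*} [Group G] [Finite G] [IsSimpleGroup G] {K : Subgroup G} {t u X W Y h : G}
    (hc : Cand K t u X W Y h 2 6 2 3 0) : False := by
  have S := hc.sit famB ext10 (by simp)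
  have E := S.enum c1_10
  obtain ⟨g, e1, e2⟩ := S.fuse E (S.cls E c2_10) c3_10 hc.hK
  exact S.kill E e1 e2 (Or.inr ⟨rfl, rfl⟩) kl_10

end Cfsg.ON
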