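import Cfsg.Agent.ON.K

/-! Data and checks for one of the candidates. -/

set_option autoImplicit false
set_option maxRecDepth 100000
set_option Elab.async false

namespace Cfsg.ON

open Cfsg.H6

def LC6 : List (List ℕ) := [[nat_lit 1,nat_lit 1,nat_lit 5,nat_lit 1,nat_lit 4,nat_lit 5],
  [nat_lit 3,nat_lit 2,nat_lit 6,nat_lit 2,nat_lit 5],
  [nat_lit 1,nat_lit 3,nat_lit 1,nat_lit 5,nat_lit 1,nat_lit 6],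
  [nat_lit 5,nat_lit 1,nat_lit 4,nat_lit 5,nat_lit 2],
  [nat_lit 1,nat_lit 3,nat_lit 1,nat_lit 6,nat_lit 1],
  [nat_lit 4,nat_lit 2,nat_lit 5,nat_lit 2,nat_lit 5,nat_lit 2],
  [nat_lit 2,nat_lit 2,nat_lit 5,nat_lit 2,nat_lit 4,nat_lit 6],
  [nat_lit 3,nat_lit 1,nat_lit 6,nat_lit 1,nat_lit 6],
  [nat_lit 4,nat_lit 2,nat_lit 6,nat_lit 2],
  [nat_lit 1,nat_lit 5,nat_lit 2,nat_lit 6,nat_lit 2,nat_lit 5,nat_lit 2],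
  [nat_lit 5,nat_lit 1,nat_lit 5,nat_lit 2],
  [nat_lit 1,nat_lit 6,nat_lit 1,nat_lit 1,nat_lit 6,nat_lit 1],
  [nat_lit 2,nat_lit 3,nat_lit 2,nat_lit 5,nat_lit 2,nat_lit 3],
  [nat_lit 1,nat_lit 4,nat_lit 5,nat_lit 1,nat_lit 6],
  [nat_lit 1,nat_lit 4,nat_lit 6,nat_lit 2],
  [nat_lit 2,nat_lit 6,nat_lit 1,nat_lit 4],
  [nat_lit 1,nat_lit 3],
  [nat_lit 2,nat_lit 6,nat_lit 2,nat_lit 5,nat_lit 2,nat_lit 2],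
  [nat_lit 1,nat_lit 3,nat_lit 5,nat_lit 2,nat_lit 3,nat_lit 5],
  [nat_lit 5,nat_lit 1,nat_lit 6,nat_lit 1,nat_lit 6,nat_lit 2],
  [nat_lit 5,nat_lit 2,nat_lit 4,nat_lit 6],
  [nat_lit 2,nat_lit 2,nat_lit 2,nat_lit 5,nat_lit 1,nat_lit 1],
  [nat_lit 5,nat_lit 2,nat_lit 4,nat_lit 5,nat_lit 2],
  [nat_lit 1,nat_lit 1,nat_lit 1,nat_lit 5,nat_lit 2,nat_lit 5],
  [nat_lit 4,nat_lit 2,nat_lit 6,nat_lit 2,nat_lit 6],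
  [nat_lit 2,nat_lit 4,nat_lit 5,nat_lit 2,nat_lit 5,nat_lit 1],
  [nat_lit 4,nat_lit 1,nat_lit 5,nat_lit 1,nat_lit 1],
  [nat_lit 1,nat_lit 4,nat_lit 5,nat_lit 1,nat_lit 6,nat_lit 2],
  [nat_lit 4,nat_lit 5,nat_lit 1,nat_lit 3,nat_lit 6],
  [nat_lit 1,nat_lit 5,nat_lit 1,nat_lit 1],
  [nat_lit 5,nat_lit 2,nat_lit 6,nat_lit 1,nat_lit 3],
  [nat_lit 4,nat_lit 1,nat_lit 5,nat_lit 1],
  [nat_lit 3,nat_lit 5,nat_lit 2,nat_lit 6],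
  [nat_lit 1,nat_lit 1,nat_lit 6,nat_lit 1,nat_lit 4],
  [nat_lit 5,nat_lit 1,nat_lit 3,nat_lit 5],
  [nat_lit 1,nat_lit 3,nat_lit 6,nat_lit 1,nat_lit 6,nat_lit 1],
  [nat_lit 5,nat_lit 1,nat_lit 1,nat_lit 6],
  [nat_lit 2,nat_lit 2,nat_lit 6,nat_lit 2,nat_lit 3],
  [nat_lit 1,nat_lit 5,nat_lit 2,nat_lit 3,nat_lit 5],
  [nat_lit 3,nat_lit 6,nat_lit 2,nat_lit 2,nat_lit 6,nat_lit 1],
  [nat_lit 5,nat_lit 2,nat_lit 6,nat_lit 2,nat_lit 4],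
  [nat_lit 2,nat_lit 2,nat_lit 2,nat_lit 5],
  [nat_lit 2,nat_lit 2,nat_lit 5,nat_lit 1,nat_lit 5,nat_lit 2],
  [nat_lit 6,nat_lit 2,nat_lit 3,nat_lit 6],
  [nat_lit 1,nat_lit 6,nat_lit 1,nat_lit 5,nat_lit 1],
  [nat_lit 2,nat_lit 4,nat_lit 6],
  [nat_lit 6,nat_lit 1,nat_lit 6],
  [nat_lit 3,nat_lit 1,nat_lit 6,nat_lit 2,nat_lit 5],
  [nat_lit 2,nat_lit 2,nat_lit 6,nat_lit 1,nat_lit 1],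
  [nat_lit 3,nat_lit 1,nat_lit 5,nat_lit 1],
  [nat_lit 1,nat_lit 6,nat_lit 1,nat_lit 4,nat_lit 6],
  [nat_lit 6,nat_lit 1,nat_lit 1],
  [nat_lit 4,nat_lit 5,nat_lit 2,nat_lit 3,nat_lit 5],
  [nat_lit 1,nat_lit 5,nat_lit 1],
  [nat_lit 2,nat_lit 2,nat_lit 2],
  [nat_lit 3,nat_lit 1,nat_lit 5,nat_lit 2,nat_lit 5,nat_lit 2],
  [nat_lit 3,nat_lit 5,nat_lit 1],
  [nat_lit 3,nat_lit 2,nat_lit 6,nat_lit 2,nat_lit 3],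
  [nat_lit 1,nat_lit 1,nat_lit 4,nat_lit 6,nat_lit 2],
  [nat_lit 1,nat_lit 3,nat_lit 5,nat_lit 1,nat_lit 5,nat_lit 2],
  [nat_lit 1,nat_lit 1,nat_lit 5,nat_lit 1],
  [nat_lit 2,nat_lit 2,nat_lit 5,nat_lit 1],
  [nat_lit 1,nat_lit 1,nat_lit 6,nat_lit 2,nat_lit 3],
  [nat_lit 1,nat_lit 4,nat_lit 1,nat_lit 5],
  [nat_lit 1,nat_lit 6,nat_lit 1,nat_lit 5,nat_lit 1,nat_lit 6],
  [nat_lit 2,nat_lit 4,nat_lit 5],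
  [nat_lit 1,nat_lit 6,nat_lit 1,nat_lit 6,nat_lit 1],
  [nat_lit 3,nat_lit 6,nat_lit 1,nat_lit 1],
  [nat_lit 1,nat_lit 1,nat_lit 4],
  [nat_lit 2,nat_lit 2,nat_lit 5,nat_lit 1,nat_lit 1,nat_lit 5],
  [nat_lit 1,nat_lit 1,nat_lit 5,nat_lit 2,nat_lit 3],
  [nat_lit 1,nat_lit 4,nat_lit 1,nat_lit 6,nat_lit 1,nat_lit 3],
  [nat_lit 2,nat_lit 2,nat_lit 2,nat_lit 6,nat_lit 2],
  [nat_lit 1,nat_lit 3,nat_lit 6,nat_lit 1,nat_lit 5],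
  [nat_lit 2,nat_lit 6,nat_lit 1,nat_lit 3],
  [nat_lit 1,nat_lit 3,nat_lit 5,nat_lit 2,nat_lit 5],
  [nat_lit 2,nat_lit 6,nat_lit 1,nat_lit 6],
  [nat_lit 1,nat_lit 5,nat_lit 2,nat_lit 2],
  [nat_lit 4,nat_lit 2,nat_lit 6,nat_lit 1,nat_lit 6],
  [nat_lit 4,nat_lit 2,nat_lit 5,nat_lit 2,nat_lit 3],
  [nat_lit 4,nat_lit 1,nat_lit 6,nat_lit 1,nat_lit 6],
  [nat_lit 1,nat_lit 4,nat_lit 5,nat_lit 1,nat_lit 5,nat_lit 2],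
  [nat_lit 1,nat_lit 6,nat_lit 1,nat_lit 1],
  [nat_lit 3,nat_lit 6,nat_lit 1,nat_lit 5,nat_lit 1],
  [nat_lit 4,nat_lit 2,nat_lit 5,nat_lit 2,nat_lit 2],
  [nat_lit 2,nat_lit 4,nat_lit 5,nat_lit 2,nat_lit 6,nat_lit 1],
  [nat_lit 4,nat_lit 6,nat_lit 1,nat_lit 6],
  [nat_lit 5,nat_lit 2,nat_lit 5,nat_lit 2,nat_lit 3],
  [nat_lit 5,nat_lit 2,nat_lit 3,nat_lit 6],
  [nat_lit 1,nat_lit 1,nat_lit 5,nat_lit 1,nat_lit 5,nat_lit 2],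
  [nat_lit 3,nat_lit 1,nat_lit 5,nat_lit 1,nat_lit 1],
  [nat_lit 1,nat_lit 4,nat_lit 1,nat_lit 6,nat_lit 2,nat_lit 3],
  [nat_lit 2,nat_lit 2,nat_lit 5,nat_lit 2,nat_lit 6,nat_lit 1],
  [nat_lit 1,nat_lit 1,nat_lit 1,nat_lit 6,nat_lit 2],
  [nat_lit 5,nat_lit 2,nat_lit 3,nat_lit 5,nat_lit 1],
  [nat_lit 2,nat_lit 3,nat_lit 6,nat_lit 2,nat_lit 6],
  [nat_lit 2,nat_lit 6,nat_lit 2,nat_lit 5,nat_lit 2,nat_lit 4],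
  [nat_lit 1,nat_lit 3,nat_lit 6],
  [nat_lit 2,nat_lit 6,nat_lit 2,nat_lit 2,nat_lit 5],
  [nat_lit 4,nat_lit 2,nat_lit 6,nat_lit 1,nat_lit 1],
  [nat_lit 1,nat_lit 1,nat_lit 5,nat_lit 2],
  [nat_lit 1,nat_lit 4,nat_lit 1,nat_lit 6,nat_lit 1],
  [nat_lit 2,nat_lit 5,nat_lit 1,nat_lit 4],
  [nat_lit 4,nat_lit 5,nat_lit 2,nat_lit 6,nat_lit 2],
  [nat_lit 4,nat_lit 1,nat_lit 5,nat_lit 1,nat_lit 3],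
  [nat_lit 4,nat_lit 1,nat_lit 6,nat_lit 2,nat_lit 6],
  [nat_lit 2,nat_lit 2,nat_lit 5,nat_lit 2,nat_lit 3],
  [nat_lit 1,nat_lit 1,nat_lit 6,nat_lit 1,nat_lit 1],
  [nat_lit 4,nat_lit 2,nat_lit 5,nat_lit 1,nat_lit 3],
  [nat_lit 1,nat_lit 5,nat_lit 2,nat_lit 3,nat_lit 6],
  [nat_lit 1,nat_lit 5,nat_lit 2,nat_lit 6,nat_lit 2,nat_lit 6],
  [nat_lit 4,nat_lit 2],
  [nat_lit 4,nat_lit 1,nat_lit 6,nat_lit 2,nat_lit 3],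
  [nat_lit 1,nat_lit 1,nat_lit 5,nat_lit 1,nat_lit 6,nat_lit 1],
  [nat_lit 1,nat_lit 6,nat_lit 1,nat_lit 3,nat_lit 5,nat_lit 1],
  [nat_lit 2,nat_lit 4,nat_lit 6,nat_lit 1,nat_lit 3],
  [nat_lit 1,nat_lit 6,nat_lit 2,nat_lit 4],
  [nat_lit 2,nat_lit 3,nat_lit 5,nat_lit 1,nat_lit 3,nat_lit 5],
  [nat_lit 1,nat_lit 6,nat_lit 2,nat_lit 6],
  [nat_lit 1,nat_lit 5,nat_lit 2,nat_lit 5,nat_lit 1],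
  [nat_lit 3,nat_lit 1,nat_lit 5,nat_lit 2,nat_lit 5,nat_lit 1],
  [nat_lit 2,nat_lit 5,nat_lit 1,nat_lit 1],
  [nat_lit 4,nat_lit 2,nat_lit 5,nat_lit 1,nat_lit 6,nat_lit 1],
  [nat_lit 2],
  [nat_lit 3,nat_lit 5,nat_lit 1,nat_lit 1,nat_lit 5],
  [nat_lit 2,nat_lit 5,nat_lit 2,nat_lit 3],
  [nat_lit 2,nat_lit 6,nat_lit 1,nat_lit 6,nat_lit 1,nat_lit 1],
  [nat_lit 2,nat_lit 2,nat_lit 6,nat_lit 1],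
  [nat_lit 2,nat_lit 5,nat_lit 1,nat_lit 6,nat_lit 1],
  [nat_lit 1,nat_lit 5],
  [nat_lit 3,nat_lit 1,nat_lit 5],
  [nat_lit 4,nat_lit 1,nat_lit 5],
  [nat_lit 1,nat_lit 6,nat_lit 1,nat_lit 6,nat_lit 2,nat_lit 3],
  [nat_lit 4,nat_lit 6],
  [nat_lit 1,nat_lit 1,nat_lit 5,nat_lit 2,nat_lit 2],
  [nat_lit 1,nat_lit 4,nat_lit 1,nat_lit 6],
  [nat_lit 3,nat_lit 5,nat_lit 2,nat_lit 2,nat_lit 6],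
  [nat_lit 2,nat_lit 3,nat_lit 5,nat_lit 2],
  [nat_lit 2,nat_lit 4,nat_lit 5,nat_lit 2],
  [nat_lit 4,nat_lit 5,nat_lit 1,nat_lit 5,nat_lit 1],
  [nat_lit 1,nat_lit 6,nat_lit 1,nat_lit 3,nat_lit 6,nat_lit 1],
  [nat_lit 6,nat_lit 2,nat_lit 4],
  [nat_lit 3,nat_lit 6,nat_lit 1,nat_lit 5,nat_lit 2],
  [nat_lit 1,nat_lit 6],
  [nat_lit 5,nat_lit 2,nat_lit 6,nat_lit 2,nat_lit 6,nat_lit 1],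
  [nat_lit 2,nat_lit 3],
  [nat_lit 2,nat_lit 6,nat_lit 2,nat_lit 5,nat_lit 2],
  [nat_lit 1,nat_lit 4,nat_lit 6],
  [nat_lit 2,nat_lit 3,nat_lit 5,nat_lit 2,nat_lit 2],
  [nat_lit 1,nat_lit 3,nat_lit 5,nat_lit 2],
  [nat_lit 1,nat_lit 1,nat_lit 6,nat_lit 2,nat_lit 2,nat_lit 6],
  [nat_lit 1,nat_lit 3,nat_lit 1,nat_lit 5,nat_lit 1,nat_lit 5],
  [nat_lit 2,nat_lit 2,nat_lit 5,nat_lit 1,nat_lit 5],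
  [nat_lit 6,nat_lit 1,nat_lit 4],
  [nat_lit 2,nat_lit 6,nat_lit 2,nat_lit 3],
  [nat_lit 3,nat_lit 6,nat_lit 2,nat_lit 3,nat_lit 5],
  [nat_lit 5,nat_lit 1],
  [nat_lit 1,nat_lit 3,nat_lit 1,nat_lit 5,nat_lit 2,nat_lit 5],
  [nat_lit 1,nat_lit 1,nat_lit 1,nat_lit 6],
  [nat_lit 2,nat_lit 3,nat_lit 6,nat_lit 2,nat_lit 5,nat_lit 2],
  [nat_lit 1,nat_lit 6,nat_lit 2,nat_lit 4,nat_lit 6],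
  [nat_lit 2,nat_lit 3,nat_lit 5,nat_lit 1,nat_lit 3],
  [nat_lit 1,nat_lit 1,nat_lit 4,nat_lit 6,nat_lit 1,nat_lit 3],
  [nat_lit 3,nat_lit 2,nat_lit 5,nat_lit 2,nat_lit 2],
  [nat_lit 1,nat_lit 6,nat_lit 2,nat_lit 2],
  [nat_lit 1,nat_lit 1,nat_lit 6,nat_lit 1,nat_lit 3,nat_lit 6],
  [nat_lit 4,nat_lit 5,nat_lit 1],
  [nat_lit 2,nat_lit 5,nat_lit 2,nat_lit 4,nat_lit 6],
  [nat_lit 4,nat_lit 6,nat_lit 2,nat_lit 6],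
  [nat_lit 5,nat_lit 1,nat_lit 5,nat_lit 1,nat_lit 3],
  [nat_lit 1,nat_lit 6,nat_lit 2],
  [nat_lit 2,nat_lit 5,nat_lit 1,nat_lit 1,nat_lit 5],
  [nat_lit 1,nat_lit 6,nat_lit 1,nat_lit 5,nat_lit 1,nat_lit 1],
  [nat_lit 2,nat_lit 4,nat_lit 6,nat_lit 1],
  [nat_lit 4,nat_lit 2,nat_lit 5,nat_lit 2,nat_lit 5],
  [nat_lit 4,nat_lit 2,nat_lit 6,nat_lit 1,nat_lit 4],
  [nat_lit 2,nat_lit 5,nat_lit 1,nat_lit 4,nat_lit 6,nat_lit 2],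
  [nat_lit 1,nat_lit 6,nat_lit 1,nat_lit 1,nat_lit 5],
  [nat_lit 3,nat_lit 1],
  [nat_lit 4,nat_lit 2,nat_lit 6,nat_lit 2,nat_lit 5],
  [nat_lit 4,nat_lit 1,nat_lit 6,nat_lit 2,nat_lit 2],
  [nat_lit 2,nat_lit 2,nat_lit 6,nat_lit 1,nat_lit 6],
  [nat_lit 3,nat_lit 1,nat_lit 6,nat_lit 1,nat_lit 1],
  [nat_lit 4,nat_lit 2,nat_lit 5,nat_lit 2,nat_lit 4],
  [nat_lit 3,nat_lit 6,nat_lit 1],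
  [nat_lit 1,nat_lit 4,nat_lit 1,nat_lit 5,nat_lit 2],
  [nat_lit 5,nat_lit 1,nat_lit 6,nat_lit 2],
  [nat_lit 1,nat_lit 6,nat_lit 1,nat_lit 6],
  [nat_lit 1,nat_lit 1,nat_lit 5,nat_lit 2,nat_lit 2,nat_lit 5],
  [nat_lit 1,nat_lit 4,nat_lit 1],
  [nat_lit 2,nat_lit 2,nat_lit 5,nat_lit 2],
  [nat_lit 3,nat_lit 1,nat_lit 6,nat_lit 1,nat_lit 3],
  [nat_lit 2,nat_lit 6,nat_lit 2,nat_lit 2],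
  [nat_lit 3,nat_lit 6,nat_lit 2,nat_lit 5,nat_lit 2],
  [nat_lit 2,nat_lit 3,nat_lit 6,nat_lit 2,nat_lit 5,nat_lit 1],
  [nat_lit 1,nat_lit 4,nat_lit 6,nat_lit 2,nat_lit 5],
  [nat_lit 2,nat_lit 6,nat_lit 1,nat_lit 5],
  [nat_lit 1,nat_lit 5,nat_lit 2,nat_lit 2,nat_lit 6],
  [nat_lit 1,nat_lit 1,nat_lit 1,nat_lit 5],
  [nat_lit 5,nat_lit 1,nat_lit 6,nat_lit 1,nat_lit 4],
  [nat_lit 4,nat_lit 1,nat_lit 6,nat_lit 1,nat_lit 4],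
  [nat_lit 5,nat_lit 1,nat_lit 4,nat_lit 6,nat_lit 1,nat_lit 6],
  [nat_lit 1,nat_lit 1,nat_lit 4,nat_lit 6,nat_lit 2,nat_lit 3],
  [nat_lit 2,nat_lit 2,nat_lit 5,nat_lit 1,nat_lit 3],
  [nat_lit 4,nat_lit 1,nat_lit 5,nat_lit 2,nat_lit 4,nat_lit 6],
  [nat_lit 2,nat_lit 5,nat_lit 1,nat_lit 4,nat_lit 5],
  [nat_lit 2,nat_lit 6,nat_lit 2,nat_lit 4],
  [nat_lit 6,nat_lit 2,nat_lit 2,nat_lit 5],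
  [nat_lit 4,nat_lit 1,nat_lit 6,nat_lit 1,nat_lit 5],
  [nat_lit 1,nat_lit 5,nat_lit 2,nat_lit 4,nat_lit 6,nat_lit 1],
  [nat_lit 4,nat_lit 1,nat_lit 5,nat_lit 2,nat_lit 3],
  [nat_lit 2,nat_lit 5,nat_lit 1,nat_lit 3,nat_lit 6],
  [nat_lit 6,nat_lit 1,nat_lit 6,nat_lit 2,nat_lit 5],
  [nat_lit 4,nat_lit 6,nat_lit 2,nat_lit 6,nat_lit 1],
  [nat_lit 2,nat_lit 2,nat_lit 2,nat_lit 5,nat_lit 2],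
  [nat_lit 2,nat_lit 2,nat_lit 6,nat_lit 2,nat_lit 2,nat_lit 5],
  [nat_lit 4,nat_lit 2,nat_lit 6,nat_lit 1,nat_lit 3],
  [nat_lit 2,nat_lit 2,nat_lit 5,nat_lit 2,nat_lit 6,nat_lit 2],
  [nat_lit 1,nat_lit 5,nat_lit 2,nat_lit 2,nat_lit 5],
  [nat_lit 2,nat_lit 6,nat_lit 1],
  [nat_lit 5,nat_lit 1,nat_lit 3],
  [nat_lit 1,nat_lit 5,nat_lit 1,nat_lit 3,nat_lit 6,nat_lit 2],
  [nat_lit 1,nat_lit 1,nat_lit 5,nat_lit 1,nat_lit 6,nat_lit 2],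
  [nat_lit 2,nat_lit 2,nat_lit 2,nat_lit 6,nat_lit 1],
  [nat_lit 6,nat_lit 1,nat_lit 6,nat_lit 2],
  [nat_lit 1,nat_lit 6,nat_lit 2,nat_lit 6,nat_lit 1],
  [nat_lit 5,nat_lit 2,nat_lit 3,nat_lit 5],
  [nat_lit 2,nat_lit 3,nat_lit 6,nat_lit 2,nat_lit 6,nat_lit 2],
  [nat_lit 5,nat_lit 2,nat_lit 6,nat_lit 2,nat_lit 6],
  [nat_lit 2,nat_lit 3,nat_lit 2],
  [nat_lit 3,nat_lit 5,nat_lit 2,nat_lit 2,nat_lit 5],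
  [nat_lit 1,nat_lit 5,nat_lit 1,nat_lit 3],
  [nat_lit 2,nat_lit 6,nat_lit 1,nat_lit 6,nat_lit 1],
  [nat_lit 2,nat_lit 5,nat_lit 1,nat_lit 5],
  [nat_lit 3,nat_lit 2,nat_lit 5,nat_lit 1,nat_lit 5],
  [nat_lit 1,nat_lit 5,nat_lit 2],
  [nat_lit 4,nat_lit 1,nat_lit 5,nat_lit 2,nat_lit 6],
  [nat_lit 1,nat_lit 1],
  [nat_lit 1,nat_lit 1,nat_lit 1,nat_lit 5,nat_lit 1,nat_lit 1],
  [nat_lit 6,nat_lit 1,nat_lit 6,nat_lit 2,nat_lit 6],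
  [nat_lit 2,nat_lit 2,nat_lit 5,nat_lit 1,nat_lit 5,nat_lit 1],
  [nat_lit 1,nat_lit 3,nat_lit 5],
  [nat_lit 4,nat_lit 1,nat_lit 6,nat_lit 1],
  [nat_lit 1,nat_lit 4,nat_lit 5,nat_lit 1,nat_lit 5,nat_lit 2,nat_lit 5],
  [nat_lit 1,nat_lit 1,nat_lit 1,nat_lit 5,nat_lit 2,nat_lit 2],
  [nat_lit 5,nat_lit 1,nat_lit 4,nat_lit 6],
  [nat_lit 1,nat_lit 6,nat_lit 1,nat_lit 4,nat_lit 5],
  [nat_lit 6,nat_lit 1,nat_lit 1,nat_lit 6],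
  [nat_lit 4,nat_lit 1,nat_lit 6,nat_lit 2,nat_lit 4],
  [nat_lit 2,nat_lit 2,nat_lit 6,nat_lit 1,nat_lit 1,nat_lit 5],
  [nat_lit 4,nat_lit 5,nat_lit 2,nat_lit 3,nat_lit 6],
  [nat_lit 4,nat_lit 1,nat_lit 5,nat_lit 1,nat_lit 5],
  [nat_lit 1,nat_lit 4,nat_lit 5,nat_lit 2],
  [nat_lit 1,nat_lit 5,nat_lit 1,nat_lit 5],
  [nat_lit 2,nat_lit 2,nat_lit 2,nat_lit 6],
  [nat_lit 1,nat_lit 3,nat_lit 6,nat_lit 1,nat_lit 5,nat_lit 1],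
  [nat_lit 3,nat_lit 1,nat_lit 6],
  [nat_lit 6,nat_lit 1,nat_lit 5,nat_lit 1],
  [nat_lit 3,nat_lit 1,nat_lit 6,nat_lit 2,nat_lit 3],
  [nat_lit 6,nat_lit 1,nat_lit 3,nat_lit 5],
  [nat_lit 1,nat_lit 3,nat_lit 6,nat_lit 1],
  [nat_lit 2,nat_lit 2,nat_lit 2,nat_lit 6,nat_lit 2,nat_lit 6],
  [nat_lit 2,nat_lit 2,nat_lit 6,nat_lit 2,nat_lit 6],
  [nat_lit 2,nat_lit 3,nat_lit 6,nat_lit 1,nat_lit 3],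
  [nat_lit 2,nat_lit 3,nat_lit 6,nat_lit 2,nat_lit 3,nat_lit 6],
  [nat_lit 6,nat_lit 2,nat_lit 5,nat_lit 2],
  [nat_lit 3,nat_lit 2,nat_lit 5,nat_lit 1,nat_lit 1],
  [nat_lit 2,nat_lit 5,nat_lit 1,nat_lit 5,nat_lit 1],
  [nat_lit 3,nat_lit 2,nat_lit 6],
  [nat_lit 1,nat_lit 1,nat_lit 6,nat_lit 1],
  [nat_lit 1,nat_lit 1,nat_lit 6,nat_lit 2,nat_lit 6,nat_lit 1],
  [nat_lit 3],
  [nat_lit 5,nat_lit 1,nat_lit 6,nat_lit 1],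
  [nat_lit 1,nat_lit 3,nat_lit 1,nat_lit 5],
  [nat_lit 4,nat_lit 5,nat_lit 2,nat_lit 6],
  [nat_lit 1,nat_lit 5,nat_lit 1,nat_lit 4,nat_lit 5],
  [nat_lit 4,nat_lit 6,nat_lit 2,nat_lit 3],
  [nat_lit 1,nat_lit 6,nat_lit 1,nat_lit 4,nat_lit 6,nat_lit 1],
  [nat_lit 1,nat_lit 1,nat_lit 5,nat_lit 2,nat_lit 5],
  [nat_lit 2,nat_lit 3,nat_lit 5,nat_lit 1],
  [nat_lit 1,nat_lit 4,nat_lit 5,nat_lit 1],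
  [nat_lit 4,nat_lit 5,nat_lit 2,nat_lit 5,nat_lit 2],
  [nat_lit 4,nat_lit 6,nat_lit 1,nat_lit 3,nat_lit 6],
  [nat_lit 5,nat_lit 2,nat_lit 5,nat_lit 2,nat_lit 4],
  [nat_lit 1,nat_lit 1,nat_lit 4,nat_lit 5,nat_lit 1],
  [nat_lit 3,nat_lit 2,nat_lit 6,nat_lit 2,nat_lit 2],
  [nat_lit 1,nat_lit 4,nat_lit 6,nat_lit 1],
  [nat_lit 2,nat_lit 6,nat_lit 2,nat_lit 5],
  [nat_lit 3,nat_lit 6,nat_lit 2,nat_lit 2,nat_lit 6],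
  [nat_lit 5,nat_lit 1,nat_lit 5,nat_lit 1],
  [nat_lit 1,nat_lit 6,nat_lit 2,nat_lit 6,nat_lit 2,nat_lit 3],
  [nat_lit 2,nat_lit 5,nat_lit 1,nat_lit 3],
  [nat_lit 2,nat_lit 2,nat_lit 6,nat_lit 2],
  [nat_lit 3,nat_lit 1,nat_lit 5,nat_lit 2,nat_lit 2],
  [nat_lit 1,nat_lit 1,nat_lit 6,nat_lit 1,nat_lit 4,nat_lit 5],
  [nat_lit 3,nat_lit 5,nat_lit 2],
  [nat_lit 5,nat_lit 2,nat_lit 4],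
  [nat_lit 1,nat_lit 5,nat_lit 1,nat_lit 4,nat_lit 6,nat_lit 2],
  [nat_lit 4,nat_lit 5,nat_lit 1,nat_lit 6],
  [nat_lit 1,nat_lit 3,nat_lit 5,nat_lit 1,nat_lit 3],
  [nat_lit 3,nat_lit 6,nat_lit 2,nat_lit 3,nat_lit 5,nat_lit 2],
  [nat_lit 2,nat_lit 3,nat_lit 6,nat_lit 1,nat_lit 1],
  [nat_lit 4,nat_lit 1,nat_lit 5,nat_lit 2],
  [nat_lit 2,nat_lit 5,nat_lit 1,nat_lit 6],
  [nat_lit 1,nat_lit 1,nat_lit 6,nat_lit 2,nat_lit 2,nat_lit 5],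
  [nat_lit 2,nat_lit 4,nat_lit 5,nat_lit 1],
  [nat_lit 4,nat_lit 6,nat_lit 2,nat_lit 5,nat_lit 1],
  [nat_lit 4,nat_lit 2,nat_lit 6,nat_lit 2,nat_lit 6,nat_lit 2],
  [nat_lit 2,nat_lit 6,nat_lit 2,nat_lit 6,nat_lit 2],
  [nat_lit 1,nat_lit 1,nat_lit 5,nat_lit 1,nat_lit 4,nat_lit 6,nat_lit 2],
  [nat_lit 2,nat_lit 4,nat_lit 5,nat_lit 2,nat_lit 5],
  [nat_lit 3,nat_lit 6,nat_lit 2,nat_lit 2],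
  [nat_lit 1,nat_lit 3,nat_lit 6,nat_lit 2,nat_lit 3],
  [nat_lit 1,nat_lit 1,nat_lit 6,nat_lit 1,nat_lit 6],
  [nat_lit 5,nat_lit 2,nat_lit 5,nat_lit 1],
  [nat_lit 2,nat_lit 6,nat_lit 2,nat_lit 2,nat_lit 6,nat_lit 2],
  [nat_lit 1,nat_lit 6,nat_lit 2,nat_lit 6,nat_lit 2,nat_lit 2],
  [nat_lit 2,nat_lit 5],
  [nat_lit 3,nat_lit 5,nat_lit 2,nat_lit 2],
  [nat_lit 1,nat_lit 5,nat_lit 1,nat_lit 3,nat_lit 6],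
  [],
  [nat_lit 1,nat_lit 1,nat_lit 6,nat_lit 2,nat_lit 6,nat_lit 1,nat_lit 4],
  [nat_lit 4,nat_lit 1,nat_lit 6,nat_lit 1,nat_lit 3],
  [nat_lit 1,nat_lit 1,nat_lit 5,nat_lit 1,nat_lit 6,nat_lit 1,nat_lit 1],
  [nat_lit 2,nat_lit 6,nat_lit 1,nat_lit 1],
  [nat_lit 1,nat_lit 5,nat_lit 1,nat_lit 6,nat_lit 2,nat_lit 5],
  [nat_lit 1,nat_lit 1,nat_lit 4,nat_lit 6,nat_lit 1],
  [nat_lit 3,nat_lit 5,nat_lit 2,nat_lit 6,nat_lit 2],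
  [nat_lit 1,nat_lit 6,nat_lit 1,nat_lit 6,nat_lit 2],
  [nat_lit 3,nat_lit 6],
  [nat_lit 1,nat_lit 6,nat_lit 1,nat_lit 6,nat_lit 2,nat_lit 4],
  [nat_lit 6],
  [nat_lit 1,nat_lit 5,nat_lit 1,nat_lit 4,nat_lit 6,nat_lit 1],
  [nat_lit 4,nat_lit 5],
  [nat_lit 1,nat_lit 1,nat_lit 6,nat_lit 2,nat_lit 6,nat_lit 1,nat_lit 3],
  [nat_lit 4],
  [nat_lit 3,nat_lit 1,nat_lit 6,nat_lit 1,nat_lit 5],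
  [nat_lit 1,nat_lit 1,nat_lit 1,nat_lit 5,nat_lit 1,nat_lit 3],
  [nat_lit 2,nat_lit 2,nat_lit 5,nat_lit 2,nat_lit 4],
  [nat_lit 3,nat_lit 1,nat_lit 6,nat_lit 1],
  [nat_lit 2,nat_lit 3,nat_lit 2,nat_lit 5,nat_lit 2,nat_lit 6],
  [nat_lit 5,nat_lit 2,nat_lit 4,nat_lit 5,nat_lit 1],
  [nat_lit 5,nat_lit 2,nat_lit 5],
  [nat_lit 2,nat_lit 3,nat_lit 2,nat_lit 5,nat_lit 1,nat_lit 6],
  [nat_lit 5,nat_lit 2,nat_lit 5,nat_lit 2,nat_lit 6],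
  [nat_lit 3,nat_lit 6,nat_lit 1,nat_lit 1,nat_lit 5],
  [nat_lit 5,nat_lit 2,nat_lit 2,nat_lit 6],
  [nat_lit 1,nat_lit 1,nat_lit 6,nat_lit 1,nat_lit 3],
  [nat_lit 4,nat_lit 6,nat_lit 1,nat_lit 6,nat_lit 2],
  [nat_lit 6,nat_lit 2,nat_lit 6,nat_lit 1,nat_lit 5],
  [nat_lit 5,nat_lit 1,nat_lit 6,nat_lit 1,nat_lit 5],
  [nat_lit 1,nat_lit 3,nat_lit 1,nat_lit 6],
  [nat_lit 5,nat_lit 1,nat_lit 5,nat_lit 1,nat_lit 6],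
  [nat_lit 3,nat_lit 6,nat_lit 2,nat_lit 2,nat_lit 5],
  [nat_lit 4,nat_lit 6,nat_lit 1,nat_lit 5,nat_lit 2],
  [nat_lit 1,nat_lit 5,nat_lit 2,nat_lit 6,nat_lit 1],
  [nat_lit 3,nat_lit 2,nat_lit 5,nat_lit 1,nat_lit 5,nat_lit 1],
  [nat_lit 2,nat_lit 2,nat_lit 5,nat_lit 2,nat_lit 4,nat_lit 6,nat_lit 1],
  [nat_lit 2,nat_lit 2,nat_lit 5,nat_lit 2,nat_lit 5],
  [nat_lit 1,nat_lit 1,nat_lit 1],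
  [nat_lit 1,nat_lit 5,nat_lit 2,nat_lit 5,nat_lit 2],
  [nat_lit 1,nat_lit 3,nat_lit 6,nat_lit 1,nat_lit 3,nat_lit 6],
  [nat_lit 3,nat_lit 6,nat_lit 1,nat_lit 3,nat_lit 5,nat_lit 1],
  [nat_lit 1,nat_lit 3,nat_lit 6,nat_lit 2,nat_lit 2],
  [nat_lit 4,nat_lit 5,nat_lit 2],
  [nat_lit 1,nat_lit 5,nat_lit 1,nat_lit 4,nat_lit 6],
  [nat_lit 5,nat_lit 2],
  [nat_lit 2,nat_lit 5,nat_lit 1,nat_lit 6,nat_lit 2],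
  [nat_lit 4,nat_lit 1,nat_lit 6,nat_lit 1,nat_lit 6,nat_lit 1],
  [nat_lit 2,nat_lit 3,nat_lit 2,nat_lit 5,nat_lit 1,nat_lit 5],
  [nat_lit 1,nat_lit 1,nat_lit 5,nat_lit 1,nat_lit 5],
  [nat_lit 1,nat_lit 4,nat_lit 5,nat_lit 1,nat_lit 5],
  [nat_lit 3,nat_lit 5,nat_lit 1,nat_lit 1,nat_lit 6],
  [nat_lit 1,nat_lit 3,nat_lit 5,nat_lit 1],
  [nat_lit 1,nat_lit 3,nat_lit 5,nat_lit 1,nat_lit 1],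
  [nat_lit 2,nat_lit 3,nat_lit 2,nat_lit 5,nat_lit 2,nat_lit 5],
  [nat_lit 3,nat_lit 1,nat_lit 5,nat_lit 2],
  [nat_lit 2,nat_lit 2,nat_lit 6],
  [nat_lit 4,nat_lit 1,nat_lit 5,nat_lit 2,nat_lit 4],
  [nat_lit 2,nat_lit 5,nat_lit 1,nat_lit 4,nat_lit 6],
  [nat_lit 2,nat_lit 2,nat_lit 2,nat_lit 5,nat_lit 2,nat_lit 2],
  [nat_lit 6,nat_lit 2,nat_lit 6,nat_lit 1,nat_lit 6],
  [nat_lit 6,nat_lit 2,nat_lit 2],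
  [nat_lit 2,nat_lit 6,nat_lit 2,nat_lit 4,nat_lit 6],
  [nat_lit 6,nat_lit 1,nat_lit 3,nat_lit 6],
  [nat_lit 1,nat_lit 1,nat_lit 5,nat_lit 2,nat_lit 5,nat_lit 1],
  [nat_lit 3,nat_lit 2,nat_lit 6,nat_lit 1,nat_lit 5],
  [nat_lit 6,nat_lit 2,nat_lit 6],
  [nat_lit 2,nat_lit 5,nat_lit 2],
  [nat_lit 4,nat_lit 5,nat_lit 1,nat_lit 3,nat_lit 5],
  [nat_lit 1,nat_lit 5,nat_lit 2,nat_lit 4],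
  [nat_lit 4,nat_lit 5,nat_lit 1,nat_lit 6,nat_lit 1],
  [nat_lit 5,nat_lit 2,nat_lit 6,nat_lit 1],
  [nat_lit 4,nat_lit 1,nat_lit 5,nat_lit 1,nat_lit 4],
  [nat_lit 1,nat_lit 4,nat_lit 5,nat_lit 1,nat_lit 6,nat_lit 2,nat_lit 6],
  [nat_lit 4,nat_lit 2,nat_lit 6,nat_lit 2,nat_lit 3],
  [nat_lit 1],
  [nat_lit 3,nat_lit 2,nat_lit 5,nat_lit 1,nat_lit 5,nat_lit 2],
  [nat_lit 6,nat_lit 1],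
  [nat_lit 3,nat_lit 1,nat_lit 6,nat_lit 2,nat_lit 6],
  [nat_lit 2,nat_lit 5,nat_lit 1,nat_lit 5,nat_lit 2],
  [nat_lit 4,nat_lit 1,nat_lit 5,nat_lit 2,nat_lit 6,nat_lit 2],
  [nat_lit 4,nat_lit 1],
  [nat_lit 2,nat_lit 5,nat_lit 1,nat_lit 6,nat_lit 1,nat_lit 6],
  [nat_lit 4,nat_lit 6,nat_lit 1],
  [nat_lit 1,nat_lit 6,nat_lit 1,nat_lit 6,nat_lit 1,nat_lit 3],
  [nat_lit 4,nat_lit 2,nat_lit 5,nat_lit 1],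
  [nat_lit 1,nat_lit 5,nat_lit 2,nat_lit 6],
  [nat_lit 1,nat_lit 3,nat_lit 6,nat_lit 2],
  [nat_lit 1,nat_lit 1,nat_lit 6,nat_lit 1,nat_lit 4,nat_lit 6],
  [nat_lit 2,nat_lit 2,nat_lit 6,nat_lit 2,nat_lit 6,nat_lit 2],
  [nat_lit 2,nat_lit 3,nat_lit 6,nat_lit 2,nat_lit 3],
  [nat_lit 3,nat_lit 5,nat_lit 1,nat_lit 6,nat_lit 1],
  [nat_lit 1,nat_lit 4,nat_lit 1,nat_lit 6,nat_lit 2],
  [nat_lit 5,nat_lit 1,nat_lit 4,nat_lit 5],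
  [nat_lit 1,nat_lit 1,nat_lit 1,nat_lit 5,nat_lit 2,nat_lit 2,nat_lit 6],
  [nat_lit 4,nat_lit 5,nat_lit 2,nat_lit 5],
  [nat_lit 1,nat_lit 5,nat_lit 1,nat_lit 4],
  [nat_lit 4,nat_lit 6,nat_lit 1,nat_lit 6,nat_lit 1],
  [nat_lit 5,nat_lit 2,nat_lit 5,nat_lit 1,nat_lit 3],
  [nat_lit 2,nat_lit 4,nat_lit 5,nat_lit 2,nat_lit 6],
  [nat_lit 1,nat_lit 3,nat_lit 1,nat_lit 5,nat_lit 1,nat_lit 3],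
  [nat_lit 1,nat_lit 5,nat_lit 2,nat_lit 5],
  [nat_lit 4,nat_lit 2,nat_lit 5,nat_lit 1,nat_lit 6],
  [nat_lit 2,nat_lit 6,nat_lit 2,nat_lit 2,nat_lit 6],
  [nat_lit 5,nat_lit 2,nat_lit 5,nat_lit 1,nat_lit 1],
  [nat_lit 2,nat_lit 6,nat_lit 1,nat_lit 4,nat_lit 6],
  [nat_lit 1,nat_lit 3,nat_lit 5,nat_lit 2,nat_lit 3],
  [nat_lit 1,nat_lit 3,nat_lit 6,nat_lit 1,nat_lit 6],
  [nat_lit 5,nat_lit 1,nat_lit 3,nat_lit 5,nat_lit 2],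
  [nat_lit 1,nat_lit 1,nat_lit 5,nat_lit 1,nat_lit 4],
  [nat_lit 3,nat_lit 2,nat_lit 6,nat_lit 2],
  [nat_lit 2,nat_lit 2,nat_lit 5],
  [nat_lit 1,nat_lit 1,nat_lit 6,nat_lit 2,nat_lit 4],
  [nat_lit 5,nat_lit 2,nat_lit 5,nat_lit 2],
  [nat_lit 3,nat_lit 6,nat_lit 1,nat_lit 1,nat_lit 6],
  [nat_lit 1,nat_lit 4,nat_lit 1,nat_lit 6,nat_lit 2,nat_lit 6],
  [nat_lit 4,nat_lit 2,nat_lit 6,nat_lit 1],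
  [nat_lit 3,nat_lit 2,nat_lit 6,nat_lit 2,nat_lit 6],
  [nat_lit 1,nat_lit 1,nat_lit 5,nat_lit 1,nat_lit 4,nat_lit 6],
  [nat_lit 2,nat_lit 6,nat_lit 1,nat_lit 6,nat_lit 1,nat_lit 3],
  [nat_lit 1,nat_lit 5,nat_lit 2,nat_lit 3],
  [nat_lit 5,nat_lit 2,nat_lit 3],
  [nat_lit 1,nat_lit 3,nat_lit 5,nat_lit 1,nat_lit 5,nat_lit 1],
  [nat_lit 1,nat_lit 1,nat_lit 4,nat_lit 6],
  [nat_lit 2,nat_lit 2,nat_lit 5,nat_lit 1,nat_lit 1],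
  [nat_lit 1,nat_lit 4,nat_lit 6,nat_lit 1,nat_lit 3],
  [nat_lit 2,nat_lit 6,nat_lit 2,nat_lit 3,nat_lit 5],
  [nat_lit 1,nat_lit 1,nat_lit 6],
  [nat_lit 3,nat_lit 2,nat_lit 5,nat_lit 1],
  [nat_lit 5,nat_lit 1,nat_lit 4,nat_lit 5,nat_lit 1,nat_lit 5],
  [nat_lit 3,nat_lit 6,nat_lit 1,nat_lit 3],
  [nat_lit 3,nat_lit 6,nat_lit 1,nat_lit 1,nat_lit 6,nat_lit 2],
  [nat_lit 4,nat_lit 2,nat_lit 6,nat_lit 2,nat_lit 4],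
  [nat_lit 1,nat_lit 6,nat_lit 1,nat_lit 3,nat_lit 6],
  [nat_lit 2,nat_lit 5,nat_lit 1,nat_lit 3,nat_lit 5],
  [nat_lit 5,nat_lit 1,nat_lit 5,nat_lit 2,nat_lit 3],
  [nat_lit 4,nat_lit 6,nat_lit 2,nat_lit 6,nat_lit 2],
  [nat_lit 4,nat_lit 1,nat_lit 6,nat_lit 2],
  [nat_lit 1,nat_lit 1,nat_lit 4,nat_lit 6,nat_lit 1,nat_lit 6],
  [nat_lit 1,nat_lit 1,nat_lit 5,nat_lit 1,nat_lit 3,nat_lit 6],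
  [nat_lit 2,nat_lit 3,nat_lit 2,nat_lit 6,nat_lit 1],
  [nat_lit 1,nat_lit 6,nat_lit 1,nat_lit 5,nat_lit 1,nat_lit 5],
  [nat_lit 2,nat_lit 4],
  [nat_lit 1,nat_lit 3,nat_lit 6,nat_lit 1,nat_lit 3,nat_lit 5],
  [nat_lit 1,nat_lit 1,nat_lit 1,nat_lit 6,nat_lit 1,nat_lit 6],
  [nat_lit 4,nat_lit 5,nat_lit 1,nat_lit 3],
  [nat_lit 1,nat_lit 5,nat_lit 2,nat_lit 5,nat_lit 2,nat_lit 6],
  [nat_lit 2,nat_lit 3,nat_lit 6,nat_lit 2],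
  [nat_lit 2,nat_lit 5,nat_lit 2,nat_lit 6],
  [nat_lit 1,nat_lit 1,nat_lit 1,nat_lit 5,nat_lit 1],
  [nat_lit 1,nat_lit 1,nat_lit 6,nat_lit 1,nat_lit 1,nat_lit 5],
  [nat_lit 1,nat_lit 6,nat_lit 1,nat_lit 3],
  [nat_lit 3,nat_lit 6,nat_lit 1,nat_lit 3,nat_lit 5],
  [nat_lit 2,nat_lit 2,nat_lit 6,nat_lit 1,nat_lit 3],
  [nat_lit 1,nat_lit 1,nat_lit 4,nat_lit 5],
  [nat_lit 4,nat_lit 1,nat_lit 5,nat_lit 1,nat_lit 1,nat_lit 5],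
  [nat_lit 1,nat_lit 5,nat_lit 2,nat_lit 4,nat_lit 5,nat_lit 1],
  [nat_lit 1,nat_lit 6,nat_lit 2,nat_lit 6,nat_lit 2],
  [nat_lit 2,nat_lit 5,nat_lit 1],
  [nat_lit 1,nat_lit 5,nat_lit 2,nat_lit 4,nat_lit 6],
  [nat_lit 2,nat_lit 6,nat_lit 2,nat_lit 4,nat_lit 5],
  [nat_lit 3,nat_lit 6,nat_lit 2,nat_lit 5,nat_lit 1],
  [nat_lit 4,nat_lit 2,nat_lit 5,nat_lit 1,nat_lit 4],
  [nat_lit 6,nat_lit 2,nat_lit 2,nat_lit 6],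
  [nat_lit 2,nat_lit 6],
  [nat_lit 1,nat_lit 5,nat_lit 2,nat_lit 6,nat_lit 2,nat_lit 5],
  [nat_lit 4,nat_lit 2,nat_lit 6],
  [nat_lit 5,nat_lit 2,nat_lit 5,nat_lit 2,nat_lit 3,nat_lit 6],
  [nat_lit 1,nat_lit 6,nat_lit 1],
  [nat_lit 3,nat_lit 1,nat_lit 6,nat_lit 2],
  [nat_lit 4,nat_lit 6,nat_lit 1,nat_lit 5],
  [nat_lit 3,nat_lit 6,nat_lit 1,nat_lit 5],
  [nat_lit 6,nat_lit 1,nat_lit 5],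
  [nat_lit 2,nat_lit 6,nat_lit 2,nat_lit 5,nat_lit 2,nat_lit 6],
  [nat_lit 1,nat_lit 4,nat_lit 5],
  [nat_lit 1,nat_lit 1,nat_lit 6,nat_lit 1,nat_lit 5],
  [nat_lit 3,nat_lit 5,nat_lit 2,nat_lit 3],
  [nat_lit 5,nat_lit 1,nat_lit 6],
  [nat_lit 1,nat_lit 3,nat_lit 1,nat_lit 5,nat_lit 2],
  [nat_lit 4,nat_lit 1,nat_lit 6],
  [nat_lit 2,nat_lit 5,nat_lit 1,nat_lit 6,nat_lit 1,nat_lit 5],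
  [nat_lit 5,nat_lit 1,nat_lit 6,nat_lit 1,nat_lit 6],
  [nat_lit 1,nat_lit 3,nat_lit 1],
  [nat_lit 1,nat_lit 6,nat_lit 1,nat_lit 6,nat_lit 2,nat_lit 6],
  [nat_lit 3,nat_lit 5],
  [nat_lit 5,nat_lit 1,nat_lit 5,nat_lit 2,nat_lit 2],
  [nat_lit 1,nat_lit 6,nat_lit 1,nat_lit 1,nat_lit 6],
  [nat_lit 1,nat_lit 1,nat_lit 5],
  [nat_lit 2,nat_lit 2,nat_lit 6,nat_lit 1,nat_lit 4],
  [nat_lit 2,nat_lit 6,nat_lit 2,nat_lit 6,nat_lit 2,nat_lit 3],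
  [nat_lit 4,nat_lit 6,nat_lit 2],
  [nat_lit 6,nat_lit 2,nat_lit 3,nat_lit 5],
  [nat_lit 3,nat_lit 2,nat_lit 6,nat_lit 1,nat_lit 3],
  [nat_lit 5,nat_lit 2,nat_lit 6],
  [nat_lit 2,nat_lit 3,nat_lit 2,nat_lit 5,nat_lit 1],
  [nat_lit 1,nat_lit 1,nat_lit 5,nat_lit 2,nat_lit 5,nat_lit 2],
  [nat_lit 2,nat_lit 3,nat_lit 5],
  [nat_lit 1,nat_lit 1,nat_lit 6,nat_lit 2,nat_lit 6],
  [nat_lit 3,nat_lit 2],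
  [nat_lit 3,nat_lit 6,nat_lit 2,nat_lit 3],
  [nat_lit 2,nat_lit 6,nat_lit 2,nat_lit 3,nat_lit 6],
  [nat_lit 1,nat_lit 4,nat_lit 6,nat_lit 2,nat_lit 3],
  [nat_lit 2,nat_lit 6,nat_lit 2,nat_lit 3,nat_lit 5,nat_lit 2],
  [nat_lit 1,nat_lit 3,nat_lit 1,nat_lit 5,nat_lit 2,nat_lit 5,nat_lit 2],
  [nat_lit 5],
  [nat_lit 3,nat_lit 6,nat_lit 2,nat_lit 5],
  [nat_lit 2,nat_lit 6,nat_lit 2],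
  [nat_lit 3,nat_lit 5,nat_lit 1,nat_lit 6],
  [nat_lit 2,nat_lit 2,nat_lit 6,nat_lit 2,nat_lit 4],
  [nat_lit 3,nat_lit 2,nat_lit 5,nat_lit 2],
  [nat_lit 1,nat_lit 1,nat_lit 6,nat_lit 2,nat_lit 2],
  [nat_lit 1,nat_lit 1,nat_lit 1,nat_lit 5,nat_lit 1,nat_lit 5],
  [nat_lit 2,nat_lit 3,nat_lit 5,nat_lit 1,nat_lit 5],
  [nat_lit 5,nat_lit 2,nat_lit 2],
  [nat_lit 1,nat_lit 3,nat_lit 1,nat_lit 6,nat_lit 2],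
  [nat_lit 1,nat_lit 6,nat_lit 2,nat_lit 3],
  [nat_lit 2,nat_lit 5,nat_lit 2,nat_lit 6,nat_lit 1],
  [nat_lit 6,nat_lit 1,nat_lit 1,nat_lit 5],
  [nat_lit 1,nat_lit 6,nat_lit 1,nat_lit 4],
  [nat_lit 1,nat_lit 1,nat_lit 1,nat_lit 5,nat_lit 2],
  [nat_lit 5,nat_lit 1,nat_lit 4,nat_lit 6,nat_lit 1],
  [nat_lit 4,nat_lit 2,nat_lit 5,nat_lit 1,nat_lit 4,nat_lit 6],
  [nat_lit 1,nat_lit 5,nat_lit 2,nat_lit 4,nat_lit 5],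
  [nat_lit 5,nat_lit 2,nat_lit 6,nat_lit 2],
  [nat_lit 2,nat_lit 3,nat_lit 2,nat_lit 5],
  [nat_lit 1,nat_lit 1,nat_lit 6,nat_lit 2],
  [nat_lit 3,nat_lit 2,nat_lit 5],
  [nat_lit 5,nat_lit 2,nat_lit 4,nat_lit 5],
  [nat_lit 1,nat_lit 1,nat_lit 1,nat_lit 5,nat_lit 2,nat_lit 5,nat_lit 1],
  [nat_lit 5,nat_lit 1,nat_lit 1],
  [nat_lit 1,nat_lit 5,nat_lit 1,nat_lit 6,nat_lit 2],
  [nat_lit 2,nat_lit 5,nat_lit 2,nat_lit 4],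
  [nat_lit 2,nat_lit 2,nat_lit 6,nat_lit 2,nat_lit 4,nat_lit 6],
  [nat_lit 1,nat_lit 3,nat_lit 1,nat_lit 5,nat_lit 2,nat_lit 6],
  [nat_lit 4,nat_lit 5,nat_lit 1,nat_lit 5],
  [nat_lit 2,nat_lit 3,nat_lit 6,nat_lit 1],
  [nat_lit 5,nat_lit 1,nat_lit 5],
  [nat_lit 1,nat_lit 3,nat_lit 6,nat_lit 1,nat_lit 5,nat_lit 2],
  [nat_lit 2,nat_lit 4,nat_lit 6,nat_lit 1,nat_lit 5],
  [nat_lit 1,nat_lit 6,nat_lit 1,nat_lit 5,nat_lit 1,nat_lit 4],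
  [nat_lit 2,nat_lit 3,nat_lit 6],
  [nat_lit 5,nat_lit 2,nat_lit 6,nat_lit 2,nat_lit 5],
  [nat_lit 2,nat_lit 3,nat_lit 2,nat_lit 6],
  [nat_lit 2,nat_lit 6,nat_lit 2,nat_lit 5,nat_lit 2,nat_lit 5],
  [nat_lit 1,nat_lit 4],
  [nat_lit 1,nat_lit 6,nat_lit 1,nat_lit 3,nat_lit 5],
  [nat_lit 2,nat_lit 4,nat_lit 6,nat_lit 2,nat_lit 3],
  [nat_lit 2,nat_lit 2,nat_lit 6,nat_lit 2,nat_lit 2],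
  [nat_lit 1,nat_lit 1,nat_lit 5,nat_lit 1,nat_lit 3],
  [nat_lit 1,nat_lit 1,nat_lit 6,nat_lit 1,nat_lit 6,nat_lit 1],
  [nat_lit 1,nat_lit 3,nat_lit 6,nat_lit 1,nat_lit 3],
  [nat_lit 2,nat_lit 3,nat_lit 6,nat_lit 2,nat_lit 3,nat_lit 5],
  [nat_lit 1,nat_lit 1,nat_lit 1,nat_lit 6,nat_lit 1,nat_lit 3],
  [nat_lit 2,nat_lit 4,nat_lit 6,nat_lit 2],
  [nat_lit 1,nat_lit 6,nat_lit 1,nat_lit 5],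
  [nat_lit 5,nat_lit 1,nat_lit 6,nat_lit 1,nat_lit 1],
  [nat_lit 1,nat_lit 3,nat_lit 1,nat_lit 5,nat_lit 1],
  [nat_lit 4,nat_lit 6,nat_lit 2,nat_lit 3,nat_lit 6],
  [nat_lit 5,nat_lit 1,nat_lit 5,nat_lit 1,nat_lit 4],
  [nat_lit 1,nat_lit 6,nat_lit 1,nat_lit 6,nat_lit 1,nat_lit 4],
  [nat_lit 4,nat_lit 6,nat_lit 1,nat_lit 3],
  [nat_lit 2,nat_lit 6,nat_lit 2,nat_lit 6,nat_lit 2,nat_lit 2],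
  [nat_lit 6,nat_lit 1,nat_lit 3],
  [nat_lit 4,nat_lit 1,nat_lit 6,nat_lit 1,nat_lit 3,nat_lit 6],
  [nat_lit 2,nat_lit 5,nat_lit 1,nat_lit 4,nat_lit 5,nat_lit 2],
  [nat_lit 4,nat_lit 2,nat_lit 5],
  [nat_lit 1,nat_lit 5,nat_lit 2,nat_lit 6,nat_lit 2],
  [nat_lit 5,nat_lit 2,nat_lit 4,nat_lit 6,nat_lit 2],
  [nat_lit 2,nat_lit 2,nat_lit 2,nat_lit 5,nat_lit 1],
  [nat_lit 6,nat_lit 2,nat_lit 5],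
  [nat_lit 3,nat_lit 2,nat_lit 6,nat_lit 1],
  [nat_lit 2,nat_lit 2,nat_lit 2,nat_lit 5,nat_lit 1,nat_lit 5],
  [nat_lit 5,nat_lit 1,nat_lit 6,nat_lit 2,nat_lit 3],
  [nat_lit 1,nat_lit 3,nat_lit 5,nat_lit 1,nat_lit 5],
  [nat_lit 5,nat_lit 1,nat_lit 4,nat_lit 5,nat_lit 1],
  [nat_lit 4,nat_lit 2,nat_lit 5,nat_lit 2],
  [nat_lit 3,nat_lit 5,nat_lit 1,nat_lit 1],
  [nat_lit 1,nat_lit 1,nat_lit 6,nat_lit 1,nat_lit 5,nat_lit 2],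
  [nat_lit 5,nat_lit 1,nat_lit 4],
  [nat_lit 2,nat_lit 2,nat_lit 5,nat_lit 2,nat_lit 6],
  [nat_lit 1,nat_lit 1,nat_lit 1,nat_lit 6,nat_lit 2,nat_lit 2],
  [nat_lit 5,nat_lit 2,nat_lit 6,nat_lit 2,nat_lit 2],
  [nat_lit 1,nat_lit 6,nat_lit 2,nat_lit 5],
  [nat_lit 1,nat_lit 6,nat_lit 1,nat_lit 6,nat_lit 1,nat_lit 1],
  [nat_lit 2,nat_lit 3,nat_lit 2,nat_lit 5,nat_lit 2],
  [nat_lit 2,nat_lit 5,nat_lit 1,nat_lit 1,nat_lit 6],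
  [nat_lit 6,nat_lit 2,nat_lit 3],
  [nat_lit 3,nat_lit 2,nat_lit 6,nat_lit 1,nat_lit 6],
  [nat_lit 6,nat_lit 2],
  [nat_lit 6,nat_lit 2,nat_lit 6,nat_lit 1],
  [nat_lit 2,nat_lit 6,nat_lit 1,nat_lit 6,nat_lit 2],
  [nat_lit 2,nat_lit 3,nat_lit 6,nat_lit 2,nat_lit 5],
  [nat_lit 1,nat_lit 1,nat_lit 1,nat_lit 6,nat_lit 1],
  [nat_lit 2,nat_lit 6,nat_lit 2,nat_lit 6],
  [nat_lit 3,nat_lit 6,nat_lit 2],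
  [nat_lit 5,nat_lit 1,nat_lit 5,nat_lit 1,nat_lit 3,nat_lit 6],
  [nat_lit 4,nat_lit 6,nat_lit 2,nat_lit 5],
  [nat_lit 4,nat_lit 5,nat_lit 2,nat_lit 3],
  [nat_lit 1,nat_lit 5,nat_lit 1,nat_lit 6],
  [nat_lit 3,nat_lit 5,nat_lit 1,nat_lit 3],
  [nat_lit 2,nat_lit 2,nat_lit 6,nat_lit 2,nat_lit 5],
  [nat_lit 3,nat_lit 1,nat_lit 5,nat_lit 2,nat_lit 5],
  [nat_lit 2,nat_lit 2],
  [nat_lit 2,nat_lit 2,nat_lit 2,nat_lit 6,nat_lit 1,nat_lit 1],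
  [nat_lit 1,nat_lit 1,nat_lit 5,nat_lit 1,nat_lit 6],
  [nat_lit 1,nat_lit 3,nat_lit 1,nat_lit 5,nat_lit 2,nat_lit 3],
  [nat_lit 5,nat_lit 1,nat_lit 3,nat_lit 6],
  [nat_lit 2,nat_lit 3,nat_lit 2,nat_lit 6,nat_lit 2],
  [nat_lit 4,nat_lit 1,nat_lit 5,nat_lit 1,nat_lit 5,nat_lit 1]]

def LD6 : List (List ℕ) := [[nat_lit 2,nat_lit 4,nat_lit 5,nat_lit 1,nat_lit 3,nat_lit 5,nat_lit 2,nat_lit 5],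
  [nat_lit 2,nat_lit 4,nat_lit 5,nat_lit 1,nat_lit 3,nat_lit 5,nat_lit 2,nat_lit 5,nat_lit 7],
  [nat_lit 1,nat_lit 5,nat_lit 1,nat_lit 5,nat_lit 1,nat_lit 5,nat_lit 2,nat_lit 2,nat_lit 6,nat_lit 2],
  [nat_lit 1,nat_lit 5,nat_lit 1,nat_lit 5,nat_lit 1,nat_lit 5,nat_lit 2,nat_lit 2,nat_lit 6,nat_lit 2,nat_lit 7],
  [],
  [nat_lit 7],
  [nat_lit 7,nat_lit 7],
  [nat_lit 7,nat_lit 7,nat_lit 7],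
  [nat_lit 2,nat_lit 5,nat_lit 2,nat_lit 5,nat_lit 1,nat_lit 5,nat_lit 1,nat_lit 5],
  [nat_lit 2,nat_lit 5,nat_lit 2,nat_lit 5,nat_lit 1,nat_lit 5,nat_lit 1,nat_lit 5,nat_lit 7],
  [nat_lit 1,nat_lit 5,nat_lit 1,nat_lit 5,nat_lit 1,nat_lit 1,nat_lit 6,nat_lit 1],
  [nat_lit 1,nat_lit 5,nat_lit 1,nat_lit 5,nat_lit 1,nat_lit 1,nat_lit 6,nat_lit 1,nat_lit 7],
  [nat_lit 2,nat_lit 3,nat_lit 5,nat_lit 2,nat_lit 6,nat_lit 1,nat_lit 4,nat_lit 5,nat_lit 1,nat_lit 5],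
  [nat_lit 1,nat_lit 6,nat_lit 2,nat_lit 5,nat_lit 1,nat_lit 5,nat_lit 2,nat_lit 2,nat_lit 6],
  [nat_lit 1,nat_lit 6,nat_lit 2,nat_lit 5,nat_lit 1,nat_lit 5,nat_lit 2,nat_lit 2,nat_lit 6,nat_lit 7],
  [nat_lit 5,nat_lit 1,nat_lit 1,nat_lit 6,nat_lit 2,nat_lit 6,nat_lit 1,nat_lit 5,nat_lit 2],
  [nat_lit 6,nat_lit 2,nat_lit 4,nat_lit 5,nat_lit 2,nat_lit 6,nat_lit 2,nat_lit 4],
  [nat_lit 6,nat_lit 2,nat_lit 4,nat_lit 5,nat_lit 2,nat_lit 6,nat_lit 2,nat_lit 4,nat_lit 7],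
  [nat_lit 3,nat_lit 1,nat_lit 5,nat_lit 1,nat_lit 3,nat_lit 6,nat_lit 1,nat_lit 5],
  [nat_lit 3,nat_lit 1,nat_lit 5,nat_lit 1,nat_lit 3,nat_lit 6,nat_lit 1,nat_lit 5,nat_lit 7],
  [nat_lit 6,nat_lit 1,nat_lit 4,nat_lit 5,nat_lit 1,nat_lit 6,nat_lit 1,nat_lit 4],
  [nat_lit 6,nat_lit 1,nat_lit 4,nat_lit 5,nat_lit 1,nat_lit 6,nat_lit 1,nat_lit 4,nat_lit 7],
  [nat_lit 3,nat_lit 2,nat_lit 5,nat_lit 2,nat_lit 3,nat_lit 6,nat_lit 2,nat_lit 5],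
  [nat_lit 3,nat_lit 2,nat_lit 5,nat_lit 2,nat_lit 3,nat_lit 6,nat_lit 2,nat_lit 5,nat_lit 7],
  [nat_lit 2,nat_lit 6,nat_lit 1,nat_lit 3,nat_lit 5,nat_lit 2,nat_lit 6,nat_lit 1,nat_lit 1],
  [nat_lit 1,nat_lit 6,nat_lit 2,nat_lit 3,nat_lit 5,nat_lit 1,nat_lit 6,nat_lit 2,nat_lit 2],
  [nat_lit 1,nat_lit 6,nat_lit 2,nat_lit 3,nat_lit 5,nat_lit 1,nat_lit 6,nat_lit 2,nat_lit 2,nat_lit 7],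
  [nat_lit 1,nat_lit 6,nat_lit 2,nat_lit 3,nat_lit 5,nat_lit 1,nat_lit 6,nat_lit 2,nat_lit 2,nat_lit 7,nat_lit 7],
  [nat_lit 6,nat_lit 2,nat_lit 5,nat_lit 1,nat_lit 6,nat_lit 1,nat_lit 5,nat_lit 2,nat_lit 7,nat_lit 7],
  [nat_lit 2,nat_lit 2,nat_lit 6,nat_lit 1,nat_lit 5,nat_lit 2,nat_lit 6,nat_lit 2,nat_lit 5],
  [nat_lit 6,nat_lit 2,nat_lit 5,nat_lit 1,nat_lit 6,nat_lit 1,nat_lit 5,nat_lit 2],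
  [nat_lit 6,nat_lit 2,nat_lit 5,nat_lit 1,nat_lit 6,nat_lit 1,nat_lit 5,nat_lit 2,nat_lit 7],
  [nat_lit 2,nat_lit 2,nat_lit 6,nat_lit 1,nat_lit 4,nat_lit 5,nat_lit 2,nat_lit 6,nat_lit 1,nat_lit 4],
  [nat_lit 2,nat_lit 2,nat_lit 6,nat_lit 1,nat_lit 4,nat_lit 5,nat_lit 2,nat_lit 6,nat_lit 1,nat_lit 4,nat_lit 7],
  [nat_lit 2,nat_lit 2,nat_lit 6,nat_lit 1,nat_lit 4,nat_lit 5,nat_lit 2,nat_lit 6,nat_lit 1,nat_lit 4,nat_lit 7,nat_lit 7],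
  [nat_lit 1,nat_lit 1,nat_lit 6,nat_lit 2,nat_lit 4,nat_lit 5,nat_lit 1,nat_lit 6,nat_lit 2,nat_lit 4],
  [nat_lit 1,nat_lit 4,nat_lit 6,nat_lit 1,nat_lit 5,nat_lit 1,nat_lit 4,nat_lit 5],
  [nat_lit 1,nat_lit 4,nat_lit 6,nat_lit 1,nat_lit 5,nat_lit 1,nat_lit 4,nat_lit 5,nat_lit 7],
  [nat_lit 3,nat_lit 6,nat_lit 2,nat_lit 6,nat_lit 2,nat_lit 3,nat_lit 5,nat_lit 2],
  [nat_lit 3,nat_lit 6,nat_lit 2,nat_lit 6,nat_lit 2,nat_lit 3,nat_lit 5,nat_lit 2,nat_lit 7],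
  [nat_lit 1,nat_lit 1,nat_lit 1,nat_lit 5,nat_lit 2,nat_lit 3,nat_lit 6,nat_lit 2,nat_lit 5,nat_lit 2,nat_lit 3],
  [nat_lit 2,nat_lit 6,nat_lit 1,nat_lit 4,nat_lit 6,nat_lit 1,nat_lit 5,nat_lit 2,nat_lit 3,nat_lit 6],
  [nat_lit 1,nat_lit 1,nat_lit 4,nat_lit 6,nat_lit 2,nat_lit 5,nat_lit 2,nat_lit 4,nat_lit 5,nat_lit 1,nat_lit 5],
  [nat_lit 3,nat_lit 2,nat_lit 6,nat_lit 2,nat_lit 5,nat_lit 2,nat_lit 2,nat_lit 5,nat_lit 1,nat_lit 6],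
  [nat_lit 1,nat_lit 3,nat_lit 6,nat_lit 2,nat_lit 6,nat_lit 1,nat_lit 4,nat_lit 6],
  [nat_lit 1,nat_lit 3,nat_lit 6,nat_lit 2,nat_lit 6,nat_lit 1,nat_lit 4,nat_lit 6,nat_lit 7],
  [nat_lit 1,nat_lit 3,nat_lit 6,nat_lit 2,nat_lit 6,nat_lit 1,nat_lit 4,nat_lit 6,nat_lit 7,nat_lit 7],
  [nat_lit 1,nat_lit 3,nat_lit 6,nat_lit 2,nat_lit 6,nat_lit 1,nat_lit 4,nat_lit 6,nat_lit 7,nat_lit 7,nat_lit 7],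
  [nat_lit 2,nat_lit 5,nat_lit 1,nat_lit 3,nat_lit 6,nat_lit 2,nat_lit 3,nat_lit 5,nat_lit 1,nat_lit 6],
  [nat_lit 1,nat_lit 5,nat_lit 2,nat_lit 3,nat_lit 6,nat_lit 1,nat_lit 3,nat_lit 5,nat_lit 2,nat_lit 6],
  [nat_lit 1,nat_lit 5,nat_lit 2,nat_lit 3,nat_lit 6,nat_lit 1,nat_lit 3,nat_lit 5,nat_lit 2,nat_lit 6,nat_lit 7],
  [nat_lit 1,nat_lit 5,nat_lit 2,nat_lit 3,nat_lit 6,nat_lit 1,nat_lit 3,nat_lit 5,nat_lit 2,nat_lit 6,nat_lit 7,nat_lit 7],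
  [nat_lit 3,nat_lit 5,nat_lit 2,nat_lit 6,nat_lit 1,nat_lit 4,nat_lit 6,nat_lit 2,nat_lit 5],
  [nat_lit 2,nat_lit 6,nat_lit 2,nat_lit 6,nat_lit 1,nat_lit 1,nat_lit 5,nat_lit 2,nat_lit 5,nat_lit 2],
  [nat_lit 2,nat_lit 6,nat_lit 2,nat_lit 6,nat_lit 1,nat_lit 1,nat_lit 5,nat_lit 2,nat_lit 5,nat_lit 2,nat_lit 7],
  [nat_lit 1,nat_lit 3,nat_lit 6,nat_lit 1,nat_lit 6,nat_lit 2,nat_lit 2,nat_lit 5,nat_lit 1,nat_lit 3,nat_lit 5],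
  [nat_lit 1,nat_lit 5,nat_lit 1,nat_lit 1,nat_lit 6,nat_lit 1,nat_lit 6,nat_lit 1],
  [nat_lit 1,nat_lit 5,nat_lit 1,nat_lit 1,nat_lit 6,nat_lit 1,nat_lit 6,nat_lit 1,nat_lit 7],
  [nat_lit 1,nat_lit 5,nat_lit 1,nat_lit 5,nat_lit 2,nat_lit 5,nat_lit 2,nat_lit 5],
  [nat_lit 1,nat_lit 5,nat_lit 1,nat_lit 5,nat_lit 2,nat_lit 5,nat_lit 2,nat_lit 5,nat_lit 7],
  [nat_lit 2,nat_lit 6,nat_lit 1,nat_lit 5,nat_lit 1,nat_lit 6,nat_lit 2,nat_lit 5],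
  [nat_lit 2,nat_lit 6,nat_lit 1,nat_lit 5,nat_lit 1,nat_lit 6,nat_lit 2,nat_lit 5,nat_lit 7],
  [nat_lit 2,nat_lit 5,nat_lit 2,nat_lit 6,nat_lit 2,nat_lit 6,nat_lit 2,nat_lit 5,nat_lit 2,nat_lit 5],
  [nat_lit 6,nat_lit 2,nat_lit 2,nat_lit 5,nat_lit 1,nat_lit 6,nat_lit 2,nat_lit 5,nat_lit 2],
  [nat_lit 1,nat_lit 4,nat_lit 6,nat_lit 2,nat_lit 6,nat_lit 2,nat_lit 6,nat_lit 1,nat_lit 6],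
  [nat_lit 4,nat_lit 2,nat_lit 6,nat_lit 2,nat_lit 2,nat_lit 6,nat_lit 2,nat_lit 3,nat_lit 5],
  [nat_lit 1,nat_lit 4,nat_lit 1,nat_lit 5,nat_lit 1,nat_lit 5,nat_lit 1,nat_lit 1,nat_lit 6],
  [nat_lit 1,nat_lit 4,nat_lit 1,nat_lit 5,nat_lit 1,nat_lit 5,nat_lit 1,nat_lit 1,nat_lit 6,nat_lit 7],
  [nat_lit 1,nat_lit 5,nat_lit 1,nat_lit 1,nat_lit 6,nat_lit 2,nat_lit 6,nat_lit 1,nat_lit 1,nat_lit 5,nat_lit 1,nat_lit 5],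
  [nat_lit 2,nat_lit 5,nat_lit 1,nat_lit 5,nat_lit 2,nat_lit 6,nat_lit 1,nat_lit 6,nat_lit 2,nat_lit 3,nat_lit 5],
  [nat_lit 1,nat_lit 1,nat_lit 6,nat_lit 1,nat_lit 3,nat_lit 5,nat_lit 2,nat_lit 5,nat_lit 1,nat_lit 6,nat_lit 1],
  [nat_lit 1,nat_lit 5,nat_lit 2,nat_lit 5,nat_lit 1,nat_lit 6,nat_lit 2,nat_lit 6,nat_lit 1,nat_lit 3,nat_lit 5],
  [nat_lit 1,nat_lit 1,nat_lit 4,nat_lit 6,nat_lit 2,nat_lit 5,nat_lit 1,nat_lit 4,nat_lit 6,nat_lit 2],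
  [nat_lit 1,nat_lit 1,nat_lit 4,nat_lit 6,nat_lit 2,nat_lit 5,nat_lit 1,nat_lit 4,nat_lit 6,nat_lit 2,nat_lit 7],
  [nat_lit 1,nat_lit 1,nat_lit 4,nat_lit 6,nat_lit 2,nat_lit 5,nat_lit 1,nat_lit 4,nat_lit 6,nat_lit 2,nat_lit 7,nat_lit 7],
  [nat_lit 1,nat_lit 6,nat_lit 2,nat_lit 5,nat_lit 2,nat_lit 2,nat_lit 6,nat_lit 1,nat_lit 5,nat_lit 2,nat_lit 2],
  [nat_lit 5,nat_lit 1,nat_lit 5,nat_lit 2,nat_lit 5,nat_lit 2,nat_lit 3,nat_lit 5,nat_lit 1],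
  [nat_lit 4,nat_lit 6,nat_lit 2,nat_lit 5,nat_lit 2,nat_lit 2,nat_lit 5,nat_lit 2,nat_lit 3],
  [nat_lit 5,nat_lit 1,nat_lit 1,nat_lit 6,nat_lit 1,nat_lit 3,nat_lit 6,nat_lit 2,nat_lit 2],
  [nat_lit 5,nat_lit 1,nat_lit 1,nat_lit 6,nat_lit 1,nat_lit 3,nat_lit 6,nat_lit 2,nat_lit 2,nat_lit 7],
  [nat_lit 2,nat_lit 2,nat_lit 5,nat_lit 1,nat_lit 4,nat_lit 6,nat_lit 2,nat_lit 5,nat_lit 1],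
  [nat_lit 2,nat_lit 2,nat_lit 5,nat_lit 1,nat_lit 4,nat_lit 6,nat_lit 2,nat_lit 5,nat_lit 1,nat_lit 7],
  [nat_lit 2,nat_lit 2,nat_lit 5,nat_lit 1,nat_lit 4,nat_lit 6,nat_lit 2,nat_lit 5,nat_lit 1,nat_lit 7,nat_lit 7],
  [nat_lit 1,nat_lit 1,nat_lit 5,nat_lit 2,nat_lit 4,nat_lit 6,nat_lit 1,nat_lit 5,nat_lit 2],
  [nat_lit 3,nat_lit 5,nat_lit 1,nat_lit 6,nat_lit 2,nat_lit 4,nat_lit 6,nat_lit 1,nat_lit 5],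
  [nat_lit 3,nat_lit 5,nat_lit 1,nat_lit 6,nat_lit 2,nat_lit 4,nat_lit 6,nat_lit 1,nat_lit 5,nat_lit 7],
  [nat_lit 3,nat_lit 5,nat_lit 1,nat_lit 6,nat_lit 2,nat_lit 4,nat_lit 6,nat_lit 1,nat_lit 5,nat_lit 7,nat_lit 7],
  [nat_lit 1,nat_lit 6,nat_lit 1,nat_lit 6,nat_lit 2,nat_lit 2,nat_lit 5,nat_lit 1,nat_lit 5,nat_lit 1],
  [nat_lit 2,nat_lit 4,nat_lit 6,nat_lit 1,nat_lit 6,nat_lit 1,nat_lit 6,nat_lit 2,nat_lit 6,nat_lit 7],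
  [nat_lit 1,nat_lit 1,nat_lit 4,nat_lit 5,nat_lit 2,nat_lit 5,nat_lit 2,nat_lit 2,nat_lit 6],
  [nat_lit 4,nat_lit 1,nat_lit 6,nat_lit 1,nat_lit 1,nat_lit 6,nat_lit 1,nat_lit 3,nat_lit 5],
  [nat_lit 2,nat_lit 4,nat_lit 6,nat_lit 1,nat_lit 6,nat_lit 1,nat_lit 6,nat_lit 2,nat_lit 6],
  [nat_lit 5,nat_lit 2,nat_lit 5,nat_lit 1,nat_lit 5,nat_lit 1,nat_lit 3,nat_lit 5,nat_lit 2],
  [nat_lit 5,nat_lit 2,nat_lit 5,nat_lit 1,nat_lit 5,nat_lit 1,nat_lit 3,nat_lit 5,nat_lit 2,nat_lit 7],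
  [nat_lit 5,nat_lit 2,nat_lit 2,nat_lit 6,nat_lit 2,nat_lit 3,nat_lit 6,nat_lit 1,nat_lit 1],
  [nat_lit 4,nat_lit 6,nat_lit 1,nat_lit 5,nat_lit 1,nat_lit 1,nat_lit 5,nat_lit 1,nat_lit 3],
  [nat_lit 1,nat_lit 3,nat_lit 5,nat_lit 2,nat_lit 6,nat_lit 1,nat_lit 3,nat_lit 5,nat_lit 2,nat_lit 2],
  [nat_lit 1,nat_lit 1,nat_lit 6,nat_lit 2,nat_lit 5,nat_lit 1,nat_lit 1,nat_lit 6,nat_lit 1,nat_lit 5,nat_lit 2],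
  [nat_lit 1,nat_lit 1,nat_lit 6,nat_lit 2,nat_lit 5,nat_lit 1,nat_lit 1,nat_lit 6,nat_lit 1,nat_lit 5,nat_lit 2,nat_lit 7],
  [nat_lit 2,nat_lit 2,nat_lit 6,nat_lit 1,nat_lit 5,nat_lit 2,nat_lit 2,nat_lit 6,nat_lit 2,nat_lit 5,nat_lit 1],
  [nat_lit 1,nat_lit 6,nat_lit 2,nat_lit 5,nat_lit 2,nat_lit 6,nat_lit 1,nat_lit 5],
  [nat_lit 1,nat_lit 6,nat_lit 2,nat_lit 5,nat_lit 2,nat_lit 6,nat_lit 1,nat_lit 5,nat_lit 7],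
  [nat_lit 1,nat_lit 5,nat_lit 1,nat_lit 6,nat_lit 1,nat_lit 6,nat_lit 1,nat_lit 5,nat_lit 1,nat_lit 5],
  [nat_lit 1,nat_lit 5,nat_lit 1,nat_lit 6,nat_lit 1,nat_lit 6,nat_lit 1,nat_lit 5,nat_lit 1,nat_lit 5,nat_lit 7],
  [nat_lit 1,nat_lit 3,nat_lit 5,nat_lit 1,nat_lit 6,nat_lit 2,nat_lit 4,nat_lit 5,nat_lit 2,nat_lit 5],
  [nat_lit 5,nat_lit 2,nat_lit 2,nat_lit 6,nat_lit 1,nat_lit 6,nat_lit 2,nat_lit 5,nat_lit 1],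
  [nat_lit 5,nat_lit 2,nat_lit 2,nat_lit 6,nat_lit 1,nat_lit 6,nat_lit 2,nat_lit 5,nat_lit 1,nat_lit 7],
  [nat_lit 2,nat_lit 6,nat_lit 1,nat_lit 5,nat_lit 2,nat_lit 5,nat_lit 1,nat_lit 1,nat_lit 6],
  [nat_lit 2,nat_lit 3,nat_lit 6,nat_lit 1,nat_lit 6,nat_lit 2,nat_lit 4,nat_lit 6,nat_lit 7],
  [nat_lit 2,nat_lit 3,nat_lit 6,nat_lit 1,nat_lit 6,nat_lit 2,nat_lit 4,nat_lit 6,nat_lit 7,nat_lit 7],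
  [nat_lit 3,nat_lit 2,nat_lit 5,nat_lit 2,nat_lit 2,nat_lit 5,nat_lit 2,nat_lit 5,nat_lit 1,nat_lit 6],
  [nat_lit 2,nat_lit 3,nat_lit 6,nat_lit 1,nat_lit 6,nat_lit 2,nat_lit 4,nat_lit 6],
  [nat_lit 1,nat_lit 1,nat_lit 6,nat_lit 2,nat_lit 5,nat_lit 1,nat_lit 6,nat_lit 1,nat_lit 5,nat_lit 7,nat_lit 7],
  [nat_lit 6,nat_lit 1,nat_lit 5,nat_lit 2,nat_lit 6,nat_lit 2,nat_lit 5,nat_lit 1],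
  [nat_lit 1,nat_lit 1,nat_lit 6,nat_lit 2,nat_lit 5,nat_lit 1,nat_lit 6,nat_lit 1,nat_lit 5],
  [nat_lit 1,nat_lit 1,nat_lit 6,nat_lit 2,nat_lit 5,nat_lit 1,nat_lit 6,nat_lit 1,nat_lit 5,nat_lit 7],
  [nat_lit 1,nat_lit 4,nat_lit 5,nat_lit 2,nat_lit 3,nat_lit 5,nat_lit 1,nat_lit 5],
  [nat_lit 1,nat_lit 4,nat_lit 5,nat_lit 2,nat_lit 3,nat_lit 5,nat_lit 1,nat_lit 5,nat_lit 7],
  [nat_lit 1,nat_lit 4,nat_lit 5,nat_lit 2,nat_lit 3,nat_lit 5,nat_lit 1,nat_lit 5,nat_lit 7,nat_lit 7],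
  [nat_lit 3,nat_lit 5,nat_lit 2,nat_lit 6,nat_lit 2,nat_lit 6,nat_lit 1,nat_lit 5,nat_lit 2,nat_lit 3],
  [nat_lit 3,nat_lit 6,nat_lit 1,nat_lit 6,nat_lit 1,nat_lit 3,nat_lit 5,nat_lit 1,nat_lit 7],
  [nat_lit 2,nat_lit 4,nat_lit 6,nat_lit 2,nat_lit 5,nat_lit 2,nat_lit 4,nat_lit 5],
  [nat_lit 2,nat_lit 4,nat_lit 6,nat_lit 2,nat_lit 5,nat_lit 2,nat_lit 4,nat_lit 5,nat_lit 7],
  [nat_lit 3,nat_lit 6,nat_lit 1,nat_lit 6,nat_lit 1,nat_lit 3,nat_lit 5,nat_lit 1],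
  [nat_lit 1,nat_lit 4,nat_lit 1,nat_lit 6,nat_lit 1,nat_lit 5,nat_lit 1,nat_lit 4,nat_lit 5,nat_lit 2,nat_lit 5],
  [nat_lit 1,nat_lit 6,nat_lit 2,nat_lit 4,nat_lit 6,nat_lit 2,nat_lit 5,nat_lit 1,nat_lit 3,nat_lit 6],
  [nat_lit 1,nat_lit 1,nat_lit 5,nat_lit 2,nat_lit 4,nat_lit 6,nat_lit 2,nat_lit 6,nat_lit 1,nat_lit 1,nat_lit 6],
  [nat_lit 3,nat_lit 1,nat_lit 6,nat_lit 1,nat_lit 5,nat_lit 1,nat_lit 1,nat_lit 5,nat_lit 2,nat_lit 6],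
  [nat_lit 2,nat_lit 4,nat_lit 5,nat_lit 1,nat_lit 3,nat_lit 5,nat_lit 2,nat_lit 5,nat_lit 8],
  [nat_lit 2,nat_lit 4,nat_lit 5,nat_lit 1,nat_lit 3,nat_lit 5,nat_lit 2,nat_lit 5,nat_lit 8,nat_lit 7],
  [nat_lit 1,nat_lit 5,nat_lit 1,nat_lit 5,nat_lit 1,nat_lit 5,nat_lit 2,nat_lit 2,nat_lit 6,nat_lit 2,nat_lit 8],
  [nat_lit 2,nat_lit 4,nat_lit 5,nat_lit 1,nat_lit 3,nat_lit 5,nat_lit 2,nat_lit 5,nat_lit 7,nat_lit 8],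
  [nat_lit 8],
  [nat_lit 8,nat_lit 7],
  [nat_lit 7,nat_lit 7,nat_lit 8],
  [nat_lit 7,nat_lit 8],
  [nat_lit 2,nat_lit 5,nat_lit 2,nat_lit 5,nat_lit 1,nat_lit 5,nat_lit 1,nat_lit 5,nat_lit 8],
  [nat_lit 1,nat_lit 5,nat_lit 1,nat_lit 5,nat_lit 1,nat_lit 1,nat_lit 6,nat_lit 1,nat_lit 7,nat_lit 8],
  [nat_lit 1,nat_lit 5,nat_lit 1,nat_lit 5,nat_lit 1,nat_lit 1,nat_lit 6,nat_lit 1,nat_lit 8],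
  [nat_lit 1,nat_lit 5,nat_lit 1,nat_lit 5,nat_lit 1,nat_lit 1,nat_lit 6,nat_lit 1,nat_lit 8,nat_lit 7],
  [nat_lit 1,nat_lit 6,nat_lit 2,nat_lit 5,nat_lit 1,nat_lit 5,nat_lit 2,nat_lit 2,nat_lit 6,nat_lit 8,nat_lit 7],
  [nat_lit 5,nat_lit 1,nat_lit 1,nat_lit 6,nat_lit 2,nat_lit 6,nat_lit 1,nat_lit 5,nat_lit 2,nat_lit 8],
  [nat_lit 1,nat_lit 6,nat_lit 2,nat_lit 5,nat_lit 1,nat_lit 5,nat_lit 2,nat_lit 2,nat_lit 6,nat_lit 7,nat_lit 8],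
  [nat_lit 1,nat_lit 6,nat_lit 2,nat_lit 5,nat_lit 1,nat_lit 5,nat_lit 2,nat_lit 2,nat_lit 6,nat_lit 8],
  [nat_lit 6,nat_lit 2,nat_lit 4,nat_lit 5,nat_lit 2,nat_lit 6,nat_lit 2,nat_lit 4,nat_lit 8],
  [nat_lit 3,nat_lit 1,nat_lit 5,nat_lit 1,nat_lit 3,nat_lit 6,nat_lit 1,nat_lit 5,nat_lit 7,nat_lit 8],
  [nat_lit 3,nat_lit 1,nat_lit 5,nat_lit 1,nat_lit 3,nat_lit 6,nat_lit 1,nat_lit 5,nat_lit 8],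
  [nat_lit 3,nat_lit 1,nat_lit 5,nat_lit 1,nat_lit 3,nat_lit 6,nat_lit 1,nat_lit 5,nat_lit 8,nat_lit 7],
  [nat_lit 6,nat_lit 1,nat_lit 4,nat_lit 5,nat_lit 1,nat_lit 6,nat_lit 1,nat_lit 4,nat_lit 8],
  [nat_lit 3,nat_lit 2,nat_lit 5,nat_lit 2,nat_lit 3,nat_lit 6,nat_lit 2,nat_lit 5,nat_lit 7,nat_lit 8],
  [nat_lit 3,nat_lit 2,nat_lit 5,nat_lit 2,nat_lit 3,nat_lit 6,nat_lit 2,nat_lit 5,nat_lit 8],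
  [nat_lit 3,nat_lit 2,nat_lit 5,nat_lit 2,nat_lit 3,nat_lit 6,nat_lit 2,nat_lit 5,nat_lit 8,nat_lit 7],
  [nat_lit 2,nat_lit 6,nat_lit 1,nat_lit 3,nat_lit 5,nat_lit 2,nat_lit 6,nat_lit 1,nat_lit 1,nat_lit 8],
  [nat_lit 2,nat_lit 6,nat_lit 1,nat_lit 3,nat_lit 5,nat_lit 2,nat_lit 6,nat_lit 1,nat_lit 1,nat_lit 8,nat_lit 7],
  [nat_lit 1,nat_lit 6,nat_lit 2,nat_lit 3,nat_lit 5,nat_lit 1,nat_lit 6,nat_lit 2,nat_lit 2,nat_lit 7,nat_lit 8],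
  [nat_lit 1,nat_lit 6,nat_lit 2,nat_lit 3,nat_lit 5,nat_lit 1,nat_lit 6,nat_lit 2,nat_lit 2,nat_lit 8],
  [nat_lit 2,nat_lit 2,nat_lit 6,nat_lit 1,nat_lit 5,nat_lit 2,nat_lit 6,nat_lit 2,nat_lit 5,nat_lit 8,nat_lit 7],
  [nat_lit 6,nat_lit 2,nat_lit 5,nat_lit 1,nat_lit 6,nat_lit 1,nat_lit 5,nat_lit 2,nat_lit 7,nat_lit 8],
  [nat_lit 6,nat_lit 2,nat_lit 5,nat_lit 1,nat_lit 6,nat_lit 1,nat_lit 5,nat_lit 2,nat_lit 8],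
  [nat_lit 2,nat_lit 2,nat_lit 6,nat_lit 1,nat_lit 5,nat_lit 2,nat_lit 6,nat_lit 2,nat_lit 5,nat_lit 8],
  [nat_lit 2,nat_lit 2,nat_lit 6,nat_lit 1,nat_lit 4,nat_lit 5,nat_lit 2,nat_lit 6,nat_lit 1,nat_lit 4,nat_lit 8],
  [nat_lit 1,nat_lit 1,nat_lit 6,nat_lit 2,nat_lit 4,nat_lit 5,nat_lit 1,nat_lit 6,nat_lit 2,nat_lit 4,nat_lit 8],
  [nat_lit 1,nat_lit 1,nat_lit 6,nat_lit 2,nat_lit 4,nat_lit 5,nat_lit 1,nat_lit 6,nat_lit 2,nat_lit 4,nat_lit 8,nat_lit 7],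
  [nat_lit 2,nat_lit 2,nat_lit 6,nat_lit 1,nat_lit 4,nat_lit 5,nat_lit 2,nat_lit 6,nat_lit 1,nat_lit 4,nat_lit 7,nat_lit 8],
  [nat_lit 1,nat_lit 5,nat_lit 1,nat_lit 1,nat_lit 6,nat_lit 1,nat_lit 6,nat_lit 1,nat_lit 8],
  [nat_lit 1,nat_lit 5,nat_lit 1,nat_lit 1,nat_lit 6,nat_lit 1,nat_lit 6,nat_lit 1,nat_lit 8,nat_lit 7],
  [nat_lit 1,nat_lit 5,nat_lit 1,nat_lit 5,nat_lit 2,nat_lit 5,nat_lit 2,nat_lit 5,nat_lit 8],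
  [nat_lit 1,nat_lit 5,nat_lit 1,nat_lit 1,nat_lit 6,nat_lit 1,nat_lit 6,nat_lit 1,nat_lit 7,nat_lit 8],
  [nat_lit 1,nat_lit 1,nat_lit 1,nat_lit 5,nat_lit 2,nat_lit 3,nat_lit 6,nat_lit 2,nat_lit 5,nat_lit 2,nat_lit 3,nat_lit 8],
  [nat_lit 3,nat_lit 2,nat_lit 6,nat_lit 2,nat_lit 5,nat_lit 2,nat_lit 2,nat_lit 5,nat_lit 1,nat_lit 6,nat_lit 8],
  [nat_lit 1,nat_lit 1,nat_lit 4,nat_lit 6,nat_lit 2,nat_lit 5,nat_lit 2,nat_lit 4,nat_lit 5,nat_lit 1,nat_lit 5,nat_lit 8],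
  [nat_lit 2,nat_lit 6,nat_lit 1,nat_lit 4,nat_lit 6,nat_lit 1,nat_lit 5,nat_lit 2,nat_lit 3,nat_lit 6,nat_lit 8],
  [nat_lit 1,nat_lit 4,nat_lit 6,nat_lit 1,nat_lit 5,nat_lit 1,nat_lit 4,nat_lit 5,nat_lit 8],
  [nat_lit 1,nat_lit 4,nat_lit 6,nat_lit 1,nat_lit 5,nat_lit 1,nat_lit 4,nat_lit 5,nat_lit 8,nat_lit 7],
  [nat_lit 3,nat_lit 6,nat_lit 2,nat_lit 6,nat_lit 2,nat_lit 3,nat_lit 5,nat_lit 2,nat_lit 8],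
  [nat_lit 1,nat_lit 4,nat_lit 6,nat_lit 1,nat_lit 5,nat_lit 1,nat_lit 4,nat_lit 5,nat_lit 7,nat_lit 8],
  [nat_lit 1,nat_lit 3,nat_lit 6,nat_lit 2,nat_lit 6,nat_lit 1,nat_lit 4,nat_lit 6,nat_lit 8],
  [nat_lit 1,nat_lit 3,nat_lit 6,nat_lit 2,nat_lit 6,nat_lit 1,nat_lit 4,nat_lit 6,nat_lit 8,nat_lit 7],
  [nat_lit 1,nat_lit 3,nat_lit 6,nat_lit 2,nat_lit 6,nat_lit 1,nat_lit 4,nat_lit 6,nat_lit 7,nat_lit 7,nat_lit 8],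
  [nat_lit 1,nat_lit 3,nat_lit 6,nat_lit 2,nat_lit 6,nat_lit 1,nat_lit 4,nat_lit 6,nat_lit 7,nat_lit 8],
  [nat_lit 3,nat_lit 5,nat_lit 2,nat_lit 6,nat_lit 1,nat_lit 4,nat_lit 6,nat_lit 2,nat_lit 5,nat_lit 8],
  [nat_lit 3,nat_lit 5,nat_lit 2,nat_lit 6,nat_lit 1,nat_lit 4,nat_lit 6,nat_lit 2,nat_lit 5,nat_lit 8,nat_lit 7],
  [nat_lit 2,nat_lit 6,nat_lit 2,nat_lit 6,nat_lit 1,nat_lit 1,nat_lit 5,nat_lit 2,nat_lit 5,nat_lit 2,nat_lit 7,nat_lit 8],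
  [nat_lit 2,nat_lit 6,nat_lit 2,nat_lit 6,nat_lit 1,nat_lit 1,nat_lit 5,nat_lit 2,nat_lit 5,nat_lit 2,nat_lit 8],
  [nat_lit 2,nat_lit 5,nat_lit 1,nat_lit 3,nat_lit 6,nat_lit 2,nat_lit 3,nat_lit 5,nat_lit 1,nat_lit 6,nat_lit 8],
  [nat_lit 2,nat_lit 5,nat_lit 1,nat_lit 3,nat_lit 6,nat_lit 2,nat_lit 3,nat_lit 5,nat_lit 1,nat_lit 6,nat_lit 8,nat_lit 7],
  [nat_lit 1,nat_lit 5,nat_lit 2,nat_lit 3,nat_lit 6,nat_lit 1,nat_lit 3,nat_lit 5,nat_lit 2,nat_lit 6,nat_lit 7,nat_lit 8],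
  [nat_lit 1,nat_lit 5,nat_lit 2,nat_lit 3,nat_lit 6,nat_lit 1,nat_lit 3,nat_lit 5,nat_lit 2,nat_lit 6,nat_lit 8],
  [nat_lit 1,nat_lit 1,nat_lit 4,nat_lit 6,nat_lit 2,nat_lit 5,nat_lit 1,nat_lit 4,nat_lit 6,nat_lit 2,nat_lit 8],
  [nat_lit 1,nat_lit 1,nat_lit 4,nat_lit 6,nat_lit 2,nat_lit 5,nat_lit 1,nat_lit 4,nat_lit 6,nat_lit 2,nat_lit 8,nat_lit 7],
  [nat_lit 1,nat_lit 1,nat_lit 4,nat_lit 6,nat_lit 2,nat_lit 5,nat_lit 1,nat_lit 4,nat_lit 6,nat_lit 2,nat_lit 7,nat_lit 7,nat_lit 8],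
  [nat_lit 1,nat_lit 1,nat_lit 4,nat_lit 6,nat_lit 2,nat_lit 5,nat_lit 1,nat_lit 4,nat_lit 6,nat_lit 2,nat_lit 7,nat_lit 8],
  [nat_lit 5,nat_lit 1,nat_lit 5,nat_lit 2,nat_lit 5,nat_lit 2,nat_lit 3,nat_lit 5,nat_lit 1,nat_lit 8],
  [nat_lit 5,nat_lit 1,nat_lit 1,nat_lit 6,nat_lit 1,nat_lit 3,nat_lit 6,nat_lit 2,nat_lit 2,nat_lit 7,nat_lit 8],
  [nat_lit 5,nat_lit 1,nat_lit 1,nat_lit 6,nat_lit 1,nat_lit 3,nat_lit 6,nat_lit 2,nat_lit 2,nat_lit 8],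
  [nat_lit 4,nat_lit 6,nat_lit 2,nat_lit 5,nat_lit 2,nat_lit 2,nat_lit 5,nat_lit 2,nat_lit 3,nat_lit 8],
  [nat_lit 3,nat_lit 5,nat_lit 1,nat_lit 6,nat_lit 2,nat_lit 4,nat_lit 6,nat_lit 1,nat_lit 5,nat_lit 8],
  [nat_lit 1,nat_lit 6,nat_lit 1,nat_lit 6,nat_lit 2,nat_lit 2,nat_lit 5,nat_lit 1,nat_lit 5,nat_lit 1,nat_lit 8],
  [nat_lit 1,nat_lit 6,nat_lit 1,nat_lit 6,nat_lit 2,nat_lit 2,nat_lit 5,nat_lit 1,nat_lit 5,nat_lit 1,nat_lit 8,nat_lit 7],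
  [nat_lit 3,nat_lit 5,nat_lit 1,nat_lit 6,nat_lit 2,nat_lit 4,nat_lit 6,nat_lit 1,nat_lit 5,nat_lit 7,nat_lit 8],
  [nat_lit 1,nat_lit 1,nat_lit 4,nat_lit 5,nat_lit 2,nat_lit 5,nat_lit 2,nat_lit 2,nat_lit 6,nat_lit 8,nat_lit 7],
  [nat_lit 2,nat_lit 4,nat_lit 6,nat_lit 1,nat_lit 6,nat_lit 1,nat_lit 6,nat_lit 2,nat_lit 6,nat_lit 8],
  [nat_lit 4,nat_lit 1,nat_lit 6,nat_lit 1,nat_lit 1,nat_lit 6,nat_lit 1,nat_lit 3,nat_lit 5,nat_lit 8],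
  [nat_lit 1,nat_lit 1,nat_lit 4,nat_lit 5,nat_lit 2,nat_lit 5,nat_lit 2,nat_lit 2,nat_lit 6,nat_lit 8],
  [nat_lit 2,nat_lit 2,nat_lit 5,nat_lit 1,nat_lit 4,nat_lit 6,nat_lit 2,nat_lit 5,nat_lit 1,nat_lit 8],
  [nat_lit 1,nat_lit 1,nat_lit 5,nat_lit 2,nat_lit 4,nat_lit 6,nat_lit 1,nat_lit 5,nat_lit 2,nat_lit 8],
  [nat_lit 1,nat_lit 1,nat_lit 5,nat_lit 2,nat_lit 4,nat_lit 6,nat_lit 1,nat_lit 5,nat_lit 2,nat_lit 8,nat_lit 7],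
  [nat_lit 2,nat_lit 2,nat_lit 5,nat_lit 1,nat_lit 4,nat_lit 6,nat_lit 2,nat_lit 5,nat_lit 1,nat_lit 7,nat_lit 8],
  [nat_lit 2,nat_lit 6,nat_lit 1,nat_lit 5,nat_lit 1,nat_lit 6,nat_lit 2,nat_lit 5,nat_lit 8],
  [nat_lit 2,nat_lit 6,nat_lit 1,nat_lit 5,nat_lit 1,nat_lit 6,nat_lit 2,nat_lit 5,nat_lit 8,nat_lit 7],
  [nat_lit 2,nat_lit 5,nat_lit 2,nat_lit 6,nat_lit 2,nat_lit 6,nat_lit 2,nat_lit 5,nat_lit 2,nat_lit 5,nat_lit 8],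
  [nat_lit 2,nat_lit 6,nat_lit 1,nat_lit 5,nat_lit 1,nat_lit 6,nat_lit 2,nat_lit 5,nat_lit 7,nat_lit 8],
  [nat_lit 1,nat_lit 4,nat_lit 6,nat_lit 2,nat_lit 6,nat_lit 2,nat_lit 6,nat_lit 1,nat_lit 6,nat_lit 8],
  [nat_lit 1,nat_lit 4,nat_lit 1,nat_lit 5,nat_lit 1,nat_lit 5,nat_lit 1,nat_lit 1,nat_lit 6,nat_lit 7,nat_lit 8],
  [nat_lit 1,nat_lit 4,nat_lit 1,nat_lit 5,nat_lit 1,nat_lit 5,nat_lit 1,nat_lit 1,nat_lit 6,nat_lit 8],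
  [nat_lit 4,nat_lit 2,nat_lit 6,nat_lit 2,nat_lit 2,nat_lit 6,nat_lit 2,nat_lit 3,nat_lit 5,nat_lit 8],
  [nat_lit 1,nat_lit 5,nat_lit 1,nat_lit 1,nat_lit 6,nat_lit 2,nat_lit 6,nat_lit 1,nat_lit 1,nat_lit 5,nat_lit 1,nat_lit 5,nat_lit 8],
  [nat_lit 1,nat_lit 5,nat_lit 2,nat_lit 5,nat_lit 1,nat_lit 6,nat_lit 2,nat_lit 6,nat_lit 1,nat_lit 3,nat_lit 5,nat_lit 8],
  [nat_lit 1,nat_lit 1,nat_lit 6,nat_lit 1,nat_lit 3,nat_lit 5,nat_lit 2,nat_lit 5,nat_lit 1,nat_lit 6,nat_lit 1,nat_lit 8],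
  [nat_lit 2,nat_lit 5,nat_lit 1,nat_lit 5,nat_lit 2,nat_lit 6,nat_lit 1,nat_lit 6,nat_lit 2,nat_lit 3,nat_lit 5,nat_lit 8],
  [nat_lit 1,nat_lit 6,nat_lit 2,nat_lit 5,nat_lit 2,nat_lit 6,nat_lit 1,nat_lit 5,nat_lit 8],
  [nat_lit 1,nat_lit 6,nat_lit 2,nat_lit 5,nat_lit 2,nat_lit 6,nat_lit 1,nat_lit 5,nat_lit 8,nat_lit 7],
  [nat_lit 1,nat_lit 5,nat_lit 1,nat_lit 6,nat_lit 1,nat_lit 6,nat_lit 1,nat_lit 5,nat_lit 1,nat_lit 5,nat_lit 8],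
  [nat_lit 1,nat_lit 6,nat_lit 2,nat_lit 5,nat_lit 2,nat_lit 6,nat_lit 1,nat_lit 5,nat_lit 7,nat_lit 8],
  [nat_lit 5,nat_lit 2,nat_lit 5,nat_lit 1,nat_lit 5,nat_lit 1,nat_lit 3,nat_lit 5,nat_lit 2,nat_lit 8],
  [nat_lit 4,nat_lit 6,nat_lit 1,nat_lit 5,nat_lit 1,nat_lit 1,nat_lit 5,nat_lit 1,nat_lit 3,nat_lit 8],
  [nat_lit 5,nat_lit 2,nat_lit 2,nat_lit 6,nat_lit 2,nat_lit 3,nat_lit 6,nat_lit 1,nat_lit 1,nat_lit 8],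
  [nat_lit 5,nat_lit 2,nat_lit 2,nat_lit 6,nat_lit 2,nat_lit 3,nat_lit 6,nat_lit 1,nat_lit 1,nat_lit 8,nat_lit 7],
  [nat_lit 1,nat_lit 3,nat_lit 5,nat_lit 2,nat_lit 6,nat_lit 1,nat_lit 3,nat_lit 5,nat_lit 2,nat_lit 2,nat_lit 8],
  [nat_lit 1,nat_lit 3,nat_lit 5,nat_lit 2,nat_lit 6,nat_lit 1,nat_lit 3,nat_lit 5,nat_lit 2,nat_lit 2,nat_lit 8,nat_lit 7],
  [nat_lit 1,nat_lit 1,nat_lit 6,nat_lit 2,nat_lit 5,nat_lit 1,nat_lit 1,nat_lit 6,nat_lit 1,nat_lit 5,nat_lit 2,nat_lit 7,nat_lit 8],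
  [nat_lit 1,nat_lit 1,nat_lit 6,nat_lit 2,nat_lit 5,nat_lit 1,nat_lit 1,nat_lit 6,nat_lit 1,nat_lit 5,nat_lit 2,nat_lit 8],
  [nat_lit 3,nat_lit 6,nat_lit 1,nat_lit 6,nat_lit 1,nat_lit 3,nat_lit 5,nat_lit 1,nat_lit 8],
  [nat_lit 2,nat_lit 4,nat_lit 6,nat_lit 2,nat_lit 5,nat_lit 2,nat_lit 4,nat_lit 5,nat_lit 7,nat_lit 8],
  [nat_lit 2,nat_lit 4,nat_lit 6,nat_lit 2,nat_lit 5,nat_lit 2,nat_lit 4,nat_lit 5,nat_lit 8],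
  [nat_lit 2,nat_lit 4,nat_lit 6,nat_lit 2,nat_lit 5,nat_lit 2,nat_lit 4,nat_lit 5,nat_lit 8,nat_lit 7],
  [nat_lit 1,nat_lit 4,nat_lit 1,nat_lit 6,nat_lit 1,nat_lit 5,nat_lit 1,nat_lit 4,nat_lit 5,nat_lit 2,nat_lit 5,nat_lit 8],
  [nat_lit 3,nat_lit 1,nat_lit 6,nat_lit 1,nat_lit 5,nat_lit 1,nat_lit 1,nat_lit 5,nat_lit 2,nat_lit 6,nat_lit 8],
  [nat_lit 1,nat_lit 1,nat_lit 5,nat_lit 2,nat_lit 4,nat_lit 6,nat_lit 2,nat_lit 6,nat_lit 1,nat_lit 1,nat_lit 6,nat_lit 8],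
  [nat_lit 1,nat_lit 6,nat_lit 2,nat_lit 4,nat_lit 6,nat_lit 2,nat_lit 5,nat_lit 1,nat_lit 3,nat_lit 6,nat_lit 8],
  [nat_lit 2,nat_lit 6,nat_lit 1,nat_lit 5,nat_lit 2,nat_lit 5,nat_lit 1,nat_lit 1,nat_lit 6,nat_lit 8],
  [nat_lit 2,nat_lit 6,nat_lit 1,nat_lit 5,nat_lit 2,nat_lit 5,nat_lit 1,nat_lit 1,nat_lit 6,nat_lit 8,nat_lit 7],
  [nat_lit 5,nat_lit 2,nat_lit 2,nat_lit 6,nat_lit 1,nat_lit 6,nat_lit 2,nat_lit 5,nat_lit 1,nat_lit 8],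
  [nat_lit 1,nat_lit 3,nat_lit 5,nat_lit 1,nat_lit 6,nat_lit 2,nat_lit 4,nat_lit 5,nat_lit 2,nat_lit 5,nat_lit 8],
  [nat_lit 2,nat_lit 3,nat_lit 6,nat_lit 1,nat_lit 6,nat_lit 2,nat_lit 4,nat_lit 6,nat_lit 7,nat_lit 8],
  [nat_lit 2,nat_lit 3,nat_lit 6,nat_lit 1,nat_lit 6,nat_lit 2,nat_lit 4,nat_lit 6,nat_lit 8],
  [nat_lit 2,nat_lit 3,nat_lit 6,nat_lit 1,nat_lit 6,nat_lit 2,nat_lit 4,nat_lit 6,nat_lit 8,nat_lit 7],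
  [nat_lit 2,nat_lit 3,nat_lit 6,nat_lit 1,nat_lit 6,nat_lit 2,nat_lit 4,nat_lit 6,nat_lit 7,nat_lit 7,nat_lit 8],
  [nat_lit 1,nat_lit 4,nat_lit 5,nat_lit 2,nat_lit 3,nat_lit 5,nat_lit 1,nat_lit 5,nat_lit 8],
  [nat_lit 1,nat_lit 4,nat_lit 5,nat_lit 2,nat_lit 3,nat_lit 5,nat_lit 1,nat_lit 5,nat_lit 8,nat_lit 7],
  [nat_lit 1,nat_lit 4,nat_lit 5,nat_lit 2,nat_lit 3,nat_lit 5,nat_lit 1,nat_lit 5,nat_lit 7,nat_lit 7,nat_lit 8],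
  [nat_lit 1,nat_lit 4,nat_lit 5,nat_lit 2,nat_lit 3,nat_lit 5,nat_lit 1,nat_lit 5,nat_lit 7,nat_lit 8],
  [nat_lit 6,nat_lit 1,nat_lit 5,nat_lit 2,nat_lit 6,nat_lit 2,nat_lit 5,nat_lit 1,nat_lit 8,nat_lit 7],
  [nat_lit 1,nat_lit 1,nat_lit 6,nat_lit 2,nat_lit 5,nat_lit 1,nat_lit 6,nat_lit 1,nat_lit 5,nat_lit 7,nat_lit 8],
  [nat_lit 1,nat_lit 1,nat_lit 6,nat_lit 2,nat_lit 5,nat_lit 1,nat_lit 6,nat_lit 1,nat_lit 5,nat_lit 8],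
  [nat_lit 6,nat_lit 1,nat_lit 5,nat_lit 2,nat_lit 6,nat_lit 2,nat_lit 5,nat_lit 1,nat_lit 8]]

def E6 : List (ℕ × ℕ × List ℕ × List ℕ) := [(nat_lit 1476290, nat_lit 0, [nat_lit 5,nat_lit 2,nat_lit 4,nat_lit 6], [nat_lit 2,nat_lit 5,nat_lit 2,nat_lit 5,nat_lit 1,nat_lit 5,nat_lit 1,nat_lit 5]),
  (nat_lit 1492672, nat_lit 0, [nat_lit 2,nat_lit 2,nat_lit 2,nat_lit 5,nat_lit 1,nat_lit 1], [nat_lit 1,nat_lit 5,nat_lit 1,nat_lit 5,nat_lit 1,nat_lit 1,nat_lit 6,nat_lit 1]),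
  (nat_lit 1870193, nat_lit 0, [nat_lit 3,nat_lit 5,nat_lit 2,nat_lit 6], [nat_lit 2,nat_lit 3,nat_lit 5,nat_lit 2,nat_lit 6,nat_lit 1,nat_lit 4,nat_lit 5,nat_lit 1,nat_lit 5]),
  (nat_lit 1886579, nat_lit 0, [nat_lit 1,nat_lit 1,nat_lit 6,nat_lit 1,nat_lit 4], [nat_lit 1,nat_lit 6,nat_lit 2,nat_lit 5,nat_lit 1,nat_lit 5,nat_lit 2,nat_lit 2,nat_lit 6,nat_lit 7]),
  (nat_lit 5251811, nat_lit 0, [nat_lit 3,nat_lit 1,nat_lit 5,nat_lit 1,nat_lit 1], [nat_lit 6,nat_lit 2,nat_lit 4,nat_lit 5,nat_lit 2,nat_lit 6,nat_lit 2,nat_lit 4,nat_lit 7]),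
  (nat_lit 5268193, nat_lit 0, [nat_lit 1,nat_lit 4,nat_lit 1,nat_lit 6,nat_lit 2,nat_lit 3], [nat_lit 3,nat_lit 1,nat_lit 5,nat_lit 1,nat_lit 3,nat_lit 6,nat_lit 1,nat_lit 5,nat_lit 7]),
  (nat_lit 7807975, nat_lit 0, [nat_lit 1,nat_lit 1,nat_lit 4,nat_lit 6,nat_lit 1,nat_lit 3], [nat_lit 6,nat_lit 1,nat_lit 4,nat_lit 5,nat_lit 1,nat_lit 6,nat_lit 1,nat_lit 4,nat_lit 7]),
  (nat_lit 7824357, nat_lit 0, [nat_lit 3,nat_lit 2,nat_lit 5,nat_lit 2,nat_lit 2], [nat_lit 3,nat_lit 2,nat_lit 5,nat_lit 2,nat_lit 3,nat_lit 6,nat_lit 2,nat_lit 5,nat_lit 7]),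
  (nat_lit 9446625, nat_lit 0, [nat_lit 2,nat_lit 3,nat_lit 6,nat_lit 2,nat_lit 5,nat_lit 1], [nat_lit 1,nat_lit 4,nat_lit 6,nat_lit 1,nat_lit 5,nat_lit 1,nat_lit 4,nat_lit 5,nat_lit 7]),
  (nat_lit 9463011, nat_lit 0, [nat_lit 1,nat_lit 4,nat_lit 6,nat_lit 2,nat_lit 5], [nat_lit 3,nat_lit 6,nat_lit 2,nat_lit 6,nat_lit 2,nat_lit 3,nat_lit 5,nat_lit 2,nat_lit 7]),
  (nat_lit 9514549, nat_lit 0, [nat_lit 2,nat_lit 6,nat_lit 1,nat_lit 5], [nat_lit 2,nat_lit 6,nat_lit 1,nat_lit 4,nat_lit 6,nat_lit 1,nat_lit 5,nat_lit 2,nat_lit 3,nat_lit 6]),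
  (nat_lit 9530935, nat_lit 0, [nat_lit 1,nat_lit 5,nat_lit 2,nat_lit 2,nat_lit 6], [nat_lit 3,nat_lit 2,nat_lit 6,nat_lit 2,nat_lit 5,nat_lit 2,nat_lit 2,nat_lit 5,nat_lit 1,nat_lit 6]),
  (nat_lit 11241044, nat_lit 0, [nat_lit 1,nat_lit 1,nat_lit 1,nat_lit 5,nat_lit 2,nat_lit 2], [nat_lit 1,nat_lit 5,nat_lit 1,nat_lit 1,nat_lit 6,nat_lit 1,nat_lit 6,nat_lit 1]),
  (nat_lit 11257430, nat_lit 0, [nat_lit 5,nat_lit 1,nat_lit 4,nat_lit 6], [nat_lit 1,nat_lit 5,nat_lit 1,nat_lit 5,nat_lit 2,nat_lit 5,nat_lit 2,nat_lit 5]),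
  (nat_lit 14585595, nat_lit 0, [], [nat_lit 1,nat_lit 5,nat_lit 1,nat_lit 1,nat_lit 6,nat_lit 2,nat_lit 6,nat_lit 1,nat_lit 1,nat_lit 5,nat_lit 1,nat_lit 5]),
  (nat_lit 14601977, nat_lit 0, [nat_lit 1,nat_lit 1,nat_lit 6,nat_lit 2,nat_lit 6,nat_lit 1,nat_lit 4], [nat_lit 1,nat_lit 1,nat_lit 6,nat_lit 1,nat_lit 3,nat_lit 5,nat_lit 2,nat_lit 5,nat_lit 1,nat_lit 6,nat_lit 1]),
  (nat_lit 25954139, nat_lit 0, [nat_lit 3,nat_lit 5,nat_lit 1,nat_lit 6], [nat_lit 1,nat_lit 3,nat_lit 5,nat_lit 1,nat_lit 6,nat_lit 2,nat_lit 4,nat_lit 5,nat_lit 2,nat_lit 5]),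
  (nat_lit 25970521, nat_lit 0, [nat_lit 2,nat_lit 2,nat_lit 6,nat_lit 2,nat_lit 4], [nat_lit 5,nat_lit 2,nat_lit 2,nat_lit 6,nat_lit 1,nat_lit 6,nat_lit 2,nat_lit 5,nat_lit 1,nat_lit 7]),
  (nat_lit 27624919, nat_lit 0, [nat_lit 1,nat_lit 3,nat_lit 6,nat_lit 1,nat_lit 5,nat_lit 2], [nat_lit 3,nat_lit 6,nat_lit 1,nat_lit 6,nat_lit 1,nat_lit 3,nat_lit 5,nat_lit 1,nat_lit 7]),
  (nat_lit 27641301, nat_lit 0, [nat_lit 2,nat_lit 4,nat_lit 6,nat_lit 1,nat_lit 5], [nat_lit 2,nat_lit 4,nat_lit 6,nat_lit 2,nat_lit 5,nat_lit 2,nat_lit 4,nat_lit 5,nat_lit 7]),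
  (nat_lit 30026919, nat_lit 0, [nat_lit 1,nat_lit 6,nat_lit 2,nat_lit 5], [nat_lit 1,nat_lit 6,nat_lit 2,nat_lit 4,nat_lit 6,nat_lit 2,nat_lit 5,nat_lit 1,nat_lit 3,nat_lit 6]),
  (nat_lit 30043301, nat_lit 0, [nat_lit 2,nat_lit 5,nat_lit 1,nat_lit 1,nat_lit 6], [nat_lit 3,nat_lit 1,nat_lit 6,nat_lit 1,nat_lit 5,nat_lit 1,nat_lit 1,nat_lit 5,nat_lit 2,nat_lit 6]),
  (nat_lit 31625920, nat_lit 1, [nat_lit 2,nat_lit 6,nat_lit 2,nat_lit 3,nat_lit 5,nat_lit 2], [nat_lit 2,nat_lit 4,nat_lit 5,nat_lit 1,nat_lit 3,nat_lit 5,nat_lit 2,nat_lit 5,nat_lit 8]),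
  (nat_lit 31634113, nat_lit 1, [nat_lit 1,nat_lit 1,nat_lit 6,nat_lit 1,nat_lit 3,nat_lit 6,nat_lit 2,nat_lit 2], [nat_lit 2,nat_lit 4,nat_lit 5,nat_lit 1,nat_lit 3,nat_lit 5,nat_lit 2,nat_lit 5,nat_lit 8,nat_lit 7]),
  (nat_lit 31642306, nat_lit 1, [nat_lit 2,nat_lit 6,nat_lit 2,nat_lit 6,nat_lit 1,nat_lit 6,nat_lit 1], [nat_lit 1,nat_lit 5,nat_lit 1,nat_lit 5,nat_lit 1,nat_lit 5,nat_lit 2,nat_lit 2,nat_lit 6,nat_lit 2,nat_lit 8]),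
  (nat_lit 31650499, nat_lit 1, [nat_lit 2,nat_lit 5,nat_lit 1,nat_lit 6,nat_lit 1,nat_lit 5,nat_lit 2], [nat_lit 2,nat_lit 4,nat_lit 5,nat_lit 1,nat_lit 3,nat_lit 5,nat_lit 2,nat_lit 5,nat_lit 7,nat_lit 8]),
  (nat_lit 31887104, nat_lit 1, [], [nat_lit 8]),
  (nat_lit 31895297, nat_lit 1, [nat_lit 1,nat_lit 5,nat_lit 2,nat_lit 3,nat_lit 6,nat_lit 1,nat_lit 3,nat_lit 5,nat_lit 2], [nat_lit 8,nat_lit 7]),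
  (nat_lit 31903490, nat_lit 1, [nat_lit 1,nat_lit 5,nat_lit 2,nat_lit 5,nat_lit 1,nat_lit 6,nat_lit 2,nat_lit 6,nat_lit 1], [nat_lit 7,nat_lit 7,nat_lit 8]),
  (nat_lit 31911683, nat_lit 1, [nat_lit 1,nat_lit 1,nat_lit 5,nat_lit 2,nat_lit 4,nat_lit 6,nat_lit 1,nat_lit 5,nat_lit 2], [nat_lit 7,nat_lit 8]),
  (nat_lit 42996784, nat_lit 1, [nat_lit 1,nat_lit 3,nat_lit 5,nat_lit 1,nat_lit 6,nat_lit 1], [nat_lit 1,nat_lit 3,nat_lit 6,nat_lit 2,nat_lit 6,nat_lit 1,nat_lit 4,nat_lit 6,nat_lit 8]),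
  (nat_lit 43004977, nat_lit 1, [nat_lit 1,nat_lit 6,nat_lit 2,nat_lit 6,nat_lit 2,nat_lit 5], [nat_lit 1,nat_lit 3,nat_lit 6,nat_lit 2,nat_lit 6,nat_lit 1,nat_lit 4,nat_lit 6,nat_lit 8,nat_lit 7]),
  (nat_lit 43013170, nat_lit 1, [nat_lit 2,nat_lit 5,nat_lit 2,nat_lit 5,nat_lit 1,nat_lit 4], [nat_lit 1,nat_lit 3,nat_lit 6,nat_lit 2,nat_lit 6,nat_lit 1,nat_lit 4,nat_lit 6,nat_lit 7,nat_lit 7,nat_lit 8]),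
  (nat_lit 43021363, nat_lit 1, [nat_lit 2,nat_lit 5,nat_lit 1,nat_lit 5,nat_lit 1,nat_lit 6,nat_lit 2], [nat_lit 1,nat_lit 3,nat_lit 6,nat_lit 2,nat_lit 6,nat_lit 1,nat_lit 4,nat_lit 6,nat_lit 7,nat_lit 8]),
  (nat_lit 43424952, nat_lit 1, [nat_lit 1,nat_lit 1,nat_lit 6,nat_lit 2,nat_lit 6,nat_lit 1,nat_lit 4], [nat_lit 3,nat_lit 5,nat_lit 2,nat_lit 6,nat_lit 1,nat_lit 4,nat_lit 6,nat_lit 2,nat_lit 5,nat_lit 8]),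
  (nat_lit 43433145, nat_lit 1, [nat_lit 1,nat_lit 5,nat_lit 2,nat_lit 5,nat_lit 1,nat_lit 1], [nat_lit 3,nat_lit 5,nat_lit 2,nat_lit 6,nat_lit 1,nat_lit 4,nat_lit 6,nat_lit 2,nat_lit 5,nat_lit 8,nat_lit 7]),
  (nat_lit 43441338, nat_lit 1, [nat_lit 1,nat_lit 6,nat_lit 1,nat_lit 6,nat_lit 2,nat_lit 4,nat_lit 5], [nat_lit 2,nat_lit 6,nat_lit 2,nat_lit 6,nat_lit 1,nat_lit 1,nat_lit 5,nat_lit 2,nat_lit 5,nat_lit 2,nat_lit 7,nat_lit 8]),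
  (nat_lit 43449531, nat_lit 1, [nat_lit 2,nat_lit 5,nat_lit 1,nat_lit 5,nat_lit 1], [nat_lit 2,nat_lit 6,nat_lit 2,nat_lit 6,nat_lit 1,nat_lit 1,nat_lit 5,nat_lit 2,nat_lit 5,nat_lit 2,nat_lit 8]),
  (nat_lit 47226232, nat_lit 1, [nat_lit 1,nat_lit 1,nat_lit 6,nat_lit 2,nat_lit 4,nat_lit 6,nat_lit 2], [nat_lit 3,nat_lit 5,nat_lit 1,nat_lit 6,nat_lit 2,nat_lit 4,nat_lit 6,nat_lit 1,nat_lit 5,nat_lit 8]),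
  (nat_lit 47234425, nat_lit 1, [nat_lit 1,nat_lit 5,nat_lit 2,nat_lit 5,nat_lit 2], [nat_lit 1,nat_lit 6,nat_lit 1,nat_lit 6,nat_lit 2,nat_lit 2,nat_lit 5,nat_lit 1,nat_lit 5,nat_lit 1,nat_lit 8]),
  (nat_lit 47242618, nat_lit 1, [nat_lit 2,nat_lit 6,nat_lit 2,nat_lit 6,nat_lit 1,nat_lit 4,nat_lit 5], [nat_lit 1,nat_lit 6,nat_lit 1,nat_lit 6,nat_lit 2,nat_lit 2,nat_lit 5,nat_lit 1,nat_lit 5,nat_lit 1,nat_lit 8,nat_lit 7]),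
  (nat_lit 47250811, nat_lit 1, [nat_lit 2,nat_lit 5,nat_lit 1,nat_lit 5,nat_lit 2,nat_lit 2], [nat_lit 3,nat_lit 5,nat_lit 1,nat_lit 6,nat_lit 2,nat_lit 4,nat_lit 6,nat_lit 1,nat_lit 5,nat_lit 7,nat_lit 8]),
  (nat_lit 49618427, nat_lit 1, [nat_lit 1,nat_lit 6,nat_lit 1,nat_lit 6,nat_lit 2,nat_lit 5,nat_lit 1,nat_lit 3], [nat_lit 1,nat_lit 5,nat_lit 1,nat_lit 1,nat_lit 6,nat_lit 2,nat_lit 6,nat_lit 1,nat_lit 1,nat_lit 5,nat_lit 1,nat_lit 5,nat_lit 8]),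
  (nat_lit 49626616, nat_lit 1, [nat_lit 2,nat_lit 5,nat_lit 1,nat_lit 4,nat_lit 5,nat_lit 2], [nat_lit 1,nat_lit 5,nat_lit 2,nat_lit 5,nat_lit 1,nat_lit 6,nat_lit 2,nat_lit 6,nat_lit 1,nat_lit 3,nat_lit 5,nat_lit 8]),
  (nat_lit 49634809, nat_lit 1, [nat_lit 1,nat_lit 1,nat_lit 6,nat_lit 2,nat_lit 3,nat_lit 6,nat_lit 1], [nat_lit 1,nat_lit 1,nat_lit 6,nat_lit 1,nat_lit 3,nat_lit 5,nat_lit 2,nat_lit 5,nat_lit 1,nat_lit 6,nat_lit 1,nat_lit 8]),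
  (nat_lit 49643002, nat_lit 1, [nat_lit 1,nat_lit 5,nat_lit 2,nat_lit 4,nat_lit 5,nat_lit 1], [nat_lit 2,nat_lit 5,nat_lit 1,nat_lit 5,nat_lit 2,nat_lit 6,nat_lit 1,nat_lit 6,nat_lit 2,nat_lit 3,nat_lit 5,nat_lit 8]),
  (nat_lit 60822783, nat_lit 1, [nat_lit 2,nat_lit 6,nat_lit 1,nat_lit 6,nat_lit 1,nat_lit 5], [nat_lit 2,nat_lit 3,nat_lit 6,nat_lit 1,nat_lit 6,nat_lit 2,nat_lit 4,nat_lit 6,nat_lit 7,nat_lit 8]),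
  (nat_lit 60830972, nat_lit 1, [nat_lit 2,nat_lit 3,nat_lit 5,nat_lit 2,nat_lit 6,nat_lit 2], [nat_lit 2,nat_lit 3,nat_lit 6,nat_lit 1,nat_lit 6,nat_lit 2,nat_lit 4,nat_lit 6,nat_lit 8]),
  (nat_lit 60839165, nat_lit 1, [nat_lit 1,nat_lit 5,nat_lit 2,nat_lit 5,nat_lit 2,nat_lit 6,nat_lit 1], [nat_lit 2,nat_lit 3,nat_lit 6,nat_lit 1,nat_lit 6,nat_lit 2,nat_lit 4,nat_lit 6,nat_lit 8,nat_lit 7]),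
  (nat_lit 60847358, nat_lit 1, [nat_lit 1,nat_lit 5,nat_lit 1,nat_lit 5,nat_lit 2,nat_lit 4], [nat_lit 2,nat_lit 3,nat_lit 6,nat_lit 1,nat_lit 6,nat_lit 2,nat_lit 4,nat_lit 6,nat_lit 7,nat_lit 7,nat_lit 8]),
  (nat_lit 60920276, nat_lit 1, [nat_lit 1,nat_lit 6,nat_lit 1,nat_lit 3,nat_lit 5,nat_lit 1], [nat_lit 1,nat_lit 4,nat_lit 5,nat_lit 2,nat_lit 3,nat_lit 5,nat_lit 1,nat_lit 5,nat_lit 8]),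
  (nat_lit 60928469, nat_lit 1, [nat_lit 1,nat_lit 5,nat_lit 1,nat_lit 1,nat_lit 5,nat_lit 1,nat_lit 3], [nat_lit 1,nat_lit 4,nat_lit 5,nat_lit 2,nat_lit 3,nat_lit 5,nat_lit 1,nat_lit 5,nat_lit 8,nat_lit 7]),
  (nat_lit 60936662, nat_lit 1, [nat_lit 1,nat_lit 6,nat_lit 1,nat_lit 6,nat_lit 2,nat_lit 6,nat_lit 2], [nat_lit 1,nat_lit 4,nat_lit 5,nat_lit 2,nat_lit 3,nat_lit 5,nat_lit 1,nat_lit 5,nat_lit 7,nat_lit 7,nat_lit 8]),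
  (nat_lit 60944855, nat_lit 1, [nat_lit 1,nat_lit 1,nat_lit 5,nat_lit 2,nat_lit 6,nat_lit 1,nat_lit 5,nat_lit 1], [nat_lit 1,nat_lit 4,nat_lit 5,nat_lit 2,nat_lit 3,nat_lit 5,nat_lit 1,nat_lit 5,nat_lit 7,nat_lit 8]),
  (nat_lit 18362078, nat_lit 0, [nat_lit 4,nat_lit 1], [nat_lit 6,nat_lit 1,nat_lit 6,nat_lit 2,nat_lit 5,nat_lit 2,nat_lit 5,nat_lit 1,nat_lit 3,nat_lit 5,nat_lit 7]),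
  (nat_lit 18378460, nat_lit 0, [nat_lit 2,nat_lit 5,nat_lit 1,nat_lit 6,nat_lit 1,nat_lit 6], [nat_lit 1,nat_lit 4,nat_lit 1,nat_lit 6,nat_lit 2,nat_lit 3,nat_lit 5,nat_lit 1,nat_lit 5,nat_lit 2,nat_lit 6]),
  (nat_lit 23397129, nat_lit 0, [nat_lit 5,nat_lit 2,nat_lit 5,nat_lit 2,nat_lit 3,nat_lit 6], [nat_lit 1,nat_lit 6,nat_lit 1,nat_lit 5,nat_lit 1,nat_lit 3,nat_lit 5,nat_lit 1,nat_lit 7]),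
  (nat_lit 23413515, nat_lit 0, [nat_lit 4,nat_lit 6,nat_lit 1,nat_lit 5], [nat_lit 1,nat_lit 5,nat_lit 2,nat_lit 6,nat_lit 2,nat_lit 6,nat_lit 1,nat_lit 3,nat_lit 7]),
  (nat_lit 28035833, nat_lit 0, [nat_lit 1,nat_lit 1,nat_lit 5,nat_lit 1,nat_lit 3], [nat_lit 1,nat_lit 6,nat_lit 2,nat_lit 2,nat_lit 6,nat_lit 2,nat_lit 5,nat_lit 1,nat_lit 6,nat_lit 1]),
  (nat_lit 28019451, nat_lit 0, [nat_lit 2,nat_lit 2,nat_lit 6,nat_lit 2,nat_lit 2], [nat_lit 3,nat_lit 5,nat_lit 1,nat_lit 3,nat_lit 6,nat_lit 1,nat_lit 5,nat_lit 1,nat_lit 1,nat_lit 7]),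
  (nat_lit 1175245, nat_lit 0, [nat_lit 5,nat_lit 1,nat_lit 6,nat_lit 1,nat_lit 6,nat_lit 2], [nat_lit 2,nat_lit 5,nat_lit 1,nat_lit 1,nat_lit 5,nat_lit 2,nat_lit 6,nat_lit 1,nat_lit 1,nat_lit 6]),
  (nat_lit 1158863, nat_lit 0, [nat_lit 1,nat_lit 3], [nat_lit 6,nat_lit 2,nat_lit 6,nat_lit 1,nat_lit 1,nat_lit 5,nat_lit 2,nat_lit 5,nat_lit 1,nat_lit 7]),
  (nat_lit 6400451, nat_lit 0, [nat_lit 2,nat_lit 2,nat_lit 5,nat_lit 2,nat_lit 3], [nat_lit 1,nat_lit 5,nat_lit 1,nat_lit 6,nat_lit 2,nat_lit 5,nat_lit 2,nat_lit 2,nat_lit 5,nat_lit 1]),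
  (nat_lit 6416833, nat_lit 0, [nat_lit 1,nat_lit 1,nat_lit 6,nat_lit 1,nat_lit 1], [nat_lit 1,nat_lit 1,nat_lit 6,nat_lit 1,nat_lit 3,nat_lit 5,nat_lit 1,nat_lit 1,nat_lit 6,nat_lit 7]),
  (nat_lit 22153117, nat_lit 0, [nat_lit 1,nat_lit 3,nat_lit 6,nat_lit 1,nat_lit 3,nat_lit 5], [nat_lit 2,nat_lit 3,nat_lit 5,nat_lit 1,nat_lit 6,nat_lit 1,nat_lit 6,nat_lit 2,nat_lit 2,nat_lit 7]),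
  (nat_lit 22169503, nat_lit 0, [nat_lit 1,nat_lit 5,nat_lit 2,nat_lit 5,nat_lit 2,nat_lit 6], [nat_lit 1,nat_lit 1,nat_lit 5,nat_lit 2,nat_lit 5,nat_lit 2,nat_lit 4,nat_lit 6,nat_lit 1,nat_lit 7]),
  (nat_lit 17581694, nat_lit 0, [nat_lit 2,nat_lit 5,nat_lit 1,nat_lit 4,nat_lit 6], [nat_lit 2,nat_lit 5,nat_lit 2,nat_lit 4,nat_lit 6,nat_lit 2,nat_lit 3,nat_lit 6,nat_lit 7,nat_lit 7]),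
  (nat_lit 17565308, nat_lit 0, [nat_lit 4,nat_lit 1,nat_lit 5,nat_lit 2,nat_lit 4], [nat_lit 2,nat_lit 5,nat_lit 2,nat_lit 4,nat_lit 6,nat_lit 2,nat_lit 3,nat_lit 6]),
  (nat_lit 19884527, nat_lit 0, [nat_lit 1,nat_lit 3,nat_lit 1,nat_lit 5,nat_lit 1,nat_lit 3], [nat_lit 4,nat_lit 5,nat_lit 2,nat_lit 3,nat_lit 6,nat_lit 2,nat_lit 5,nat_lit 2,nat_lit 5]),
  (nat_lit 19868141, nat_lit 0, [nat_lit 2,nat_lit 4,nat_lit 5,nat_lit 2,nat_lit 6], [nat_lit 2,nat_lit 5,nat_lit 2,nat_lit 5,nat_lit 2,nat_lit 4,nat_lit 6,nat_lit 1,nat_lit 3,nat_lit 6]),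
  (nat_lit 6483626, nat_lit 0, [nat_lit 4,nat_lit 2], [nat_lit 4,nat_lit 6,nat_lit 1,nat_lit 6,nat_lit 2,nat_lit 6,nat_lit 2,nat_lit 5,nat_lit 1,nat_lit 5,nat_lit 7]),
  (nat_lit 6467240, nat_lit 0, [nat_lit 1,nat_lit 5,nat_lit 2,nat_lit 6,nat_lit 2,nat_lit 6], [nat_lit 1,nat_lit 1,nat_lit 4,nat_lit 6,nat_lit 1,nat_lit 3,nat_lit 5,nat_lit 2,nat_lit 5,nat_lit 1,nat_lit 6]),
  (nat_lit 11848813, nat_lit 0, [nat_lit 6,nat_lit 1,nat_lit 3,nat_lit 5], [nat_lit 2,nat_lit 5,nat_lit 1,nat_lit 1,nat_lit 6,nat_lit 2,nat_lit 6,nat_lit 1,nat_lit 5,nat_lit 7]),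
  (nat_lit 11832431, nat_lit 0, [nat_lit 3,nat_lit 1,nat_lit 6,nat_lit 2,nat_lit 3], [nat_lit 1,nat_lit 6,nat_lit 1,nat_lit 3,nat_lit 5,nat_lit 2,nat_lit 6,nat_lit 2,nat_lit 2,nat_lit 6]),
  (nat_lit 28231375, nat_lit 0, [nat_lit 1,nat_lit 1,nat_lit 1,nat_lit 6,nat_lit 1,nat_lit 3], [nat_lit 1,nat_lit 3,nat_lit 5,nat_lit 2,nat_lit 6,nat_lit 2,nat_lit 6,nat_lit 1,nat_lit 1,nat_lit 7]),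
  (nat_lit 28214989, nat_lit 0, [nat_lit 2,nat_lit 3,nat_lit 6,nat_lit 2,nat_lit 3,nat_lit 5], [nat_lit 2,nat_lit 2,nat_lit 5,nat_lit 1,nat_lit 5,nat_lit 1,nat_lit 4,nat_lit 6,nat_lit 2,nat_lit 7]),
  (nat_lit 30647335, nat_lit 0, [nat_lit 5,nat_lit 1,nat_lit 5,nat_lit 1,nat_lit 3,nat_lit 6], [nat_lit 1,nat_lit 4,nat_lit 6,nat_lit 1,nat_lit 6,nat_lit 1,nat_lit 5,nat_lit 1,nat_lit 7]),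
  (nat_lit 30663717, nat_lit 0, [nat_lit 4,nat_lit 6,nat_lit 2,nat_lit 5], [nat_lit 2,nat_lit 6,nat_lit 2,nat_lit 5,nat_lit 2,nat_lit 3,nat_lit 5,nat_lit 2,nat_lit 7]),
  (nat_lit 24538293, nat_lit 0, [nat_lit 3,nat_lit 2,nat_lit 6,nat_lit 1,nat_lit 3], [nat_lit 1,nat_lit 5,nat_lit 2,nat_lit 2,nat_lit 6,nat_lit 1,nat_lit 6,nat_lit 2,nat_lit 5,nat_lit 7]),
  (nat_lit 24521911, nat_lit 0, [nat_lit 6,nat_lit 2,nat_lit 3,nat_lit 5], [nat_lit 6,nat_lit 1,nat_lit 5,nat_lit 2,nat_lit 5,nat_lit 1,nat_lit 1,nat_lit 6,nat_lit 2,nat_lit 7]),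
  (nat_lit 1133339, nat_lit 0, [nat_lit 1,nat_lit 4,nat_lit 5,nat_lit 1,nat_lit 6], [nat_lit 1,nat_lit 5,nat_lit 1,nat_lit 5,nat_lit 1,nat_lit 4,nat_lit 6,nat_lit 2,nat_lit 3,nat_lit 6]),
  (nat_lit 1116953, nat_lit 0, [nat_lit 2,nat_lit 3,nat_lit 2,nat_lit 5,nat_lit 2,nat_lit 3], [nat_lit 4,nat_lit 5,nat_lit 1,nat_lit 3,nat_lit 6,nat_lit 1,nat_lit 5,nat_lit 1,nat_lit 5]),
  (nat_lit 7171821, nat_lit 0, [nat_lit 2,nat_lit 3], [nat_lit 1,nat_lit 6,nat_lit 2,nat_lit 6,nat_lit 1,nat_lit 1,nat_lit 5,nat_lit 2,nat_lit 5,nat_lit 7]),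
  (nat_lit 7155439, nat_lit 0, [nat_lit 5,nat_lit 2,nat_lit 6,nat_lit 2,nat_lit 6,nat_lit 1], [nat_lit 1,nat_lit 5,nat_lit 2,nat_lit 2,nat_lit 5,nat_lit 1,nat_lit 6,nat_lit 2,nat_lit 2,nat_lit 6]),
  (nat_lit 22808130, nat_lit 0, [nat_lit 1,nat_lit 5,nat_lit 2,nat_lit 4,nat_lit 6], [nat_lit 1,nat_lit 5,nat_lit 1,nat_lit 4,nat_lit 6,nat_lit 1,nat_lit 3,nat_lit 6,nat_lit 7,nat_lit 7]),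
  (nat_lit 22824512, nat_lit 0, [nat_lit 4,nat_lit 2,nat_lit 5,nat_lit 1,nat_lit 4], [nat_lit 1,nat_lit 5,nat_lit 1,nat_lit 4,nat_lit 6,nat_lit 1,nat_lit 3,nat_lit 6])]

def kd6 : KD := ⟨[nat_lit 1,nat_lit 5,nat_lit 1,nat_lit 1,nat_lit 6,nat_lit 2,nat_lit 6,nat_lit 1,nat_lit 1,nat_lit 5,nat_lit 1,nat_lit 5], [nat_lit 1,nat_lit 1,nat_lit 6,nat_lit 2,nat_lit 6,nat_lit 1,nat_lit 4], LC6, LD6, [[nat_lit 1,nat_lit 5,nat_lit 1,nat_lit 1,nat_lit 6,nat_lit 2,nat_lit 6,nat_lit 1,nat_lit 1,nat_lit 5,nat_lit 1,nat_lit 5],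
  [nat_lit 8]], E6,
  [([], []), ([], [nat_lit 1,nat_lit 3,nat_lit 5,nat_lit 2,nat_lit 6,nat_lit 1,nat_lit 4,nat_lit 5,nat_lit 2])]⟩

theorem ext6 : extChk iB th6 6 1 3 0 = true := by decide +kernel

theorem c1_6 : kd6.chk1 (iB th6) = true := by decide +kernel

theorem c2_6 : kd6.chk2 (iB th6) = true := by decide +kernel

theorem c3_6 : kd6.chk3 (iB th6) = true := by decide +kernel

end Cfsg.ON
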